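import Groth.Prelude.Def_CurvBase
import Mathlib.AlgebraicGeometry.PullbackCarrier
import Mathlib.FieldTheory.Normal.Basic
import Mathlib.FieldTheory.IsAlgClosed.AlgebraicClosure
import Mathlib.RingTheory.AdicCompletion.Algebra
import Mathlib.RingTheory.MvPowerSeries.Basic

/-!
# Being an ordinary double point is invariant under conjugation over the base field

The points of `X_{k̄}` over a point of `X` are conjugate, and conjugation maps ordinary double points to ordinary
double points.
-/

set_option autoImplicit false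
set_option backward.isDefEq.respectTransparency false
set_option backward.isDefEq.respectTransparency.types false
set_option linter.style.haveILetI false

universe u

open CategoryTheory CategoryTheory.Limits AlgebraicGeometry IsLocalRing

noncomputable section

namespace NodalLib

/-- A ring isomorphism of local rings extends to the completions. -/
theorem exists_cplEquiv {A B : Type u} [CommRing A] [CommRing B] [IsLocalRing A] [IsLocalRing B] (φ : A ≃+* B) :
    ∃ E : AdicCompletion (maximalIdeal A) A ≃+* AdicCompletion (maximalIdeal B) B,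
      ∀ a, E (algebraMap A _ a) = algebraMap B _ (φ a) := by
  have hle : ∀ (A B : Type u) [CommRing A] [CommRing B] [IsLocalRing A] [IsLocalRing B] (φ : A ≃+* B) (n : ℕ),
      maximalIdeal A ^ n ≤ (maximalIdeal B ^ n).comap φ.toRingHom := by
    intro A B _ _ _ _ φ n
    rw [← Ideal.map_le_iff_le_comap, Ideal.map_pow]
    refine Ideal.pow_right_mono (le_of_eq ?_) n
    exact map_maximalIdeal_of_surjective φ.toRingHom φ.surjective
  let L : ∀ (A B : Type u) [CommRing A] [CommRing B] [IsLocalRing A] [IsLocalRing B] (φ : A ≃+* B),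
      AdicCompletion (maximalIdeal A) A →+* AdicCompletion (maximalIdeal B) B := fun A B _ _ _ _ φ =>
    AdicCompletion.liftRingHom _
      (fun n => (Ideal.quotientMap (maximalIdeal B ^ n) φ.toRingHom (hle A B φ n)).comp
        (AdicCompletion.evalₐ (maximalIdeal A) n).toRingHom)
      (fun {m n} hmn => RingHom.ext fun x => by
        induction x using AdicCompletion.induction_on with
        | _ f =>
          simp only [RingHom.comp_apply, AlgHom.toRingHom_eq_coe, RingHom.coe_coe, AdicCompletion.evalₐ_mk,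
            Ideal.quotientMap_mk, Ideal.Quotient.factor_mk]
          refine Ideal.Quotient.eq.2 ?_
          rw [← map_sub]
          refine hle A B φ m ?_
          have h1 := SModEq.sub_mem.mp (f.2 hmn)
          rw [smul_eq_mul, Ideal.mul_top] at h1
          rw [← neg_sub]
          exact neg_mem h1)
  have hL : ∀ (A B : Type u) [CommRing A] [CommRing B] [IsLocalRing A] [IsLocalRing B] (φ : A ≃+* B) (n : ℕ)
      (x : AdicCompletion (maximalIdeal A) A), AdicCompletion.evalₐ _ n (L A B φ x) =
        Ideal.quotientMap (maximalIdeal B ^ n) φ.toRingHom (hle A B φ n) (AdicCompletion.evalₐ _ n x) :=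
    fun A B _ _ _ _ φ n x => AdicCompletion.evalₐ_liftRingHom _ _ _ _ _
  have hinv : ∀ (A B : Type u) [CommRing A] [CommRing B] [IsLocalRing A] [IsLocalRing B] (φ : A ≃+* B)
      (x : AdicCompletion (maximalIdeal A) A), L B A φ.symm (L A B φ x) = x := by
    intro A B _ _ _ _ φ x
    refine AdicCompletion.ext_evalₐ fun n => ?_
    rw [hL, hL]
    obtain ⟨a, ha⟩ := Ideal.Quotient.mk_surjective (AdicCompletion.evalₐ (maximalIdeal A) n x)
    rw [← ha, Ideal.quotientMap_mk, Ideal.quotientMap_mk]
    exact congrArg _ (φ.symm_apply_apply a)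
  refine ⟨RingEquiv.ofRingHom (L A B φ) (L B A φ.symm)
    (RingHom.ext fun x => hinv B A φ.symm x) (RingHom.ext fun x => hinv A B φ x), fun a => ?_⟩
  refine AdicCompletion.ext_evalₐ fun n => ?_
  show AdicCompletion.evalₐ _ n (L A B φ _) = _
  rw [hL, AlgHom.commutes, AlgHom.commutes]
  rfl

/-- An ordinary double point stays one under an isomorphism which is semilinear over the ground field. -/
theorem isOrdDoublePt_semilinear {K A B : Type u} [Field K] [CommRing A] [CommRing B] [IsLocalRing A]
    [IsLocalRing B] [Algebra K A] [Algebra K B] (φ : A ≃+* B) (σ : K ≃+* K)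
    (hφ : ∀ c, φ (algebraMap K A c) = algebraMap K B (σ c)) (h : Curv2.IsOrdDoublePt K A) :
    Curv2.IsOrdDoublePt K B := by
  obtain ⟨e, he⟩ := h
  obtain ⟨E, hE⟩ := exists_cplEquiv φ
  let M : MvPowerSeries (Fin 2) K ≃+* MvPowerSeries (Fin 2) K :=
    RingEquiv.ofRingHom (MvPowerSeries.map σ.toRingHom) (MvPowerSeries.map σ.symm.toRingHom)
      (RingHom.ext fun f => MvPowerSeries.ext fun n => by simp)
      (RingHom.ext fun f => MvPowerSeries.ext fun n => by simp)
  let Q := Ideal.quotientEquiv (Ideal.span {(MvPowerSeries.X 0 * MvPowerSeries.X 1 : MvPowerSeries (Fin 2) K)})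
    (Ideal.span {(MvPowerSeries.X 0 * MvPowerSeries.X 1 : MvPowerSeries (Fin 2) K)}) M (by
      rw [Ideal.map_span, Set.image_singleton]
      congr 2
      simp [M])
  refine ⟨(E.symm.trans e).trans Q, fun c => ?_⟩
  have h1 : E.symm (algebraMap B _ (algebraMap K B c)) = algebraMap A _ (algebraMap K A (σ.symm c)) := by
    rw [E.symm_apply_eq, hE, hφ, σ.apply_symm_apply]
  show Q (e (E.symm _)) = _
  rw [h1, he, Ideal.quotientEquiv_mk]
  congr 1
  simp [M]

variable (k : Type u) [Field k]

local notation "K" => AlgebraicClosure k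
local notation "gg" => Spec.map (CommRingCat.ofHom (algebraMap k (AlgebraicClosure k)))

section

variable {X : Scheme.{u}} (f : X ⟶ Spec (CommRingCat.of k))

/-- The automorphism `id × Spec σ` of the geometric base change. -/
def tau (σ : K ≃ₐ[k] K) : pullback f gg ⟶ pullback f gg :=
  pullback.map f gg f gg (𝟙 X) (Spec.map (CommRingCat.ofHom (σ : K →+* K))) (𝟙 _)
    (by rw [Category.comp_id, Category.id_comp])
    (by
      rw [Category.comp_id, ← Spec.map_comp, ← CommRingCat.ofHom_comp]
      congr 2
      ext r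
      exact (σ.commutes r).symm)

theorem tau_fst (σ : K ≃ₐ[k] K) : tau k f σ ≫ pullback.fst f gg = pullback.fst f gg := by
  simp [tau]

theorem tau_snd (σ : K ≃ₐ[k] K) :
    tau k f σ ≫ pullback.snd f gg = pullback.snd f gg ≫ Spec.map (CommRingCat.ofHom (σ : K →+* K)) := by
  simp [tau]

instance (σ : K ≃ₐ[k] K) : IsIso (tau k f σ) := by
  haveI : IsIso (Spec.map (CommRingCat.ofHom (σ : K →+* K))) :=
    inferInstanceAs (IsIso (Spec.map σ.toRingEquiv.toCommRingCatIso.hom))
  delta tau
  infer_instance

/-- Two points of the geometric base change with the same image are conjugate. -/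
theorem exists_tau (x y : ↑(pullback f gg))
    (h : pullback.fst f gg x = pullback.fst f gg y) : ∃ σ, tau k f σ x = y := by
  obtain ⟨t, htx, hty⟩ := Scheme.Pullback.exists_preimage_pullback x y h
  obtain ⟨gx, hgx⟩ : ∃ e, e = (pullback (pullback.fst f gg) (pullback.fst f gg)).fromSpecResidueField t ≫
    pullback.fst (pullback.fst f gg) (pullback.fst f gg) := ⟨_, rfl⟩
  obtain ⟨gy, hgy⟩ : ∃ e, e = (pullback (pullback.fst f gg) (pullback.fst f gg)).fromSpecResidueField t ≫
    pullback.snd (pullback.fst f gg) (pullback.fst f gg) := ⟨_, rfl⟩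
  have hπ : gx ≫ pullback.fst f gg = gy ≫ pullback.fst f gg := by
    simp only [hgx, hgy, Category.assoc, pullback.condition]
  obtain ⟨ax, hax⟩ := Spec.map_surjective (gx ≫ pullback.snd f gg)
  obtain ⟨ay, hay⟩ := Spec.map_surjective (gy ≫ pullback.snd f gg)
  have hk : CommRingCat.ofHom (algebraMap k K) ≫ ax = CommRingCat.ofHom (algebraMap k K) ≫ ay := by
    apply Spec.map_injective
    rw [Spec.map_comp, Spec.map_comp, hax, hay, Category.assoc, Category.assoc,
      ← pullback.condition, ← Category.assoc gx, hπ, Category.assoc]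
  letI : Algebra K ((pullback (pullback.fst f gg) (pullback.fst f gg)).residueField t) := ax.hom.toAlgebra
  letI : Algebra k ((pullback (pullback.fst f gg) (pullback.fst f gg)).residueField t) :=
    (ax.hom.comp (algebraMap k K)).toAlgebra
  haveI : IsScalarTower k K ((pullback (pullback.fst f gg) (pullback.fst f gg)).residueField t) :=
    IsScalarTower.of_algebraMap_eq' rfl
  let ψ : K →ₐ[k] (pullback (pullback.fst f gg) (pullback.fst f gg)).residueField t :=
    { ay.hom with
      commutes' := fun r => (ConcreteCategory.congr_hom hk r).symm }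
  let σ : K ≃ₐ[k] K := ψ.restrictNormal' K
  have hσ : CommRingCat.ofHom (σ : K →+* K) ≫ ax = ay := by
    ext z
    exact AlgHom.restrictNormal_commutes ψ K z
  have key : gx ≫ tau k f σ = gy := by
    apply pullback.hom_ext
    · rw [Category.assoc, tau_fst, hπ]
    · rw [Category.assoc, tau_snd, ← reassoc_of% hax, ← Spec.map_comp, hσ, hay]
  refine ⟨σ, ?_⟩
  have hx : gx (closedPoint _) = x := by
    rw [hgx, Scheme.Hom.comp_apply, Scheme.fromSpecResidueField_apply]
    exact htx
  have hy : gy (closedPoint _) = y := by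
    rw [hgy, Scheme.Hom.comp_apply, Scheme.fromSpecResidueField_apply]
    exact hty
  rw [← hx, ← hy, ← key]
  rfl

end

theorem toGlobal_comp_apply {Z W : Scheme.{u}} {R : Type u} [CommRing R] (a : Z ⟶ W)
    (q : W ⟶ Spec (CommRingCat.of R)) (c : R) :
    Coh.toGlobal (a ≫ q) c = a.appTop.hom (Coh.toGlobal q c) := by
  rfl

theorem toGlobal_comp_specMap' {Z : Scheme.{u}} {R S : CommRingCat.{u}} (e : Z ⟶ Spec R) (φ : S ⟶ R) (c : S) :
    Coh.toGlobal (A := S) (e ≫ Spec.map φ) c = Coh.toGlobal (A := R) e (φ c) := by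
  have h : (Scheme.ΓSpecIso S).inv ≫ (e ≫ Spec.map φ).appTop =
      φ ≫ (Scheme.ΓSpecIso R).inv ≫ e.appTop := by
    rw [Scheme.Hom.comp_appTop, ← Category.assoc, ← Scheme.ΓSpecIso_inv_naturality, Category.assoc]
  exact congr($(h) c)

variable {X : Scheme.{u}} [X.Over (Spec (CommRingCat.of k))]

/-- Whether a point of the geometric base change is an ordinary double point depends only on its image. -/
theorem isOrdDoublePt_of_eq (x y : Curv2.bc k X K) (h : Curv2.bcFst k X K x = Curv2.bcFst k X K y)
    (hx : @Curv2.IsOrdDoublePt K _ ((Curv2.bc k X K).presheaf.stalk x) _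
      (@Curv2.stalkAlgebra K _ (Curv2.bc k X K) ⟨Curv2.bcSnd k X K⟩ x) _) :
    @Curv2.IsOrdDoublePt K _ ((Curv2.bc k X K).presheaf.stalk y) _
      (@Curv2.stalkAlgebra K _ (Curv2.bc k X K) ⟨Curv2.bcSnd k X K⟩ y) _ := by
  letI : (Curv2.bc k X K).Over (Spec (CommRingCat.of K)) := ⟨Curv2.bcSnd k X K⟩
  obtain ⟨σ, rfl⟩ := exists_tau k (X ↘ Spec (CommRingCat.of k)) y x h.symm
  letI := Curv2.stalkAlgebra K (Curv2.bc k X K) y
  letI := Curv2.stalkAlgebra K (Curv2.bc k X K) (tau k (X ↘ Spec (CommRingCat.of k)) σ y)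
  let φ := (asIso ((tau k (X ↘ Spec (CommRingCat.of k)) σ).stalkMap y)).commRingCatIsoToRingEquiv
  refine isOrdDoublePt_semilinear φ (σ : K ≃+* K) (fun c => ?_) hx
  show ((tau k (X ↘ Spec (CommRingCat.of k)) σ).stalkMap y).hom
      (((Curv2.bc k X K).presheaf.germ ⊤ _ trivial).hom (Coh.toGlobal (Curv2.bcSnd k X K) c)) =
    ((Curv2.bc k X K).presheaf.germ ⊤ y trivial).hom (Coh.toGlobal (Curv2.bcSnd k X K) (σ c))
  refine (Scheme.Hom.germ_stalkMap_apply _ _ _ _ _).trans ?_
  refine congrArg _ ?_
  refine ((toGlobal_comp_apply _ _ _).symm).trans ?_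
  rw [tau_snd]
  exact toGlobal_comp_specMap' _ _ _

end NodalLib

end
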