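import Groth.Agent.NodalLib.OpenNodal
import Groth.Agent.FibDimLib.SchemeInv
import Groth.Agent.FibDimLib.Apps
import Groth.Agent.TransLib.SyntPoint

/-!
# The maximal open on which a family is a nodal family of curves
-/

set_option autoImplicit false
set_option linter.style.haveILetI false
set_option linter.unusedSectionVars false
set_option maxHeartbeats 1000000
set_option synthInstance.maxHeartbeats 100000
set_option backward.isDefEq.respectTransparency false
set_option backward.isDefEq.respectTransparency.types false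

universe u

open CategoryTheory CategoryTheory.Limits AlgebraicGeometry IsLocalRing

noncomputable section

namespace NodalLib

variable {X S : Scheme.{u}} (f : X ⟶ S)

/-- The fibre through a point is, near that point, a nodal curve. -/
def NodalPt (p : X) : Prop :=
  FlatMor.fibreDimAt f p = 1 ∧
    @SmoothOrNode (S.residueField (f p)) _ (f.fiber (f p)) ⟨f.fiberToSpecResidueField (f p)⟩ (f.asFiber p)

/-- The condition can be checked at any name of the point of the fibre. -/
theorem smoothOrNode_fiber_congr (p : X) (s : S) (z : f.fiber s) (h : f.fiberι s z = p) :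
    @SmoothOrNode (S.residueField s) _ (f.fiber s) ⟨f.fiberToSpecResidueField s⟩ z ↔
      @SmoothOrNode (S.residueField (f p)) _ (f.fiber (f p)) ⟨f.fiberToSpecResidueField (f p)⟩ (f.asFiber p) := by
  have hs : f p = s := h ▸ (f.range_fiberι s).subset ⟨z, rfl⟩
  subst hs
  rw [(f.fiberι (f p)).isEmbedding.injective (h.trans (f.fiberι_asFiber p).symm)]

/-- Étale maps of the source do not change the fibrewise nodal condition. -/
theorem smoothOrNode_comp_etale [LocallyOfFiniteType f] {Y : Scheme.{u}} (π : Y ⟶ X) [Etale π] (y : Y) :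
    @SmoothOrNode (S.residueField (f (π y))) _ (f.fiber (f (π y))) ⟨f.fiberToSpecResidueField (f (π y))⟩
        (f.asFiber (π y)) ↔
      @SmoothOrNode (S.residueField ((π ≫ f) y)) _ ((π ≫ f).fiber ((π ≫ f) y))
        ⟨(π ≫ f).fiberToSpecResidueField ((π ≫ f) y)⟩ ((π ≫ f).asFiber y) := by
  let s := (π ≫ f) y
  letI : (f.fiber s).Over (Spec (CommRingCat.of (S.residueField s))) := ⟨f.fiberToSpecResidueField s⟩
  haveI : LocallyOfFiniteType (f.fiber s ↘ Spec (CommRingCat.of (S.residueField s))) :=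
    locallyOfFiniteType_fiberTo f s
  haveI := etale_fiberMap π f s
  have hpt : MoreMor.fiberMap π f s ((π ≫ f).asFiber y) = f.asFiber (π y) := by
    refine (f.fiberι s).isEmbedding.injective ?_
    have h1 := congrArg (fun φ : (π ≫ f).fiber s ⟶ X => φ ((π ≫ f).asFiber y)) (FlatLib.fiberMap_ι π f s)
    simp only [Scheme.Hom.comp_apply] at h1
    rw [h1, Scheme.Hom.fiberι_asFiber]
    exact (f.fiberι_asFiber (π y)).symm
  have h := smoothOrNode_etale (S.residueField s) (MoreMor.fiberMap π f s) ((π ≫ f).asFiber y)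
  rw [hpt] at h
  have hover : MoreMor.fiberMap π f s ≫ (f.fiber s ↘ Spec (CommRingCat.of (S.residueField s))) =
      (π ≫ f).fiberToSpecResidueField s := FlatLib.fiberMap_to π f s
  rw [hover] at h
  exact h

theorem nodalPt_comp_open [LocallyOfFiniteType f] {Y : Scheme.{u}} (j : Y ⟶ X) [IsOpenImmersion j] (y : Y) :
    NodalPt (j ≫ f) y ↔ NodalPt f (j y) := by
  refine and_congr ?_ (smoothOrNode_comp_etale f j y).symm
  rw [FibDimLib.fibreDimAt_comp_isOpenImmersion]

/-- A nodal family is a flat finitely presented morphism that is nodal at every point. -/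
theorem isNodalFamily_iff_pt :
    Curv2.IsNodalFamily f ↔ Flat f ∧ LocallyOfFinitePresentation f ∧ ∀ p : X, NodalPt f p := by
  rw [isNodalFamily_iff]
  refine and_congr_right fun _ => and_congr_right fun hf => ?_
  haveI := hf
  constructor
  · intro h p
    exact ⟨(localFibreDim_eq f p).symm.trans ((localFibreDim_eq_one_iff f).2 (fun s => (h s).1) p),
      (h (f p)).2 (f.asFiber p)⟩
  · intro h s
    exact ⟨(localFibreDim_eq_one_iff f).1 (fun p => (localFibreDim_eq f p).trans (h p).1) s,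
      fun z => (smoothOrNode_fiber_congr f _ s z rfl).2 (h (f.fiberι s z)).2⟩

/-- Invariance of the pointwise condition under field extension. -/
theorem smoothOrNode_isPullback {k K : Type u} [Field k] [Field K] {F : Scheme.{u}}
    (p : F ⟶ Spec (CommRingCat.of k)) [LocallyOfFiniteType p] (φ : CommRingCat.of k ⟶ CommRingCat.of K)
    {Z : Scheme.{u}} {m : Z ⟶ F} {q : Z ⟶ Spec (CommRingCat.of K)} (h : IsPullback m q p (Spec.map φ)) (z : Z) :
    @SmoothOrNode k _ F ⟨p⟩ (m z) ↔ @SmoothOrNode K _ Z ⟨q⟩ z := by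
  letI : F.Over (Spec (CommRingCat.of k)) := ⟨p⟩
  haveI : LocallyOfFiniteType (F ↘ Spec (CommRingCat.of k)) := ‹LocallyOfFiniteType p›
  letI : Algebra k K := φ.hom.toAlgebra
  let e : Z ≅ Curv2.bc k F K := h.isoIsPullback F (Spec (CommRingCat.of K)) (IsPullback.of_hasPullback p (Spec.map φ))
  have he : e.hom ≫ Curv2.bcSnd k F K = q := h.isoIsPullback_hom_snd _ _ _
  have he1 : e.hom ≫ Curv2.bcFst k F K = m := h.isoIsPullback_hom_fst _ _ _
  letI : (Curv2.bc k F K).Over (Spec (CommRingCat.of K)) := ⟨Curv2.bcSnd k F K⟩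
  haveI : LocallyOfFiniteType ((Curv2.bc k F K) ↘ Spec (CommRingCat.of K)) :=
    MorphismProperty.pullback_snd (P := @LocallyOfFiniteType) _ _ ‹LocallyOfFiniteType p›
  rw [← he1, Scheme.Hom.comp_apply, smoothOrNode_bc k K (e.hom z), smoothOrNode_etale K e.hom z]
  show @SmoothOrNode K _ Z ⟨e.hom ≫ Curv2.bcSnd k F K⟩ z ↔ _
  rw [he]

/-- The pointwise condition commutes with base change. -/
theorem nodalPt_baseChange [LocallyOfFiniteType f] {P S' : Scheme.{u}} {fst : P ⟶ X} {snd : P ⟶ S'}
    {g : S' ⟶ S} (h : IsPullback fst snd f g) (p' : P) : NodalPt snd p' ↔ NodalPt f (fst p') := by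
  refine and_congr (by rw [FibDimLib.fibreDimAt_baseChange h]) ?_
  haveI := locallyOfFiniteType_fiberTo f (g (snd p'))
  refine Iff.trans (smoothOrNode_isPullback (f.fiberToSpecResidueField (g (snd p'))) (g.residueFieldMap (snd p'))
    (isPullback_fiberToSpecResidueField_of_isPullback h (snd p')) (snd.asFiber p')).symm ?_
  refine smoothOrNode_fiber_congr f _ _ _ ?_
  exact (congrArg (fun φ : snd.fiber (snd p') ⟶ X => φ (snd.asFiber p')) (pullback.lift_fst _ _ _)).trans
    (congrArg fst (snd.fiberι_asFiber p'))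

/-- Nodal points are syntomic points. -/
theorem isSyntomicAt_of_smoothOrNode [Flat f] [LocallyOfFinitePresentation f] (p : X)
    (h : @SmoothOrNode (S.residueField (f p)) _ (f.fiber (f p)) ⟨f.fiberToSpecResidueField (f p)⟩ (f.asFiber p)) :
    Synt.IsSyntomicAt f p := by
  let k := S.residueField (f p)
  letI : (f.fiber (f p)).Over (Spec (CommRingCat.of k)) := ⟨f.fiberToSpecResidueField (f p)⟩
  haveI : LocallyOfFiniteType (f.fiber (f p) ↘ Spec (CommRingCat.of k)) := locallyOfFiniteType_fiberTo f (f p)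
  haveI := lfp_over k (X := f.fiber (f p))
  refine CIRingLib.isSyntomicAt_of_ciFib f p
    ((CIRingLib.ci_fibre_stalk_iff f (f p) (f.asFiber p) p (f.fiberι_asFiber p)).1 ?_)
  letI := Curv2.stalkAlgebra k (f.fiber (f p)) (f.asFiber p)
  haveI := essFiniteType_stalk k (f.asFiber p)
  haveI : IsNoetherianRing ((f.fiber (f p)).presheaf.stalk (f.asFiber p)) := Algebra.EssFiniteType.isNoetherianRing k _
  rcases h with hs | hn
  · haveI := (mem_smoothLocus_iff_stalk k (f.asFiber p)).1 ((smooth_nhd_iff _ _).1 hs)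
    haveI : IsRegularLocalRing ((f.fiber (f p)).presheaf.stalk (f.asFiber p)) :=
      CohenLib.isRegularLocalRing_of_formallySmooth (k := k)
    exact CIRingLib.isCompleteIntersection_of_regular _
  · obtain ⟨hsep, hq⟩ := isGeoNode_iff_qnode.1 hn
    haveI := hsep
    haveI : Algebra.FormallyEtale k (ResidueField ((f.fiber (f p)).presheaf.stalk (f.asFiber p))) :=
      Algebra.FormallyEtale.of_isSeparable k _
    exact isCompleteIntersection_of_qnode (k := k) hq

/-- The nodal points form an open set. -/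
theorem isOpen_nodalPt [Flat f] [LocallyOfFinitePresentation f] : IsOpen {p : X | NodalPt f p} := by
  let V : X.Opens := ⟨{p : X | Synt.IsSyntomicAt f p}, isOpen_iff_forall_mem_open.2 fun _ hp => by
    obtain ⟨U, W, e, hpU, hs⟩ := hp
    exact ⟨U.1, fun q hq => ⟨U, W, e, hq, hs⟩, U.1.2, hpU⟩⟩
  have hV : Synt.IsSyntomicMor (V.ι ≫ f) := fun v => by
    refine CIRingLib.isSyntomicAt_of_ciFib (V.ι ≫ f) v ?_
    have h := CIRingLib.ciFib_of_isSyntomicAt f (V.ι v) v.2
    rw [Scheme.Hom.stalkMap_comp, CommRingCat.hom_comp]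
    obtain ⟨hl, hci⟩ := h
    let e := (asIso (V.ι.stalkMap v)).commRingCatIsoToRingEquiv
    let e' := Ideal.quotientEquiv ((maximalIdeal (S.presheaf.stalk (f (V.ι v)))).map (f.stalkMap (V.ι v)).hom)
      ((maximalIdeal (S.presheaf.stalk (f (V.ι v)))).map ((V.ι.stalkMap v).hom.comp (f.stalkMap (V.ι v)).hom)) e
      (by rw [← Ideal.map_map]; rfl)
    haveI : IsNoetherianRing (X.presheaf.stalk (V.ι v) ⧸
        (maximalIdeal (S.presheaf.stalk (f (V.ι v)))).map (f.stalkMap (V.ι v)).hom) := by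
      haveI := UOpenLib.lft_fiberToSpec f (f (V.ι v))
      haveI : IsLocallyNoetherian (f.fiber (f (V.ι v))) :=
        LocallyOfFiniteType.isLocallyNoetherian (f.fiberToSpecResidueField (f (V.ι v)))
      obtain ⟨hsurj, hker⟩ := Groth.Agent.S9501.result f (f (V.ι v)) (f.asFiber (V.ι v))
      have := isNoetherianRing_of_ringEquiv _
        ((RingHom.quotientKerEquivOfSurjective hsurj).symm.trans (Ideal.quotEquivOfEq hker))
      have hgen : ∀ x' : X, f.fiberι (f (V.ι v)) (f.asFiber (V.ι v)) = x' →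
          IsNoetherianRing (X.presheaf.stalk x' ⧸ (maximalIdeal (S.presheaf.stalk (f x'))).map (f.stalkMap x').hom) := by
        rintro _ rfl
        exact this
      exact hgen _ (f.fiberι_asFiber _)
    haveI := hl
    haveI hl' := e'.isLocalRing
    haveI := isNoetherianRing_of_ringEquiv _ e'
    exact ⟨hl', @CIRingLib.isCompleteIntersection_congr _ _ _ _ hl hl' _ _ e' hci⟩
  let V₁ : X.Opens := V.ι ''ᵁ ⟨{v | FlatMor.fibreDimAt (V.ι ≫ f) v = 1},
    ((TransLib.isLocallyConstant_fibreDimAt (V.ι ≫ f) hV).isOpen_fiber 1)⟩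
  have hV₁ : ∀ p, p ∈ V₁ ↔ Synt.IsSyntomicAt f p ∧ FlatMor.fibreDimAt f p = 1 := by
    intro p
    constructor
    · rintro ⟨v, hv, rfl⟩
      exact ⟨v.2, (FibDimLib.fibreDimAt_comp_isOpenImmersion V.ι f v).symm.trans hv⟩
    · rintro ⟨hp, hd⟩
      exact ⟨⟨p, hp⟩, (FibDimLib.fibreDimAt_comp_isOpenImmersion V.ι f ⟨p, hp⟩).trans hd, rfl⟩
  have hd1 : ∀ s : S, CurveDims ((V₁.ι ≫ f).fiber s) := (localFibreDim_eq_one_iff _).1 fun v =>
    (localFibreDim_eq _ v).trans ((FibDimLib.fibreDimAt_comp_isOpenImmersion V₁.ι f v).trans ((hV₁ _).1 v.2).2)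
  have hW := V₁.ι.isOpenEmbedding.isOpenMap _ (isOpen_smoothOrNode (V₁.ι ≫ f) hd1)
  convert hW using 1
  ext p
  constructor
  · intro hp
    exact ⟨⟨p, (hV₁ p).2 ⟨isSyntomicAt_of_smoothOrNode f p hp.2, hp.1⟩⟩,
      (smoothOrNode_comp_etale f V₁.ι _).1 hp.2, rfl⟩
  · rintro ⟨v, hv, rfl⟩
    exact ⟨((hV₁ _).1 v.2).2, (smoothOrNode_comp_etale f V₁.ι v).2 hv⟩

/-- The maximal open nodal family. -/
theorem nodalFamily_iff_subset [Flat f] [LocallyOfFinitePresentation f] (V : X.Opens) :
    Curv2.IsNodalFamily (V.ι ≫ f) ↔ (V : Set X) ⊆ {p : X | NodalPt f p} := by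
  rw [isNodalFamily_iff_pt]
  constructor
  · rintro ⟨-, -, h⟩ p hp
    exact (nodalPt_comp_open f V.ι ⟨p, hp⟩).1 (h ⟨p, hp⟩)
  · intro h
    exact ⟨inferInstance, inferInstance, fun v => (nodalPt_comp_open f V.ι v).2 (h v.2)⟩

end NodalLib

end
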