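import Groth.Agent.NodalLib.Alg
import Groth.Agent.NodeDefLib.Basic
import Groth.Prelude.Def_CurvBase
import Mathlib.RingTheory.MvPowerSeries.Derivative

/-!
# The ideal of values of derivations at a node

If `k̄ ⊗ A` localised at a prime over the maximal ideal is an ordinary double point, then the values of the
`k`-derivations of `A` generate the maximal ideal of `A` and this generates the maximal ideal upstairs.
-/

set_option autoImplicit false
set_option linter.style.haveILetI false
set_option linter.unusedSectionVars false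
set_option maxHeartbeats 1000000
set_option synthInstance.maxHeartbeats 100000

universe u

open IsLocalRing TensorProduct MvPowerSeries Finsupp

noncomputable section

namespace NodalLib

section R

variable (K : Type u) [Field K]

/-- The maximal ideal of the model is generated by the two branch parameters. -/
theorem maximalIdeal_R : haveI := isLocalRing_R K
    maximalIdeal (R K) = Ideal.span {Ideal.Quotient.mk _ (X 0), Ideal.Quotient.mk _ (X 1)} := by
  haveI := isLocalRing_R K
  rw [← map_maximalIdeal_of_surjective (Ideal.Quotient.mk (Ideal.span {xy K})) Ideal.Quotient.mk_surjective,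
    maximalIdeal_P, Ideal.map_span, Set.image_pair]

theorem mk_mem_max_iff (f : MvPowerSeries (Fin 2) K) : haveI := isLocalRing_R K
    Ideal.Quotient.mk (Ideal.span {xy K}) f ∈ maximalIdeal (R K) ↔ constantCoeff f = 0 := by
  haveI := isLocalRing_R K
  haveI : IsLocalHom (Ideal.Quotient.mk (Ideal.span {xy K})) :=
    IsLocalHom.of_surjective _ Ideal.Quotient.mk_surjective
  rw [IsLocalRing.mem_maximalIdeal, mem_nonunits_iff, isUnit_map_iff, MvPowerSeries.isUnit_iff_constantCoeff,
    isUnit_iff_ne_zero, not_not]

/-- The linear coefficients of an element of the square of the maximal ideal vanish. -/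
theorem coeff_single_of_mem_sq {f : MvPowerSeries (Fin 2) K} (h : haveI := isLocalRing_R K
    Ideal.Quotient.mk (Ideal.span {xy K}) f ∈ maximalIdeal (R K) ^ 2) (i : Fin 2) :
    coeff (single i 1) f = 0 := by
  haveI := isLocalRing_R K
  rw [← map_maximalIdeal_of_surjective (Ideal.Quotient.mk (Ideal.span {xy K})) Ideal.Quotient.mk_surjective,
    ← Ideal.map_pow, Ideal.mem_map_iff_of_surjective _ Ideal.Quotient.mk_surjective] at h
  obtain ⟨g, hg, hfg⟩ := h
  obtain ⟨c, hc⟩ := Ideal.mem_span_singleton'.1 (Ideal.Quotient.eq.1 hfg)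
  have hxy : coeff (single i 1) (c * xy K) = 0 := by
    simp [NodeDefLib.coeff_single_mul, xy]
  have hg0 : coeff (single i 1) g = 0 := by
    rw [pow_two] at hg
    refine Submodule.mul_induction_on hg (fun a ha b hb => ?_) (fun a b ha hb => by rw [map_add, ha, hb, add_zero])
    rw [IsLocalRing.mem_maximalIdeal, mem_nonunits_iff, MvPowerSeries.isUnit_iff_constantCoeff, isUnit_iff_ne_zero,
      not_not] at ha hb
    rw [NodeDefLib.coeff_single_mul, ha, hb, zero_mul, mul_zero, add_zero]
  rw [hc, map_sub, hg0, zero_sub, neg_eq_zero] at hxy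
  exact hxy

/-- The branch parameters are independent modulo the square of the maximal ideal. -/
theorem mem_max_of_mul_add (f g : R K) (h : haveI := isLocalRing_R K
    Ideal.Quotient.mk _ (X 0) * f + Ideal.Quotient.mk _ (X 1) * g ∈ maximalIdeal (R K) ^ 2) :
    haveI := isLocalRing_R K
    f ∈ maximalIdeal (R K) ∧ g ∈ maximalIdeal (R K) := by
  obtain ⟨F, rfl⟩ := Ideal.Quotient.mk_surjective f
  obtain ⟨G, rfl⟩ := Ideal.Quotient.mk_surjective g
  rw [← map_mul, ← map_mul, ← map_add] at h
  have h0 := coeff_single_of_mem_sq K h 0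
  have h1 := coeff_single_of_mem_sq K h 1
  simp [NodeDefLib.coeff_single_mul, MvPowerSeries.coeff_X, Finsupp.single_eq_single_iff] at h0 h1
  exact ⟨(mk_mem_max_iff K F).2 h0, (mk_mem_max_iff K G).2 h1⟩

/-- Scaling one branch parameter is a derivation of the model. -/
theorem exists_euler (i : Fin 2) : ∃ D : Derivation K (R K) (R K),
    D (Ideal.Quotient.mk _ (X i)) = Ideal.Quotient.mk _ (X i) := by
  let I : Ideal (MvPowerSeries (Fin 2) K) := Ideal.span {xy K}
  let E : Derivation K (MvPowerSeries (Fin 2) K) (MvPowerSeries (Fin 2) K) :=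
    (X i : MvPowerSeries (Fin 2) K) • MvPowerSeries.pderiv K i
  have hE : E (xy K) ∈ I := by
    fin_cases i <;> simp [E, xy, I, Derivation.leibniz, Ideal.mem_span_singleton, mul_comm, mul_left_comm]
  have hI : ∀ f ∈ I, E f ∈ I := fun f hf => by
    obtain ⟨c, rfl⟩ := Ideal.mem_span_singleton'.1 hf
    rw [Derivation.leibniz, smul_eq_mul, smul_eq_mul]
    exact add_mem (I.mul_mem_left _ hE) (I.mul_mem_right _ (Ideal.mem_span_singleton_self _))
  let L : (MvPowerSeries (Fin 2) K ⧸ I) →ₗ[K] (MvPowerSeries (Fin 2) K ⧸ I) :=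
    (I.restrictScalars K).mapQ (I.restrictScalars K) E.toLinearMap (fun f hf => hI f hf)
  refine ⟨Derivation.mk' L fun a b => ?_, ?_⟩
  · obtain ⟨a, rfl⟩ := Ideal.Quotient.mk_surjective a
    obtain ⟨b, rfl⟩ := Ideal.Quotient.mk_surjective b
    show Ideal.Quotient.mk I (E (a * b)) = Ideal.Quotient.mk I a • Ideal.Quotient.mk I (E b) +
      Ideal.Quotient.mk I b • Ideal.Quotient.mk I (E a)
    rw [Derivation.leibniz, map_add]
    rfl
  · show Ideal.Quotient.mk I (E (X i)) = _
    simp [E]
    rfl

end R

variable (k : Type u) [Field k] (A : Type u) [CommRing A] [Algebra k A]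

/-- The ideal generated by the values of the `k`-derivations of `A`. -/
def derIdeal : Ideal A := Ideal.span {a | ∃ (D : Derivation k A A) (b : A), D b = a}

/-- A derivation with values in a flat module has values in `derIdeal` times it. -/
theorem der_mem {C : Type u} [CommRing C] [Algebra k C] [Algebra A C] [IsScalarTower k A C] [Module.Flat A C]
    [Module.FinitePresentation A Ω[A⁄k]] (D : Derivation k A C) (a : A) :
    D a ∈ (derIdeal k A).map (algebraMap A C) := by
  obtain ⟨n, h, y, hD⟩ := Module.Flat.exists_factorization_of_finitePresentation D.liftKaehlerDifferential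
  have ha : D a = y (h (KaehlerDifferential.D k A a)) := by
    rw [← D.liftKaehlerDifferential_comp_D, hD]
    rfl
  rw [ha, ← Finsupp.univ_sum_single (h (KaehlerDifferential.D k A a)), map_sum]
  refine Ideal.sum_mem _ fun i _ => ?_
  rw [← mul_one (h (KaehlerDifferential.D k A a) i), ← smul_eq_mul, ← Finsupp.smul_single, map_smul, Algebra.smul_def]
  exact Ideal.mul_mem_right _ _ (Ideal.mem_map_of_mem _ (Ideal.subset_span
    ⟨((Finsupp.lapply i).comp h).compDer (KaehlerDifferential.D k A), a, rfl⟩))

variable {k A} (K : Type u) [Field K] [Algebra k K] (P : PrimeSpectrum (K ⊗[k] A))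
  (B : Type u) [CommRing B] [Algebra (K ⊗[k] A) B] [Algebra K B] [Algebra k B] [IsScalarTower K (K ⊗[k] A) B]
  [IsScalarTower k (K ⊗[k] A) B] [IsScalarTower k K B]

/-- The map from `A` to the localised base change. -/
def toLoc : A →ₐ[k] B :=
  (IsScalarTower.toAlgHom k (K ⊗[k] A) _).comp Algebra.TensorProduct.includeRight

variable [IsLocalization.AtPrime B P.asIdeal]

include P in
/-- A subring containing both factors and stable under inversion is everything. -/
theorem loc_induction (S : Subalgebra K B) (hA : ∀ a, toLoc (k := k) (A := A) K B a ∈ S)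
    (hinv : ∀ b r : B, IsUnit r → r ∈ S → b * r ∈ S → b ∈ S) (b : B) : b ∈ S := by
  have h : ∀ t : K ⊗[k] A, algebraMap _ B t ∈ S := fun t => by
    induction t using TensorProduct.induction_on with
    | zero => rw [map_zero]; exact S.zero_mem
    | tmul c a =>
      rw [show c ⊗ₜ[k] a = algebraMap K (K ⊗[k] A) c * (1 ⊗ₜ a) by simp, map_mul,
        ← IsScalarTower.algebraMap_apply]
      exact S.mul_mem (S.algebraMap_mem c) (hA a)
    | add a b ha hb => rw [map_add]; exact S.add_mem ha hb
  obtain ⟨⟨r, s⟩, hrs⟩ := IsLocalization.surj P.asIdeal.primeCompl b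
  exact hinv b _ (IsLocalization.map_units B s) (h _) (hrs ▸ h r)

include P in
/-- Derivations of `A` extend to the localised base change. -/
theorem exists_extend (D : Derivation k A A) :
    ∃ D' : Derivation K B B, ∀ a, D' (toLoc (k := k) (A := A) K B a) = toLoc (k := k) (A := A) K B (D a) := by
  let φ : A →ₐ[k] TrivSqZeroExt B B :=
    { toFun := fun a => TrivSqZeroExt.inl (toLoc (k := k) (A := A) K B a) + TrivSqZeroExt.inr (toLoc (k := k) (A := A) K B (D a))
      map_one' := by ext <;> simp
      map_mul' := fun a b => by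
        ext
        · simp
        · simp only [TrivSqZeroExt.snd_add, TrivSqZeroExt.snd_inl, TrivSqZeroExt.snd_inr, TrivSqZeroExt.snd_mul,
            TrivSqZeroExt.fst_add, TrivSqZeroExt.fst_inl, TrivSqZeroExt.fst_inr, Derivation.leibniz, map_add,
            map_mul, smul_eq_mul, MulOpposite.smul_eq_mul_unop, MulOpposite.unop_op, zero_add, add_zero]
          ring
      map_zero' := by ext <;> simp
      map_add' := fun a b => by ext <;> simp [add_comm, add_left_comm, add_assoc]
      commutes' := fun r => by
        rw [IsScalarTower.algebraMap_apply k K (TrivSqZeroExt B B)]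
        ext
        · simp [TrivSqZeroExt.algebraMap_eq_inl', ← IsScalarTower.algebraMap_apply]
        · simp [TrivSqZeroExt.algebraMap_eq_inl'] }
  let Φ : K ⊗[k] A →ₐ[K] TrivSqZeroExt B B :=
    Algebra.TensorProduct.lift (Algebra.ofId K _) φ (fun _ _ => Commute.all _ _)
  have hΦ : ∀ t, TrivSqZeroExt.fst (Φ t) = algebraMap _ B t := fun t => by
    induction t using TensorProduct.induction_on with
    | zero => simp
    | tmul c a =>
      rw [show c ⊗ₜ[k] a = algebraMap K (K ⊗[k] A) c * (1 ⊗ₜ a) by simp, map_mul, map_mul, AlgHom.commutes,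
        TrivSqZeroExt.fst_mul, ← IsScalarTower.algebraMap_apply]
      congr 1
      simp [Φ, φ, toLoc]
    | add a b ha hb => rw [map_add, map_add, TrivSqZeroExt.fst_add, ha, hb]
  have hu : ∀ s : P.asIdeal.primeCompl, IsUnit (Φ s) := fun s => by
    rw [TrivSqZeroExt.isUnit_iff_isUnit_fst, hΦ]
    exact IsLocalization.map_units B s
  let Ψ : B →ₐ[K] TrivSqZeroExt B B := IsLocalization.liftAlgHom (M := P.asIdeal.primeCompl) (f := Φ) hu
  have hΨ : ∀ t, Ψ (algebraMap _ B t) = Φ t := fun t => IsLocalization.lift_eq _ t
  let S : Subalgebra K B :=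
    AlgHom.equalizer ((TrivSqZeroExt.fstHom K B B).comp Ψ) (AlgHom.id K B)
  have hfst : ∀ b, TrivSqZeroExt.fst (Ψ b) = b := fun b => by
    have := loc_induction K P B S (fun a => by
      show TrivSqZeroExt.fst (Ψ (algebraMap _ B (1 ⊗ₜ a))) = _
      rw [hΨ, hΦ]
      rfl) (fun b r hr hrS hbr => by
        have h1 : TrivSqZeroExt.fst (Ψ (b * r)) = b * r := hbr
        have h2 : TrivSqZeroExt.fst (Ψ r) = r := hrS
        rw [map_mul, TrivSqZeroExt.fst_mul, h2] at h1
        exact hr.mul_left_inj.1 h1) b
    exact this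
  refine ⟨Derivation.mk' ((TrivSqZeroExt.sndHom B B).restrictScalars K ∘ₗ Ψ.toLinearMap) fun a b => ?_, fun a => ?_⟩
  · show TrivSqZeroExt.snd (Ψ (a * b)) = a • TrivSqZeroExt.snd (Ψ b) + b • TrivSqZeroExt.snd (Ψ a)
    rw [map_mul, TrivSqZeroExt.snd_mul, hfst, hfst, op_smul_eq_smul]
  · show TrivSqZeroExt.snd (Ψ (algebraMap _ B (1 ⊗ₜ a))) = _
    rw [hΨ]
    simp [Φ, φ]

variable [IsLocalRing A] [IsNoetherianRing A] [Algebra.EssFiniteType k A]

/-- At a node the derivations of `A` have values generating the maximal ideal, also upstairs. -/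
theorem derIdeal_node [IsLocalRing B] [IsNoetherianRing B]
    (hP : P.asIdeal.comap (Algebra.TensorProduct.includeRight (R := k) (A := K) (B := A)).toRingHom = maximalIdeal A)
    (h : Curv2.IsOrdDoublePt K B) :
    derIdeal k A = maximalIdeal A ∧ (maximalIdeal A).map (toLoc (k := k) (A := A) K B).toRingHom = maximalIdeal B := by
  obtain ⟨e, he⟩ := h
  obtain ⟨hCl, hCn, hCh, hCm, hCr⟩ :=
    CohenLib.completion_facts B (maximalIdeal B) (maximalIdeal.isMaximal B).ne_top
  haveI := isLocalRing_R K
  haveI hflC : Module.Flat B (AdicCompletion (maximalIdeal B) B) := AdicCompletion.flat_of_isNoetherian _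
  letI : Algebra B (R K) := (e.toRingHom.comp (algebraMap B (AdicCompletion (maximalIdeal B) B))).toAlgebra
  haveI : IsScalarTower K B (R K) := IsScalarTower.of_algebraMap_eq fun c => (he c).symm
  let eA : AdicCompletion (maximalIdeal B) B ≃ₐ[B] R K := AlgEquiv.ofRingEquiv (f := e) fun _ => rfl
  haveI : Module.Flat B (R K) := Module.Flat.of_linearEquiv eA.symm.toLinearEquiv
  have hm : (maximalIdeal B).map (algebraMap B (R K)) = maximalIdeal (R K) := by
    rw [← map_maximalIdeal_of_surjective e.toRingHom e.surjective, ← hCm, Ideal.map_map]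
    rfl
  haveI : IsLocalHom (algebraMap B (R K)) :=
    ((IsLocalRing.local_hom_TFAE (algebraMap B (R K))).out 0 2).2 hm.le
  haveI : Module.FaithfullyFlat B (R K) := Module.FaithfullyFlat.of_flat_of_isLocalHom
  have hres : ∀ r : R K, ∃ b, r - algebraMap B (R K) b ∈ maximalIdeal (R K) := fun r => by
    obtain ⟨b, hb⟩ := hCr (e.symm r)
    refine ⟨b, ?_⟩
    have := Ideal.mem_map_of_mem e.toRingHom hb
    rw [map_maximalIdeal_of_surjective e.toRingHom e.surjective, map_sub] at this
    simpa [RingHom.algebraMap_toAlgebra] using this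
  have happ : ∀ (n : ℕ) (r : R K), ∃ b, r - algebraMap B (R K) b ∈ maximalIdeal (R K) ^ n := by
    intro n
    induction n with
    | zero => exact fun r => ⟨0, by simp⟩
    | succ n ih =>
      intro r
      obtain ⟨b, hb⟩ := ih r
      suffices H : ∀ z ∈ maximalIdeal (R K) ^ n, ∃ b, z - algebraMap B (R K) b ∈ maximalIdeal (R K) ^ (n + 1) by
        obtain ⟨b', hb'⟩ := H _ hb
        exact ⟨b + b', by rwa [map_add, ← sub_sub]⟩
      intro z hz
      rw [← hm, ← Ideal.map_pow] at hz
      refine Submodule.span_induction ?_ ⟨0, by simp⟩ ?_ ?_ hz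
      · rintro _ ⟨c, -, rfl⟩
        exact ⟨c, by simp⟩
      · rintro a b - - ⟨a', ha⟩ ⟨b', hb⟩
        refine ⟨a' + b', ?_⟩
        rw [map_add, add_sub_add_comm]
        exact add_mem ha hb
      · rintro s a ha ⟨a', ha'⟩
        obtain ⟨t, ht⟩ := hres s
        have ha2 : a ∈ maximalIdeal (R K) ^ n := by
          rw [← hm, ← Ideal.map_pow]; exact ha
        refine ⟨t * a', ?_⟩
        rw [smul_eq_mul, map_mul, show s * a - algebraMap B (R K) t * algebraMap B (R K) a' =
          (s - algebraMap B (R K) t) * a + algebraMap B (R K) t * (a - algebraMap B (R K) a') by ring]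
        refine add_mem ?_ (Ideal.mul_mem_left _ _ ha')
        rw [pow_succ']
        exact Ideal.mul_mem_mul ht ha2
  -- approximations of the branch parameters
  let xx : Fin 2 → R K := fun i => Ideal.Quotient.mk _ (X i)
  choose b hb using fun i => happ 3 (xx i)
  have hxm : ∀ i, xx i ∈ maximalIdeal (R K) := fun i => (mk_mem_max_iff K _).2 (constantCoeff_X i)
  have hbm : ∀ i, algebraMap B (R K) (b i) ∈ maximalIdeal (R K) := fun i => by
    have := sub_mem (hxm i) (Ideal.pow_le_self (by norm_num) (hb i))
    rwa [sub_sub_cancel] at this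
  have hprod : b 0 * b 1 ∈ maximalIdeal B ^ 4 := by
    rw [← Ideal.comap_map_eq_self_of_faithfullyFlat (B := R K) (maximalIdeal B ^ 4), Ideal.mem_comap, Ideal.map_pow, hm,
      map_mul]
    have h0 : xx 0 * xx 1 = 0 := by
      rw [← map_mul, Ideal.Quotient.eq_zero_iff_mem]; exact Ideal.mem_span_singleton_self _
    rw [show algebraMap B (R K) (b 0) * algebraMap B (R K) (b 1) = -((xx 0 - algebraMap B (R K) (b 0)) * xx 1 +
      (xx 1 - algebraMap B (R K) (b 1)) * algebraMap B (R K) (b 0)) by linear_combination h0]
    rw [pow_succ]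
    exact neg_mem (add_mem (Ideal.mul_mem_mul (hb 0) (hxm 1)) (Ideal.mul_mem_mul (hb 1) (hbm 0)))
  have hgen : maximalIdeal B ≤ Ideal.span (Set.range b) ⊔ maximalIdeal B ^ 2 := by
    refine (Ideal.comap_map_eq_self_of_faithfullyFlat (B := R K) (Ideal.span (Set.range b) ⊔ maximalIdeal B ^ 2)).le.trans' ?_
    rw [← Ideal.map_le_iff_le_comap, hm, maximalIdeal_R, Ideal.span_le, Ideal.map_sup, Ideal.map_pow, hm]
    have H : ∀ i, xx i ∈ (Ideal.span (Set.range b)).map (algebraMap B (R K)) ⊔ maximalIdeal (R K) ^ 2 := fun i => by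
      rw [← sub_add_cancel (xx i) (algebraMap B (R K) (b i))]
      exact add_mem (Ideal.mem_sup_right (Ideal.pow_le_pow_right (by norm_num) (hb i)))
        (Ideal.mem_sup_left (Ideal.mem_map_of_mem _ (Ideal.subset_span ⟨i, rfl⟩)))
    rintro _ (rfl | rfl)
    exacts [H 0, H 1]
  -- derivations lower powers of the maximal ideal by one
  have hpow : ∀ {M : Type u} [CommRing M] [Algebra B M] [Algebra K M] [IsScalarTower K B M]
      (D : Derivation K B M) (n : ℕ), ∀ c ∈ maximalIdeal B ^ (n + 1), D c ∈ (maximalIdeal B).map (algebraMap B M) ^ n := by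
    intro M _ _ _ _ D n
    induction n with
    | zero => exact fun c _ => by simp
    | succ n ih =>
      intro c hc
      rw [pow_succ] at hc
      refine Submodule.mul_induction_on hc (fun a ha c hc => ?_) (fun a c ha hc => by rw [map_add]; exact add_mem ha hc)
      rw [Derivation.leibniz, Algebra.smul_def, Algebra.smul_def]
      refine add_mem (Ideal.mul_mem_right _ _ ?_) ?_
      · rw [← Ideal.map_pow]; exact Ideal.mem_map_of_mem _ ha
      · rw [pow_succ']
        exact Ideal.mul_mem_mul (Ideal.mem_map_of_mem _ hc) (ih a ha)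
  letI : Algebra A B := (toLoc (k := k) (A := A) K B).toRingHom.toAlgebra
  haveI : IsScalarTower k A B := IsScalarTower.of_algebraMap_eq fun c => ((toLoc (k := k) (A := A) K B).commutes c).symm
  haveI : IsLocalHom (algebraMap A B) := by
    refine ((IsLocalRing.local_hom_TFAE (algebraMap A B)).out 0 2).2 ?_
    rw [Ideal.map_le_iff_le_comap]
    intro a ha
    show algebraMap (K ⊗[k] A) B (1 ⊗ₜ a) ∈ maximalIdeal B
    rw [← IsLocalization.AtPrime.map_eq_maximalIdeal P.asIdeal B]
    exact Ideal.mem_map_of_mem _ (show a ∈ P.asIdeal.comap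
      (Algebra.TensorProduct.includeRight (R := k) (A := K) (B := A)).toRingHom from hP.ge ha)
  haveI : Module.Flat A B := by
    let eR : A →+* K ⊗[k] A := (Algebra.TensorProduct.includeRight (R := k) (A := K) (B := A)).toRingHom
    show (((algebraMap (K ⊗[k] A) B).comp eR)).Flat
    refine RingHom.Flat.comp ?_ (RingHom.flat_algebraMap_iff.2 (IsLocalization.flat B P.asIdeal.primeCompl))
    let ec := Algebra.TensorProduct.comm k A K
    have : eR = ec.toRingEquiv.toRingHom.comp (algebraMap A (A ⊗[k] K)) := by
      ext a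
      simp [eR, ec]
    rw [this]
    exact RingHom.Flat.comp (RingHom.flat_algebraMap_iff.2 inferInstance) (RingHom.Flat.of_bijective ec.bijective)
  -- the values lie in the maximal ideal
  have hle : derIdeal k A ≤ maximalIdeal A := by
    refine Ideal.span_le.2 ?_
    rintro _ ⟨D, a, rfl⟩
    obtain ⟨D', hD'⟩ := exists_extend K P B D
    let G : Derivation K B (R K) :=
      Derivation.mk' ((IsScalarTower.toAlgHom K B (R K)).toLinearMap.comp D'.toLinearMap) fun c d => by
        show algebraMap B (R K) (D' (c * d)) =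
          c • algebraMap B (R K) (D' d) + d • algebraMap B (R K) (D' c)
        rw [Derivation.leibniz, map_add]
        simp only [smul_eq_mul, map_mul, Algebra.smul_def]
    have hG : ∀ i, G (b i) ∈ maximalIdeal (R K) := by
      have h3 : G (b 0 * b 1) ∈ maximalIdeal (R K) ^ 2 := by
        have := hpow G 3 _ hprod
        rw [hm] at this
        exact Ideal.pow_le_pow_right (by norm_num) this
      have h2 := mem_max_of_mul_add K (G (b 1)) (G (b 0)) (by
        show xx 0 * G (b 1) + xx 1 * G (b 0) ∈ _
        rw [show xx 0 * G (b 1) + xx 1 * G (b 0) = G (b 0 * b 1) + ((xx 0 - algebraMap B (R K) (b 0)) * G (b 1) +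
          (xx 1 - algebraMap B (R K) (b 1)) * G (b 0)) by
            rw [Derivation.leibniz, Algebra.smul_def, Algebra.smul_def]; ring]
        exact add_mem h3 (add_mem (Ideal.mul_mem_right _ _ (Ideal.pow_le_pow_right (by norm_num) (hb 0)))
          (Ideal.mul_mem_right _ _ (Ideal.pow_le_pow_right (by norm_num) (hb 1)))))
      exact Fin.forall_fin_two.2 ⟨h2.2, h2.1⟩
    have hGm : ∀ c ∈ maximalIdeal B, G c ∈ maximalIdeal (R K) := by
      intro c hc
      obtain ⟨u, hu, v, hv, rfl⟩ := Submodule.mem_sup.1 (hgen hc)
      rw [map_add]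
      refine add_mem ?_ ?_
      · refine Submodule.span_induction ?_ (by simp) (fun a c _ _ ha hc => by rw [map_add]; exact add_mem ha hc) ?_ hu
        · rintro _ ⟨i, rfl⟩; exact hG i
        · intro s d hd hGd
          rw [smul_eq_mul, Derivation.leibniz, Algebra.smul_def, Algebra.smul_def]
          refine add_mem (Ideal.mul_mem_left _ _ hGd) (Ideal.mul_mem_right _ _ ?_)
          refine (hm ▸ Ideal.mem_map_of_mem _ (?_ : d ∈ maximalIdeal B) :)
          refine Ideal.span_le.2 ?_ hd
          rintro _ ⟨i, rfl⟩
          exact (IsLocalRing.mem_maximalIdeal _).2 fun hu' =>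
            (IsLocalRing.mem_maximalIdeal _).1 (hbm i) (hu'.map _)
      · have := hpow G 1 v hv
        rwa [hm, pow_one] at this
    have hGa : G (toLoc (k := k) (A := A) K B a) ∈ maximalIdeal (R K) := by
      obtain ⟨f, hf⟩ := Ideal.Quotient.mk_surjective (algebraMap B (R K) (toLoc (k := k) (A := A) K B a))
      have hmem : toLoc (k := k) (A := A) K B a - algebraMap K B (constantCoeff f) ∈ maximalIdeal B := by
        rw [IsLocalRing.mem_maximalIdeal]
        refine fun hu' => (IsLocalRing.mem_maximalIdeal _).1 ?_ (hu'.map (algebraMap B (R K)))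
        rw [map_sub, ← IsScalarTower.algebraMap_apply, ← hf,
          show algebraMap K (R K) (constantCoeff f) = Ideal.Quotient.mk _ (MvPowerSeries.C (constantCoeff f)) from rfl,
          ← map_sub, mk_mem_max_iff]
        simp
      have := hGm _ hmem
      rwa [map_sub, Derivation.map_algebraMap, sub_zero] at this
    rw [SetLike.mem_coe, IsLocalRing.mem_maximalIdeal]
    refine fun hu' => (IsLocalRing.mem_maximalIdeal _).1 hGa ?_
    show IsUnit (algebraMap B (R K) (D' (toLoc (k := k) (A := A) K B a)))
    rw [hD']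
    exact (hu'.map (toLoc (k := k) (A := A) K B)).map (algebraMap B (R K))
  -- they generate upstairs
  letI : Algebra A (R K) := ((algebraMap B (R K)).comp (algebraMap A B)).toAlgebra
  haveI : IsScalarTower A B (R K) := IsScalarTower.of_algebraMap_eq' rfl
  haveI : Module.Flat A (R K) := Module.Flat.trans A B (R K)
  haveI : IsScalarTower k B (R K) := IsScalarTower.of_algebraMap_eq fun c => by
    rw [IsScalarTower.algebraMap_apply k K (R K), IsScalarTower.algebraMap_apply k K B,
      ← IsScalarTower.algebraMap_apply K B (R K)]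
  haveI : IsScalarTower k A (R K) := IsScalarTower.of_algebraMap_eq fun c => by
    rw [IsScalarTower.algebraMap_apply A B (R K), ← IsScalarTower.algebraMap_apply k A B,
      ← IsScalarTower.algebraMap_apply k B (R K)]
  haveI : Module.FinitePresentation A Ω[A⁄k] := Module.finitePresentation_of_finite A _
  have hge : maximalIdeal (R K) ≤ ((derIdeal k A).map (algebraMap A B)).map (algebraMap B (R K)) := by
    let J := ((derIdeal k A).map (algebraMap A B)).map (algebraMap B (R K))
    have hxi : ∀ i, xx i ∈ J ⊔ maximalIdeal (R K) • maximalIdeal (R K) := fun i => by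
      obtain ⟨E, hE⟩ := exists_euler K i
      let G : Derivation K B (R K) := E.compAlgebraMap B
      let S : Subalgebra K B :=
        { carrier := {c | G c ∈ J}
          mul_mem' := fun {c d} hc hd => by
            show G (c * d) ∈ J
            rw [Derivation.leibniz, Algebra.smul_def, Algebra.smul_def]
            exact add_mem (J.mul_mem_left _ hd) (J.mul_mem_left _ hc)
          one_mem' := by show G 1 ∈ J; simp
          add_mem' := fun {c d} hc hd => by show G (c + d) ∈ J; rw [map_add]; exact add_mem hc hd
          zero_mem' := by show G 0 ∈ J; simp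
          algebraMap_mem' := fun c => by show G _ ∈ J; simp }
      have hall : ∀ c, G c ∈ J := loc_induction K P B S
        (fun a => by
          show G (algebraMap A B a) ∈ J
          have := der_mem k A ((G.restrictScalars k).compAlgebraMap A) a
          rwa [IsScalarTower.algebraMap_eq A B (R K), ← Ideal.map_map] at this)
        (fun c r hr hrS hcr => by
          have h1 : G (c * r) ∈ J := hcr
          have h2 : G r ∈ J := hrS
          rw [Derivation.leibniz, Algebra.smul_def, Algebra.smul_def] at h1
          have h3 := (Ideal.add_mem_iff_right J (J.mul_mem_left _ h2)).1 h1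
          exact (Ideal.unit_mul_mem_iff_mem J (hr.map (algebraMap B (R K)))).1 h3)
      have h4 : xx i = G (b i) + E (xx i - algebraMap B (R K) (b i)) := by
        show _ = E (algebraMap B (R K) (b i)) + _
        rw [map_sub, add_sub_cancel]
        exact hE.symm
      rw [h4]
      refine add_mem (Ideal.mem_sup_left (hall _)) (Ideal.mem_sup_right ?_)
      have key : ∀ z ∈ maximalIdeal (R K) ^ 3, E z ∈ maximalIdeal (R K) • maximalIdeal (R K) := fun z hz => by
        rw [pow_succ, pow_two] at hz
        refine Submodule.mul_induction_on hz (fun p hp q hq => ?_) (fun p q hp hq => by rw [map_add]; exact add_mem hp hq)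
        rw [Derivation.leibniz, smul_eq_mul, smul_eq_mul, smul_eq_mul]
        refine add_mem (Ideal.mul_mem_right _ _ hp) ?_
        refine Submodule.mul_induction_on hp (fun s hs t ht => ?_) (fun s t hs ht => by
          rw [map_add, mul_add]; exact add_mem hs ht)
        rw [Derivation.leibniz, smul_eq_mul, smul_eq_mul, mul_add, ← mul_assoc, ← mul_assoc]
        exact add_mem (Ideal.mul_mem_right _ _ (Ideal.mul_mem_mul hq hs))
          (Ideal.mul_mem_right _ _ (Ideal.mul_mem_mul hq ht))
      exact key _ (hb i)
    haveI : IsNoetherianRing (R K) := isNoetherianRing_of_ringEquiv _ e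
    refine Submodule.le_of_le_smul_of_le_jacobson_bot (IsNoetherian.noetherian _) (maximalIdeal_le_jacobson _) ?_
    conv_lhs => rw [maximalIdeal_R]
    rw [Ideal.span_le]
    rintro _ (rfl | rfl)
    exacts [hxi 0, hxi 1]
  have hJB : (derIdeal k A).map (algebraMap A B) = maximalIdeal B := by
    refine le_antisymm ((Ideal.map_mono hle).trans (((IsLocalRing.local_hom_TFAE (algebraMap A B)).out 0 2).1 ‹_›)) ?_
    rw [← Ideal.comap_map_eq_self_of_faithfullyFlat (B := R K) ((derIdeal k A).map (algebraMap A B)),
      ← Ideal.map_le_iff_le_comap, hm]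
    exact hge
  have hmB : (maximalIdeal A).map (algebraMap A B) = maximalIdeal B :=
    le_antisymm (((IsLocalRing.local_hom_TFAE (algebraMap A B)).out 0 2).1 ‹_›) (hJB ▸ Ideal.map_mono hle)
  haveI : Module.FaithfullyFlat A B := Module.FaithfullyFlat.of_flat_of_isLocalHom
  refine ⟨?_, hmB⟩
  rw [← Ideal.comap_map_eq_self_of_faithfullyFlat (B := B) (derIdeal k A), hJB, ← hmB,
    Ideal.comap_map_eq_self_of_faithfullyFlat]

/-- The maximal ideal of the model is not principal. -/
theorem not_principal_R (t : R K) : haveI := isLocalRing_R K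
    maximalIdeal (R K) ≠ Ideal.span {t} := by
  haveI := isLocalRing_R K
  intro h
  obtain ⟨T, rfl⟩ := Ideal.Quotient.mk_surjective t
  have hX : ∀ i, ∃ c, ∀ j, coeff (single j 1) (X i : MvPowerSeries (Fin 2) K) = c * coeff (single j 1) T := fun i => by
    obtain ⟨r, hr⟩ := Ideal.mem_span_singleton'.1 (h.le ((mk_mem_max_iff K _).2 (constantCoeff_X i)))
    obtain ⟨F, rfl⟩ := Ideal.Quotient.mk_surjective r
    rw [← map_mul, Ideal.Quotient.eq, Ideal.mem_span_singleton'] at hr
    obtain ⟨c, hc⟩ := hr
    refine ⟨constantCoeff F, fun j => ?_⟩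
    have hT : constantCoeff T = 0 := (mk_mem_max_iff K _).1 (h.ge (Ideal.mem_span_singleton_self _))
    have h1 : coeff (single j 1) (F * T - X i) = 0 := by
      rw [← hc]; simp [NodeDefLib.coeff_single_mul, xy]
    rw [map_sub, NodeDefLib.coeff_single_mul, hT, mul_zero, add_zero, sub_eq_zero] at h1
    exact h1.symm
  obtain ⟨c0, hc0⟩ := hX 0
  obtain ⟨c1, hc1⟩ := hX 1
  have a := hc0 0
  have b := hc0 1
  have c := hc1 0
  have d := hc1 1
  simp [MvPowerSeries.coeff_X, Finsupp.single_eq_single_iff] at a b c d
  rcases b with b | b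
  · simp [b] at a
  · simp [b] at d

end NodalLib

end
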