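import Groth.Agent.NodalLib.Model
import Groth.Agent.NodalLib.DerIdeal
import Groth.Agent.GeomRedFieldLib.Scheme
import Mathlib.RingTheory.KrullDimension.NonZeroDivisors

/-!
# The local ring at a node
-/

set_option autoImplicit false
set_option linter.style.haveILetI false
set_option linter.unusedSectionVars false
set_option maxHeartbeats 1000000
set_option synthInstance.maxHeartbeats 100000
set_option backward.isDefEq.respectTransparency false
set_option backward.isDefEq.respectTransparency.types false

universe u

open CategoryTheory CategoryTheory.Limits AlgebraicGeometry IsLocalRing TensorProduct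

noncomputable section

namespace NodalLib

variable (k : Type u) [Field k] {X : Scheme.{u}} [X.Over (Spec (CommRingCat.of k))]
  [LocallyOfFiniteType (X ↘ Spec (CommRingCat.of k))]

/-- Local rings of schemes locally of finite type over a field are essentially of finite type. -/
theorem essFiniteType_stalk (x : X) :
    letI := Curv2.stalkAlgebra k X x
    Algebra.EssFiniteType k (X.presheaf.stalk x) := by
  letI := Curv2.stalkAlgebra k X x
  obtain ⟨U, hU, hxU, -⟩ := exists_isAffineOpen_mem_and_subset (x := x) (U := ⊤) trivial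
  obtain ⟨T, _, _, hj⟩ : ∃ (T : Type u) (_ : CommRing T) (_ : Algebra k T),
      ∃ j : Spec (CommRingCat.of T) ⟶ X, IsOpenImmersion j ∧
        j ≫ (X ↘ Spec (CommRingCat.of k)) = GeomRedFieldLib.str k T ∧ x ∈ Set.range j := by
    obtain ⟨φ, hφ⟩ := Spec.map_surjective (hU.fromSpec ≫ (X ↘ Spec (CommRingCat.of k)))
    letI := φ.hom.toAlgebra
    exact ⟨_, inferInstance, φ.hom.toAlgebra, hU.fromSpec, inferInstance, hφ.symm, hU.range_fromSpec.symm.subset hxU⟩
  obtain ⟨j, hjo, hjs, q, rfl⟩ := hj
  haveI := hjo
  haveI := GeomRedFieldLib.finiteType_of_chart (X ↘ Spec (CommRingCat.of k)) j hjs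
  obtain ⟨e⟩ := GeomRedFieldLib.nonempty_algEquiv_stalk (X ↘ Spec (CommRingCat.of k)) j hjs q
    (GeomRedFieldLib.fromSpecStalk_comp_over X (j q))
  haveI : Algebra.EssFiniteType T (Localization.AtPrime q.asIdeal) :=
    Algebra.EssFiniteType.of_isLocalization _ q.asIdeal.primeCompl
  haveI : Algebra.EssFiniteType k (Localization.AtPrime q.asIdeal) := Algebra.EssFiniteType.comp k T _
  letI : Algebra (Localization.AtPrime q.asIdeal) (X.presheaf.stalk (j q)) := e.symm.toRingHom.toAlgebra
  haveI : IsScalarTower k (Localization.AtPrime q.asIdeal) (X.presheaf.stalk (j q)) :=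
    IsScalarTower.of_algebraMap_eq fun c => (e.symm.commutes c).symm
  haveI : Module.Finite (Localization.AtPrime q.asIdeal) (X.presheaf.stalk (j q)) :=
    Module.Finite.of_surjective (Algebra.linearMap _ _) e.symm.surjective
  exact Algebra.EssFiniteType.comp k (Localization.AtPrime q.asIdeal) _

/-- The local algebra at a node: the derivations generate the maximal ideal, which generates the maximal ideal of
the ordinary double point. -/
theorem exists_node_data {x : X} (hx : Curv2.IsNode k X x) :
    letI := Curv2.stalkAlgebra k X x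
    ∃ P : PrimeSpectrum (AlgebraicClosure k ⊗[k] X.presheaf.stalk x),
      IsNoetherianRing (Localization.AtPrime P.asIdeal) ∧
      Curv2.IsOrdDoublePt (AlgebraicClosure k) (Localization.AtPrime P.asIdeal) ∧
      P.asIdeal.comap (Algebra.TensorProduct.includeRight (R := k) (A := AlgebraicClosure k)
        (B := X.presheaf.stalk x)).toRingHom = maximalIdeal (X.presheaf.stalk x) ∧
      derIdeal k (X.presheaf.stalk x) = maximalIdeal (X.presheaf.stalk x) ∧
      (maximalIdeal (X.presheaf.stalk x)).map
        (toLoc (k := k) (A := X.presheaf.stalk x) (AlgebraicClosure k) (Localization.AtPrime P.asIdeal)).toRingHom =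
          maximalIdeal (Localization.AtPrime P.asIdeal) := by
  letI := Curv2.stalkAlgebra k X x
  haveI := essFiniteType_stalk k x
  haveI : IsLocallyNoetherian X := LocallyOfFiniteType.isLocallyNoetherian (X ↘ Spec (CommRingCat.of k))
  obtain ⟨P, hP, hodp⟩ := exists_node_model k hx
  haveI : IsNoetherianRing (AlgebraicClosure k ⊗[k] X.presheaf.stalk x) :=
    Algebra.EssFiniteType.isNoetherianRing (AlgebraicClosure k) _
  haveI : IsNoetherianRing (Localization.AtPrime P.asIdeal) :=
    IsLocalization.isNoetherianRing P.asIdeal.primeCompl _ inferInstance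
  exact ⟨P, inferInstance, hodp, hP,
    derIdeal_node (AlgebraicClosure k) P (Localization.AtPrime P.asIdeal) hP hodp⟩

/-- A node is not a regular point. -/
theorem not_regular_node {x : X} (hx : Curv2.IsNode k X x) : ¬ IsRegularLocalRing (X.presheaf.stalk x) := by
  letI := Curv2.stalkAlgebra k X x
  haveI : IsLocallyNoetherian X := LocallyOfFiniteType.isLocallyNoetherian (X ↘ Spec (CommRingCat.of k))
  obtain ⟨P, hN, ⟨e, he⟩, hP, -, hm⟩ := exists_node_data k hx
  intro hreg
  let Kb := AlgebraicClosure k
  let A := X.presheaf.stalk x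
  let B := Localization.AtPrime P.asIdeal
  letI : Algebra A B := (toLoc (k := k) (A := A) Kb B).toRingHom.toAlgebra
  haveI : IsLocalHom (algebraMap A B) :=
    ((IsLocalRing.local_hom_TFAE (algebraMap A B)).out 0 2).2 hm.le
  haveI : Module.Flat A B := by
    let eR : A →+* Kb ⊗[k] A := (Algebra.TensorProduct.includeRight (R := k) (A := Kb) (B := A)).toRingHom
    show (((algebraMap (Kb ⊗[k] A) B).comp eR)).Flat
    refine RingHom.Flat.comp ?_ (RingHom.flat_algebraMap_iff.2 (IsLocalization.flat B P.asIdeal.primeCompl))
    let ec := Algebra.TensorProduct.comm k A Kb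
    have : eR = ec.toRingEquiv.toRingHom.comp (algebraMap A (A ⊗[k] Kb)) := by
      ext a
      simp [eR, ec]
    rw [this]
    exact RingHom.Flat.comp (RingHom.flat_algebraMap_iff.2 inferInstance) (RingHom.Flat.of_bijective ec.bijective)
  haveI := isLocalRing_R Kb
  obtain ⟨hCl, hCn, hCh, hCm, -⟩ :=
    CohenLib.completion_facts B (maximalIdeal B) (maximalIdeal.isMaximal B).ne_top
  have hne : xy Kb ≠ 0 := mul_ne_zero
    (fun h => by simpa [MvPowerSeries.coeff_X] using congrArg (MvPowerSeries.coeff (Finsupp.single (0 : Fin 2) 1)) h)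
    (fun h => by simpa [MvPowerSeries.coeff_X] using congrArg (MvPowerSeries.coeff (Finsupp.single (1 : Fin 2) 1)) h)
  have hd : ringKrullDim A + 1 ≤ 2 := by
    rw [← CohenLib.ringKrullDim_eq_of_flat_unramified A B hm,
      ← CohenLib.ringKrullDim_adicCompletion B (maximalIdeal B) (maximalIdeal.isMaximal B).ne_top,
      ringKrullDim_eq_of_ringEquiv e]
    refine (ringKrullDim_quotient_succ_le_of_nonZeroDivisor (mem_nonZeroDivisors_of_ne_zero hne)).trans ?_
    rw [CohenLib.ringKrullDim_mvPowerSeries_field]
    norm_num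
  obtain ⟨t, ht⟩ : ∃ t, maximalIdeal A = Ideal.span {t} := by
    have h1 : (maximalIdeal A).spanFinrank ≤ 1 := by
      rw [← (isRegularLocalRing_iff _).1 hreg] at hd
      have : ((maximalIdeal A).spanFinrank + 1 : ℕ) ≤ 2 := by exact_mod_cast hd
      omega
    obtain ⟨s, hs, hspan⟩ := (IsNoetherian.noetherian (maximalIdeal A)).exists_span_set_encard_eq_spanFinrank
    have hs1 : s.encard ≤ 1 := by rw [hs]; exact_mod_cast h1
    rcases Set.encard_le_one_iff_eq.1 hs1 with rfl | ⟨t, rfl⟩
    · exact ⟨0, hspan.symm.trans (by simp)⟩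
    · exact ⟨t, hspan.symm⟩
  refine not_principal_R Kb (e (algebraMap B _ (algebraMap A B t))) ?_
  have hB : maximalIdeal B = Ideal.map (algebraMap A B) (maximalIdeal A) := hm.symm
  rw [← map_maximalIdeal_of_surjective e.toRingHom e.surjective, ← hCm]
  show Ideal.map e.toRingHom (Ideal.map (algebraMap B _) (maximalIdeal B)) = _
  have hspanB : maximalIdeal B = Ideal.span {algebraMap A B t} := by
    rw [hB, ht, Ideal.map_span, Set.image_singleton]
  conv_lhs => arg 2; arg 2; rw [hspanB]
  rw [Ideal.map_span, Set.image_singleton, Ideal.map_span, Set.image_singleton]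
  rfl

end NodalLib

end
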