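import Groth.Agent.NodalLib.NodalChar
import Groth.Agent.FlatLib.FlatLocusScheme
import Groth.Agent.AlgSpLib.ReducedSmooth
import Groth.Agent.AlgSpRegLib.DimMaps

/-!
# Nodal curves and nodal families

Permanence properties of nodal curves over fields under base change and étale maps, and the fibrewise
consequences for at-worst-nodal families.
-/

set_option autoImplicit false
set_option linter.style.haveILetI false
set_option linter.unusedSectionVars false
set_option maxHeartbeats 1000000
set_option synthInstance.maxHeartbeats 100000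
set_option backward.isDefEq.respectTransparency false
set_option backward.isDefEq.respectTransparency.types false

universe u

open CategoryTheory CategoryTheory.Limits AlgebraicGeometry IsLocalRing GeomRedFieldLib

noncomputable section

namespace NodalLib

/-- A nodal curve over a field, pointwise. -/
def NodalOn (k : Type u) [Field k] (X : Scheme.{u}) (p : X ⟶ Spec (CommRingCat.of k)) : Prop :=
  CurveDims X ∧ ∀ x : X, @SmoothOrNode k _ X ⟨p⟩ x

section

variable {k : Type u} [Field k] {X : Scheme.{u}} (p : X ⟶ Spec (CommRingCat.of k)) [LocallyOfFiniteType p]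

theorem nodalOn_iff : NodalOn k X p ↔ CurveDims X ∧ @Curv2.AtWorstNodal k _ X ⟨p⟩ := by
  letI : X.Over (Spec (CommRingCat.of k)) := ⟨p⟩
  haveI : LocallyOfFiniteType (X ↘ Spec (CommRingCat.of k)) := ‹LocallyOfFiniteType p›
  exact and_congr_right fun h => ⟨fun H => atWorstNodal_of_forall k H,
    fun H x => forall_of_atWorstNodal k (topologicalKrullDim_le_one_of_curveDims h) H x⟩

theorem nodalOn_etale {Y : Scheme.{u}} (π : Y ⟶ X) [Etale π] (h : NodalOn k X p) :
    NodalOn k Y (π ≫ p) := by
  letI : X.Over (Spec (CommRingCat.of k)) := ⟨p⟩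
  haveI : LocallyOfFiniteType (X ↘ Spec (CommRingCat.of k)) := ‹LocallyOfFiniteType p›
  exact ⟨curveDims_of_etale k π h.1, fun y => (smoothOrNode_etale k π y).1 (h.2 _)⟩

theorem nodalOn_of_etale_surjective {ι : Type u} {U : ι → Scheme.{u}} (g : ∀ i, U i ⟶ X) [∀ i, Etale (g i)]
    (hsurj : ∀ x : X, ∃ i, x ∈ Set.range (g i)) (h : ∀ i, NodalOn k (U i) (g i ≫ p)) : NodalOn k X p := by
  letI : X.Over (Spec (CommRingCat.of k)) := ⟨p⟩
  haveI : LocallyOfFiniteType (X ↘ Spec (CommRingCat.of k)) := ‹LocallyOfFiniteType p›
  refine ⟨curveDims_of_etale_surjective k g hsurj fun i => (h i).1, fun x => ?_⟩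
  obtain ⟨i, y, rfl⟩ := hsurj x
  exact (smoothOrNode_etale k (g i) y).2 ((h i).2 y)

/-- Being a nodal curve is invariant under arbitrary extensions of the base field. -/
theorem nodalOn_isPullback {K : Type u} [Field K] (φ : CommRingCat.of k ⟶ CommRingCat.of K)
    {Z : Scheme.{u}} {m : Z ⟶ X} {q : Z ⟶ Spec (CommRingCat.of K)} (h : IsPullback m q p (Spec.map φ)) :
    NodalOn K Z q ↔ NodalOn k X p := by
  letI : X.Over (Spec (CommRingCat.of k)) := ⟨p⟩
  haveI : LocallyOfFiniteType (X ↘ Spec (CommRingCat.of k)) := ‹LocallyOfFiniteType p›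
  letI : Algebra k K := φ.hom.toAlgebra
  let e : Z ≅ Curv2.bc k X K := h.isoIsPullback X (Spec (CommRingCat.of K)) (IsPullback.of_hasPullback p (Spec.map φ))
  have he : e.hom ≫ Curv2.bcSnd k X K = q := h.isoIsPullback_hom_snd _ _ _
  letI : (Curv2.bc k X K).Over (Spec (CommRingCat.of K)) := ⟨Curv2.bcSnd k X K⟩
  haveI hs : LocallyOfFiniteType (Curv2.bcSnd k X K) :=
    MorphismProperty.pullback_snd (P := @LocallyOfFiniteType) _ _ ‹LocallyOfFiniteType p›
  haveI : LocallyOfFiniteType q := MorphismProperty.of_isPullback h ‹LocallyOfFiniteType p›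
  have h1 : NodalOn K Z q ↔ NodalOn K (Curv2.bc k X K) (Curv2.bcSnd k X K) := by
    refine ⟨fun H => ?_, fun H => he ▸ nodalOn_etale _ e.hom H⟩
    have := nodalOn_etale q e.inv H
    rwa [← he, Iso.inv_hom_id_assoc] at this
  refine h1.trans (and_congr (curveDims_bc k K) ⟨fun H x => ?_, fun H y => (smoothOrNode_bc k K y).1 (H _)⟩)
  obtain ⟨y, rfl⟩ := GeoPtLib.surjective_fst (K := K) (X ↘ Spec (CommRingCat.of k)) x
  exact (smoothOrNode_bc k K y).2 (H y)

end

/-- A nodal curve over a finite separable extension is nodal over the ground field. -/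
theorem nodalOn_sep {k k' : Type u} [Field k] [Field k'] [Algebra k k'] [FiniteDimensional k k']
    [Algebra.IsSeparable k k'] {X : Scheme.{u}} (p : X ⟶ Spec (CommRingCat.of k')) [LocallyOfFiniteType p]
    (h : NodalOn k' X p) : NodalOn k X (p ≫ Spec.map (CommRingCat.ofHom (algebraMap k k'))) := by
  haveI : Algebra.FormallyEtale k k' := Algebra.FormallyEtale.of_isSeparable k k'
  haveI : Algebra.FinitePresentation k k' := Algebra.FinitePresentation.of_finiteType.1 inferInstance
  haveI : Etale (Spec.map (CommRingCat.ofHom (algebraMap k k'))) :=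
    (HasRingHomProperty.Spec_iff (P := @Etale)).2
      ((RingHom.etale_algebraMap (R := k) (S := k')).2 ⟨inferInstance, inferInstance⟩)
  refine ⟨h.1, fun x => ?_⟩
  letI O1 : X.Over (Spec (CommRingCat.of k')) := ⟨p⟩
  haveI : LocallyOfFiniteType (X ↘ Spec (CommRingCat.of k')) := ‹LocallyOfFiniteType p›
  rcases h.2 x with ⟨U, hxU, hU⟩ | hn
  · refine Or.inl ⟨U, hxU, ?_⟩
    show Smooth (U.ι ≫ p ≫ _)
    haveI : Smooth (U.ι ≫ p) := hU
    rw [← Category.assoc]
    infer_instance
  · refine Or.inr ?_
    letI A1 := Curv2.stalkAlgebra k' X x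
    letI A2 : Algebra k (X.presheaf.stalk x) := ((Curv2.stalkMap k' X x).comp (algebraMap k k')).toAlgebra
    haveI : IsScalarTower k k' (X.presheaf.stalk x) := IsScalarTower.of_algebraMap_eq' rfl
    haveI := essFiniteType_stalk k' x
    haveI : Algebra.EssFiniteType k (X.presheaf.stalk x) := Algebra.EssFiniteType.comp k k' _
    have h2 := (isGeoNode_sep (k := k) (k' := k') (A := X.presheaf.stalk x)).2 hn
    let O2 : X.Over (Spec (CommRingCat.of k)) := ⟨p ≫ Spec.map (CommRingCat.ofHom (algebraMap k k'))⟩
    have hA : A2 = @Curv2.stalkAlgebra k _ X O2 x := by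
      refine Algebra.algebra_ext _ _ fun c => ?_
      exact congrArg (X.presheaf.germ ⊤ x trivial).hom
        (toGlobal_comp_specMap' p (CommRingCat.ofHom (algebraMap k k')) c).symm
    rw [hA] at h2
    exact h2

/-- Nodal families, pointwise. -/
theorem isNodalFamily_iff {X S : Scheme.{u}} (f : X ⟶ S) :
    Curv2.IsNodalFamily f ↔ Flat f ∧ LocallyOfFinitePresentation f ∧
      ∀ s : S, NodalOn (S.residueField s) (f.fiber s) (f.fiberToSpecResidueField s) := by
  refine and_congr_right fun _ => and_congr_right fun hf => forall_congr' fun s => ?_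
  haveI : LocallyOfFiniteType (f.fiberToSpecResidueField s) :=
    MorphismProperty.pullback_snd (P := @LocallyOfFiniteType) _ _ inferInstance
  exact (nodalOn_iff (k := S.residueField s) (f.fiberToSpecResidueField s)).symm

theorem locallyOfFiniteType_fiberTo {X S : Scheme.{u}} (f : X ⟶ S) [LocallyOfFiniteType f] (s : S) :
    LocallyOfFiniteType (f.fiberToSpecResidueField s) :=
  MorphismProperty.pullback_snd (P := @LocallyOfFiniteType) _ _ inferInstance

/-- The fibre of a base change is nodal iff the fibre downstairs is. -/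
theorem nodalOn_fiber_baseChange {P X S S' : Scheme.{u}} {fst : P ⟶ X} {snd : P ⟶ S'} {f : X ⟶ S}
    {g : S' ⟶ S} [LocallyOfFiniteType f] (h : IsPullback fst snd f g) (s' : S') :
    NodalOn (S'.residueField s') (snd.fiber s') (snd.fiberToSpecResidueField s') ↔
      NodalOn (S.residueField (g s')) (f.fiber (g s')) (f.fiberToSpecResidueField (g s')) := by
  haveI := locallyOfFiniteType_fiberTo f (g s')
  exact nodalOn_isPullback (k := S.residueField (g s')) (f.fiberToSpecResidueField (g s'))
    (K := S'.residueField s') (g.residueFieldMap s') (isPullback_fiberToSpecResidueField_of_isPullback h s')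

/-- The fibre map of an étale map is étale. -/
theorem etale_fiberMap {X Y S : Scheme.{u}} (f : X ⟶ Y) [Etale f] (g : Y ⟶ S) (s : S) :
    Etale (MoreMor.fiberMap f g s) :=
  MorphismProperty.of_isPullback (FlatLib.isPullback_fiberMap f g s) ‹Etale f›

/-- A point of a scheme that is étale over a field is open, with residue field as local scheme. -/
theorem isOpenImmersion_fromSpecResidueField {F : Scheme.{u}} [IsReduced F] [DiscreteTopology F] (z : F) :
    IsOpenImmersion (F.fromSpecResidueField z) := by
  let U : F.Opens := ⟨{z}, isOpen_discrete _⟩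
  let g : Spec (F.residueField z) ⟶ U := IsOpenImmersion.lift U.ι (F.fromSpecResidueField z) (by
    rw [Scheme.range_fromSpecResidueField, Scheme.Opens.range_ι]; rfl)
  have hg : g ≫ U.ι = F.fromSpecResidueField z := IsOpenImmersion.lift_fac _ _ _
  haveI : IsPreimmersion (g ≫ U.ι) := hg ▸ inferInstance
  haveI : IsPreimmersion g := IsPreimmersion.of_comp g U.ι
  have hs : Function.Surjective g := fun w => ⟨IsLocalRing.closedPoint (F.residueField z), by
    refine U.ι.isOpenEmbedding.injective ?_
    rw [← Scheme.Hom.comp_apply, hg, Scheme.fromSpecResidueField_apply]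
    exact (Set.mem_singleton_iff.1 w.2).symm⟩
  haveI : IsClosedImmersion g := IsClosedImmersion.of_isPreimmersion g (by
    rw [hs.range_eq]; exact isClosed_univ)
  haveI : Surjective g := ⟨hs⟩
  haveI : IsIso g := isIso_of_isClosedImmersion_of_surjective g
  rw [← hg]
  infer_instance

/-- Composing a nodal family with an étale map of the base keeps the fibres nodal. -/
theorem nodalOn_fiber_comp_etale {X S S' : Scheme.{u}} (f : X ⟶ S') [LocallyOfFiniteType f] (e : S' ⟶ S)
    [Etale e] (hf : ∀ t : S', NodalOn (S'.residueField t) (f.fiber t) (f.fiberToSpecResidueField t)) (s : S) :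
    NodalOn (S.residueField s) ((f ≫ e).fiber s) ((f ≫ e).fiberToSpecResidueField s) := by
  haveI := locallyOfFiniteType_fiberTo (f ≫ e) s
  haveI : Etale (e.fiberToSpecResidueField s) := MorphismProperty.pullback_snd (P := @Etale) _ _ ‹Etale e›
  haveI : IsReduced (e.fiber s) := AlgSpLib.isReduced_of_smooth (e.fiberToSpecResidueField s)
  haveI : LocallyQuasiFinite e := AlgSpRegLib.lqf_of_etale e
  haveI : DiscreteTopology ↥(e.fiber s) := IsLocallyArtinian.discreteTopology
  have hmid := FlatLib.isPullback_fiberMap f e s
  have hz := fun z : e.fiber s => isOpenImmersion_fromSpecResidueField z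
  let W := fun z : e.fiber s => pullback (MoreMor.fiberMap f e s) ((e.fiber s).fromSpecResidueField z)
  let j : ∀ z, W z ⟶ (f ≫ e).fiber s := fun z => pullback.fst _ _
  haveI : ∀ z, IsOpenImmersion (j z) := fun z => by
    haveI := hz z
    exact MorphismProperty.pullback_fst (P := @IsOpenImmersion) _ _ inferInstance
  refine nodalOn_of_etale_surjective (k := S.residueField s) _ j (fun x => ?_) fun z => ?_
  · refine ⟨MoreMor.fiberMap f e s x, ?_⟩
    show x ∈ Set.range ⇑(pullback.fst _ _ : W _ ⟶ _)
    rw [Scheme.Pullback.range_fst, Scheme.range_fromSpecResidueField]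
    exact rfl
  · let q : W z ⟶ Spec ((e.fiber s).residueField z) := pullback.snd _ _
    let t : S' := e.fiberι s z
    let r := (e.fiberι s).residueFieldMap z
    have hbig : IsPullback (j z ≫ (f ≫ e).fiberι s) q f (Spec.map r ≫ S'.fromSpecResidueField t) := by
      rw [Scheme.Hom.SpecMap_residueFieldMap_fromSpecResidueField]
      exact (IsPullback.of_hasPullback (MoreMor.fiberMap f e s) _).paste_horiz hmid
    let m : W z ⟶ f.fiber t := pullback.lift (j z ≫ (f ≫ e).fiberι s) (q ≫ Spec.map r)
      (by rw [hbig.w, Category.assoc])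
    have hm : IsPullback m q (f.fiberToSpecResidueField t) (Spec.map r) := by
      refine IsPullback.of_right ?_ (pullback.lift_snd _ _ _) (IsPullback.of_hasPullback f (S'.fromSpecResidueField t))
      rw [show m ≫ pullback.fst _ _ = j z ≫ (f ≫ e).fiberι s from pullback.lift_fst _ _ _]
      exact hbig
    haveI := locallyOfFiniteType_fiberTo f t
    haveI : LocallyOfFiniteType q := MorphismProperty.of_isPullback hm inferInstance
    have h1 : NodalOn ((e.fiber s).residueField z) (W z) q :=
      (nodalOn_isPullback (k := S'.residueField t) (f.fiberToSpecResidueField t)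
        (K := (e.fiber s).residueField z) r hm).2 (hf t)
    obtain ⟨φ, hφ⟩ := Spec.map_surjective ((e.fiber s).fromSpecResidueField z ≫ e.fiberToSpecResidueField s)
    letI : Algebra (S.residueField s) ((e.fiber s).residueField z) := φ.hom.toAlgebra
    haveI : Etale (Spec.map φ) := by
      haveI := hz z
      rw [hφ]; infer_instance
    have het : RingHom.Etale φ.hom := (HasRingHomProperty.Spec_iff (P := @Etale)).1 inferInstance
    haveI : Algebra.Etale (S.residueField s) ((e.fiber s).residueField z) := het
    haveI : Module.Finite (S.residueField s) ((e.fiber s).residueField z) :=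
      Algebra.FormallyUnramified.finite_of_free _ _
    haveI : Algebra.IsSeparable (S.residueField s) ((e.fiber s).residueField z) :=
      (Algebra.FormallyEtale.iff_isSeparable (S.residueField s) ((e.fiber s).residueField z)).1 inferInstance
    have h2 := nodalOn_sep (k := S.residueField s) (k' := (e.fiber s).residueField z) q h1
    have h3 : j z ≫ (f ≫ e).fiberToSpecResidueField s = q ≫ Spec.map φ := by
      rw [hφ, ← FlatLib.fiberMap_to f e s, ← Category.assoc, ← Category.assoc]
      exact congrArg (· ≫ e.fiberToSpecResidueField s) pullback.condition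
    rw [h3]
    exact h2

end NodalLib

end
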