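import Groth.Agent.NodalLib.GeoQuad
import Groth.Agent.NodalLib.Family
import Groth.Agent.CohenLib.SmoothPoint
import Groth.Agent.CommAlgDim.Regular

/-!
# Smooth points of curves through their local rings
-/

set_option autoImplicit false
set_option linter.style.haveILetI false
set_option linter.unusedSectionVars false
set_option maxHeartbeats 1000000
set_option synthInstance.maxHeartbeats 100000
set_option backward.isDefEq.respectTransparency false
set_option backward.isDefEq.respectTransparency.types false

universe u

open CategoryTheory CategoryTheory.Limits AlgebraicGeometry IsLocalRing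

noncomputable section

namespace NodalLib

variable (k : Type u) [Field k] {X : Scheme.{u}} [X.Over (Spec (CommRingCat.of k))]
  [LocallyOfFiniteType (X ↘ Spec (CommRingCat.of k))]

/-- A point is in the smooth locus iff its local algebra is formally smooth. -/
theorem mem_smoothLocus_iff_stalk (x : X) :
    haveI := lfp_over k (X := X); letI := Curv2.stalkAlgebra k X x
    x ∈ (X ↘ Spec (CommRingCat.of k)).smoothLocus ↔ Algebra.FormallySmooth k (X.presheaf.stalk x) := by
  haveI := lfp_over k (X := X)
  letI := Curv2.stalkAlgebra k X x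
  obtain ⟨U, hU, hxU, -⟩ := exists_isAffineOpen_mem_and_subset (x := x) (U := ⊤) trivial
  obtain ⟨T, _, _, hj⟩ : ∃ (T : Type u) (_ : CommRing T) (_ : Algebra k T),
      ∃ j : Spec (CommRingCat.of T) ⟶ X, IsOpenImmersion j ∧
        j ≫ (X ↘ Spec (CommRingCat.of k)) = GeomRedFieldLib.str k T ∧ x ∈ Set.range j := by
    obtain ⟨φ, hφ⟩ := Spec.map_surjective (hU.fromSpec ≫ (X ↘ Spec (CommRingCat.of k)))
    letI := φ.hom.toAlgebra
    exact ⟨_, inferInstance, φ.hom.toAlgebra, hU.fromSpec, inferInstance, hφ.symm, hU.range_fromSpec.symm.subset hxU⟩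
  obtain ⟨j, hjo, hjs, q, rfl⟩ := hj
  haveI := hjo
  obtain ⟨e⟩ := GeomRedFieldLib.nonempty_algEquiv_stalk (X ↘ Spec (CommRingCat.of k)) j hjs q
    (GeomRedFieldLib.fromSpecStalk_comp_over X (j q))
  rw [GeomRedFieldLib.mem_smoothLocus_chart (X ↘ Spec (CommRingCat.of k)) j hjs q]
  exact ⟨fun h => haveI : Algebra.FormallySmooth k (Localization.AtPrime q.asIdeal) := h
      Algebra.FormallySmooth.of_equiv e.symm,
    fun h => (Algebra.FormallySmooth.of_equiv e : Algebra.FormallySmooth k (Localization.AtPrime q.asIdeal))⟩

/-- A quotient of a smooth or nodal local algebra of dimension one, itself reduced of dimension one, is smooth or nodal. -/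
theorem smooth_or_qnode_quotient {A B : Type u} [CommRing A] [IsLocalRing A] [IsNoetherianRing A] [Algebra k A]
    [CommRing B] [IsLocalRing B] [IsNoetherianRing B] [IsReduced B] [Algebra k B] [Algebra.EssFiniteType k B]
    (π : A →ₐ[k] B) (hπ : Function.Surjective π) (hA : ringKrullDim A ≤ 1) (hB : ringKrullDim B = 1)
    (h : Algebra.FormallySmooth k A ∨ (Algebra.IsSeparable k (ResidueField A) ∧ QNode A)) :
    Algebra.FormallySmooth k B ∨ IsGeoNode k B := by
  rcases h with hs | ⟨hsep, x, y, a, b, c, hm, -, hd, hq, -⟩
  · haveI := hs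
    haveI : IsRegularLocalRing A := CohenLib.isRegularLocalRing_of_formallySmooth (k := k)
    haveI : IsDomain A := CommAlgDim.isDomain_of_isRegularLocalRing A
    have hinj : Function.Injective π := by
      rw [injective_iff_map_eq_zero]
      intro r hr
      by_contra hr0
      have h := ringKrullDim_succ_le_of_surjective π.toRingHom hπ (mem_nonZeroDivisors_of_ne_zero hr0) hr
      rw [hB] at h
      exact absurd (h.trans hA) (by decide)
    exact Or.inl (Algebra.FormallySmooth.of_equiv (AlgEquiv.ofBijective π ⟨hinj, hπ⟩))
  · haveI : IsLocalHom π.toRingHom := IsLocalHom.of_surjective _ hπ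
    have hmB : (maximalIdeal A).map π.toRingHom = maximalIdeal B := map_maximalIdeal_of_surjective π.toRingHom hπ
    have hgen : maximalIdeal B = Ideal.span {π x, π y} := by
      rw [← hmB, hm, Ideal.map_span, Set.image_pair]; rfl
    haveI hsepB : Algebra.IsSeparable k (ResidueField B) := by
      let ψ : ResidueField A →ₐ[k] ResidueField B :=
        { ResidueField.map π.toRingHom with
          commutes' := fun t => by
            show ResidueField.map π.toRingHom (residue A (algebraMap k A t)) = residue B (algebraMap k B t)
            rw [ResidueField.map_residue, ← π.commutes t]; rfl }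
      haveI := hsep
      exact Algebra.IsSeparable.of_equiv_equiv (RingEquiv.refl k) (RingEquiv.ofBijective ψ.toRingHom
        ⟨ψ.toRingHom.injective, fun z => by
          obtain ⟨b, rfl⟩ := residue_surjective z
          obtain ⟨a, rfl⟩ := hπ b
          exact ⟨residue A a, ResidueField.map_residue _ _⟩⟩) (RingHom.ext fun t => (ψ.commutes t).symm)
    have hne : maximalIdeal B ≠ ⊥ := fun h0 => by
      have := ringKrullDim_eq_zero_of_isField ((IsLocalRing.isField_iff_maximalIdeal_eq).2 h0)
      rw [hB] at this
      exact one_ne_zero this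
    by_cases hind : ∀ p r : B, p * π x + r * π y ∈ maximalIdeal B ^ 2 → p ∈ maximalIdeal B ∧ r ∈ maximalIdeal B
    · refine Or.inr (isGeoNode_of_qnode ⟨π x, π y, π a, π b, π c, hgen, hind, ?_, ?_, exists_regular_of_isReduced hne⟩)
      · have := hd.map π
        simpa only [map_sub, map_mul, map_pow, map_ofNat] using this
      · have h1 := Ideal.mem_map_of_mem π.toRingHom hq
        rw [Ideal.map_pow, hmB, map_qf] at h1
        exact h1
    · push Not at hind
      obtain ⟨p, r, hpr, hnot⟩ := hind
      obtain ⟨z, hzm, hz⟩ : ∃ z ∈ maximalIdeal B, maximalIdeal B ≤ Ideal.span {z} ⊔ maximalIdeal B ^ 2 := by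
        by_cases hp : p ∈ maximalIdeal B
        · obtain ⟨i, hi⟩ := (IsLocalRing.notMem_maximalIdeal.1 (hnot hp)).exists_left_inv
          refine ⟨π x, hgen.ge (Ideal.subset_span (by simp)), ?_⟩
          conv_lhs => rw [hgen]
          rw [Ideal.span_le, Set.pair_subset_iff]
          refine ⟨Ideal.mem_sup_left (Ideal.mem_span_singleton_self _), ?_⟩
          rw [show π y = (-(i * p)) * π x + i * (p * π x + r * π y) by linear_combination (-π y) * hi]
          exact Submodule.add_mem_sup (Ideal.mul_mem_left _ _ (Ideal.mem_span_singleton_self _)) (Ideal.mul_mem_left _ _ hpr)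
        · obtain ⟨i, hi⟩ := (IsLocalRing.notMem_maximalIdeal.1 hp).exists_left_inv
          refine ⟨π y, hgen.ge (Ideal.subset_span (by simp)), ?_⟩
          conv_lhs => rw [hgen]
          rw [Ideal.span_le, Set.pair_subset_iff]
          refine ⟨?_, Ideal.mem_sup_left (Ideal.mem_span_singleton_self _)⟩
          rw [show π x = (-(i * r)) * π y + i * (p * π x + r * π y) by linear_combination (-π x) * hi]
          exact Submodule.add_mem_sup (Ideal.mul_mem_left _ _ (Ideal.mem_span_singleton_self _)) (Ideal.mul_mem_left _ _ hpr)
      have hle : maximalIdeal B ≤ Ideal.span {z} := Submodule.le_of_le_smul_of_le_jacobson_bot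
        (IsNoetherian.noetherian _) (maximalIdeal_le_jacobson _) (by rwa [smul_eq_mul, ← pow_two])
      have hspan : maximalIdeal B = Ideal.span {z} :=
        le_antisymm hle ((Ideal.span_singleton_le_iff_mem _).2 hzm)
      haveI : IsRegularLocalRing B := IsRegularLocalRing.of_spanFinrank_maximalIdeal_le B (by
        rw [hB, hspan]
        exact_mod_cast (Submodule.spanFinrank_span_le_ncard_of_finite (Set.finite_singleton z)).trans
          (Set.ncard_singleton z).le)
      haveI : Algebra.FormallyEtale k (ResidueField B) := Algebra.FormallyEtale.of_isSeparable k _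
      haveI : Algebra.IsGeometricallyReduced k (ResidueField B) :=
        CohenLib.isGeometricallyReduced_of_formallySmooth
      exact Or.inl (CohenLib.formallySmooth_of_regular (k := k) (A := B))

end NodalLib

end
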