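import Groth.Agent.NodalLib.Alg
import Groth.Agent.DualCxLib.GorLoc
import Groth.Agent.MiscFlat6.ClosedPts
import Groth.Agent.S0342
import Groth.Agent.S1535
import Groth.Prelude.Def_CurvBase

/-!
# Curves with at-worst-nodal singularities are reduced and Gorenstein
-/

set_option autoImplicit false
set_option linter.style.haveILetI false
set_option linter.unusedSectionVars false
set_option maxHeartbeats 1000000
universe u

open CategoryTheory CategoryTheory.Limits AlgebraicGeometry IsLocalRing
open Groth.Agent

attribute [local instance] HasDerivedCategory.standard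

noncomputable section

namespace NodalLib

/-- Localizations of Gorenstein local rings are Gorenstein. -/
theorem gorenstein_atPrime {A : Type u} [CommRing A] [IsLocalRing A] [IsNoetherianRing A]
    (h : LocCoh.IsGorensteinLocalRing A) (p : Ideal A) [hp : p.IsPrime] :
    LocCoh.IsGorensteinLocalRing (Localization.AtPrime p) := by
  have hω := DualCxLib.isDualizing_inD_self (A := A) h.exists_hasInjectiveDimensionLT
  obtain ⟨e, hz, ⟨q⟩⟩ := (DualCxLib.gorenstein_iff_HD hω).1 h
  refine (DualCxLib.gorenstein_atPrime_iff (⟨p, hp⟩ : PrimeSpectrum A) hω).2 ⟨e, fun i hi => ?_, ⟨?_⟩⟩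
  · haveI := hz i hi
    rw [Module.notMem_support_iff]
    infer_instance
  · exact ((IsLocalizedModule.iso p.primeCompl
      ((LocalizedModule.mkLinearMap p.primeCompl A).comp q.toLinearMap)).extendScalarsOfIsLocalization p.primeCompl
        (Localization.AtPrime p)).trans
      ((IsLocalizedModule.iso p.primeCompl (Algebra.linearMap A (Localization.AtPrime p))).extendScalarsOfIsLocalization
        p.primeCompl (Localization.AtPrime p))

variable (k : Type u) [Field k] {X : Scheme.{u}} [X.Over (Spec (CommRingCat.of k))]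
  [LocallyOfFiniteType (X ↘ Spec (CommRingCat.of k))]

/-- The local ring at a node is reduced and Gorenstein. -/
theorem node_stalk {x : X} (h : Curv2.IsNode k X x) :
    _root_.IsReduced (X.presheaf.stalk x) ∧ LocCoh.IsGorensteinLocalRing (X.presheaf.stalk x) := by
  obtain ⟨-, xb, rfl, e, -⟩ := h
  let K := AlgebraicClosure k
  let q := Curv2.bcFst k X K
  haveI : IsLocallyNoetherian X := LocallyOfFiniteType.isLocallyNoetherian (X ↘ Spec (CommRingCat.of k))
  haveI : LocallyOfFiniteType (Curv2.bcSnd k X K) :=
    MorphismProperty.pullback_snd (P := @LocallyOfFiniteType) _ _ ‹_›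
  haveI : IsLocallyNoetherian (Curv2.bc k X K) := LocallyOfFiniteType.isLocallyNoetherian (Curv2.bcSnd k X K)
  haveI : Flat (Spec.map (CommRingCat.ofHom (algebraMap k K))) := by
    rw [HasRingHomProperty.Spec_iff (P := @Flat)]
    exact RingHom.flat_algebraMap_iff.mpr inferInstance
  haveI : Flat q := MorphismProperty.pullback_fst (P := @Flat) _ _ ‹_›
  let A := X.presheaf.stalk (q xb)
  let B := (Curv2.bc k X K).presheaf.stalk xb
  letI : Algebra A B := (q.stalkMap xb).hom.toAlgebra
  haveI : IsLocalHom (algebraMap A B) := inferInstanceAs (IsLocalHom (q.stalkMap xb).hom)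
  haveI : Module.Flat A B := Flat.stalkMap q xb
  haveI : Module.FaithfullyFlat A B := Module.FaithfullyFlat.of_flat_of_isLocalHom
  have hG : LocCoh.IsGorensteinLocalRing B := gorenstein_of_node (A := B) e
  haveI : _root_.IsReduced B := isReduced_of_node (A := B) e
  exact ⟨isReduced_of_injective (algebraMap A B) (FaithfulSMul.algebraMap_injective A B),
    ((GorLib.gorenstein_flat_iff A B).1 hG).1⟩

/-- Stalks at closed points of an at-worst-nodal scheme. -/
theorem closed_stalk (hX : Curv2.AtWorstNodal k X) {x : X} (hx : IsClosed ({x} : Set X)) :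
    _root_.IsReduced (X.presheaf.stalk x) ∧ LocCoh.IsGorensteinLocalRing (X.presheaf.stalk x) := by
  rcases hX x hx with ⟨U, hxU, hsm⟩ | hnode
  · letI : (U : Scheme.{u}).Over (Spec (CommRingCat.of k)) := ⟨U.ι ≫ X ↘ Spec (CommRingCat.of k)⟩
    haveI : Smooth ((U : Scheme.{u}) ↘ Spec (CommRingCat.of k)) := hsm
    haveI := Groth.Agent.S1535.result k (U : Scheme.{u}) ⟨x, hxU⟩
    haveI : IsRegularLocalRing (X.presheaf.stalk x) :=
      IsRegularLocalRing.of_ringEquiv (asIso (U.ι.stalkMap ⟨x, hxU⟩)).commRingCatIsoToRingEquiv.symm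
    haveI := CommAlgDim.isDomain_of_isRegularLocalRing (X.presheaf.stalk x)
    exact ⟨inferInstance, Groth.Agent.S0342.result (X.presheaf.stalk x)⟩
  · exact node_stalk k hnode

include k in
theorem stalk_facts (hX : Curv2.AtWorstNodal k X) (x : X) :
    _root_.IsReduced (X.presheaf.stalk x) ∧ LocCoh.IsGorensteinLocalRing (X.presheaf.stalk x) := by
  haveI : IsLocallyNoetherian X := LocallyOfFiniteType.isLocallyNoetherian (X ↘ Spec (CommRingCat.of k))
  obtain ⟨y, hy, hxy⟩ := MiscFlat6.exists_closed_specializes x
  obtain ⟨hr, hg⟩ := closed_stalk k hX hy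
  obtain ⟨p, hp, ⟨e⟩⟩ := MiscFlat6.exists_prime_equiv_of_specializes hxy
  haveI := hr
  exact ⟨isReduced_of_injective e.symm.toRingHom e.symm.injective,
    GorLib.gorenstein_of_ringEquiv e.symm (gorenstein_atPrime hg p)⟩

include k in
/-- At-worst-nodal schemes are reduced. -/
theorem isReduced (hX : Curv2.AtWorstNodal k X) : AlgebraicGeometry.IsReduced X := by
  haveI := fun x => (stalk_facts k hX x).1
  exact isReduced_of_isReduced_stalk X

end NodalLib

end
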