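import Groth.Agent.NodalLib.Dualizing
import Groth.Agent.NefH1Lib.Mult
import Groth.Agent.BddFamLib.Ops
import Groth.Agent.LocSuppLib.LocFree
import Groth.Agent.S10945
import Groth.Agent.SerreVanLib.Main

/-!
# Globally generated modules without higher cohomology
-/

set_option autoImplicit false
set_option linter.style.haveILetI false
set_option linter.unusedSectionVars false
set_option maxHeartbeats 1000000
set_option backward.isDefEq.respectTransparency false
set_option backward.isDefEq.respectTransparency.types false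

universe u

open CategoryTheory CategoryTheory.Limits AlgebraicGeometry TopologicalSpace Opposite
open NefH1Lib (freeM)
open Groth.Agent.S10945 (eq_zero_of_gg)

noncomputable section

namespace NodalLib

variable {X : Scheme.{u}}

/-- The structure sheaf is globally generated. -/
theorem gg_unit : Curv2.IsGloballyGenerated (Coh.structureModule X) := by
  refine MiscFlat6.isGloballyGenerated_of_cancel _ fun N q hq => ?_
  refine Scheme.Modules.hom_ext _ _ fun W => ConcreteCategory.hom_ext _ _ fun a => ?_
  have h1 : q.app W (1 : Γ(X, W)) = 0 := by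
    refine Eq.trans ?_ ((congrArg _ (hq (1 : Γ(X, ⊤)))).trans (map_zero (N.presheaf.map (homOfLE (le_top : W ≤ ⊤)).op).hom))
    refine Eq.trans ?_ (QCohLib.app_map q (homOfLE (le_top : W ≤ ⊤)) (1 : Γ(X, ⊤)))
    exact congrArg _ (map_one (X.presheaf.map (homOfLE (le_top : W ≤ ⊤)).op).hom).symm
  have h2 : (show Γ(Coh.structureModule X, W) from a) = (show Γ(X, W) from a) • (show Γ(Coh.structureModule X, W) from (1 : Γ(X, W))) :=
    (mul_one (show Γ(X, W) from a)).symm
  show q.app W a = 0
  rw [show q.app W a = q.app W ((show Γ(X, W) from a) • (show Γ(Coh.structureModule X, W) from (1 : Γ(X, W)))) from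
    congrArg _ h2, QCohLib.app_smul, h1, smul_zero]

/-- Tensor products of globally generated modules are globally generated. -/
theorem gg_tensor {M L : X.Modules} (hM : Curv2.IsGloballyGenerated M) (hL : Curv2.IsGloballyGenerated L) :
    Curv2.IsGloballyGenerated (CohB1.tensorMod M L) := by
  obtain ⟨ι, p₀, hp⟩ := hL
  let p : freeM X ι ⟶ L := p₀
  haveI : Epi p := hp
  let T : X.Modules ⥤ X.Modules := (DCoh.tensorBi (X := X)).obj M
  haveI : PreservesColimitsOfSize.{u, u} T := ModSiteLib.preservesColimits_tensor X.sheaf M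
  let e : T.obj (freeM X ι) ≅ ∐ fun _ : ι => T.obj (Coh.structureModule X) :=
    PreservesCoproduct.iso T fun _ : ι => Coh.structureModule X
  have hO : T.obj (Coh.structureModule X) ≅ M := KFlatLib.tensSwap (Coh.structureModule X) M ≪≫ KFlatLib.tensUnitIso M
  haveI : Epi (e.inv ≫ T.map p) := epi_comp _ _
  refine MiscFlat6.isGloballyGenerated_of_cancel _ fun N q hq => ?_
  refine (cancel_epi (e.inv ≫ T.map p)).mp (Limits.Sigma.hom_ext _ _ fun i => ?_)
  rw [comp_zero, comp_zero]
  let c := Sigma.ι (fun _ : ι => T.obj (Coh.structureModule X)) i ≫ e.inv ≫ T.map p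
  have h : c ≫ q = 0 := eq_zero_of_gg (MiscFlat6.isGloballyGenerated_of_iso hO.symm hM) _ fun u => hq (c.app ⊤ u)
  simpa [c, Category.assoc] using h

/-- Twisting a module without `H¹` by a globally generated one. -/
theorem h1_tensor_gg [CompactSpace X] [X.IsSeparated] (hvan : ∀ N : X.Modules, Coh.IsQCoh N → Subsingleton (Coh.HH X N 2)) {M L : X.Modules}
    (hM : Coh.IsQCoh M) (hM1 : Subsingleton (Coh.HH X M 1)) (hgg : Curv2.IsGloballyGenerated L)
    (hML : Coh.IsQCoh (CohB1.tensorMod M L)) :
    Subsingleton (Coh.HH X (CohB1.tensorMod M L) 1) := by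
  obtain ⟨ι, p₀, hp⟩ := hgg
  let p : freeM X ι ⟶ L := p₀
  haveI : Epi p := hp
  let T : X.Modules ⥤ X.Modules := (DCoh.tensorBi (X := X)).obj M
  haveI : PreservesColimitsOfSize.{u, u} T := ModSiteLib.preservesColimits_tensor X.sheaf M
  let e : T.obj (freeM X ι) ≅ ∐ fun _ : ι => T.obj (Coh.structureModule X) :=
    PreservesCoproduct.iso T fun _ : ι => Coh.structureModule X
  have hO : T.obj (Coh.structureModule X) ≅ M := KFlatLib.tensSwap (Coh.structureModule X) M ≪≫ KFlatLib.tensUnitIso M
  haveI := hM
  haveI : Coh.IsQCoh (T.obj (Coh.structureModule X)) := QCohLib.isQCoh_of_iso hO.symm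
  have hq : Coh.IsQCoh (∐ fun _ : ι => T.obj (Coh.structureModule X)) :=
    QCohLib.isQCoh_sigma _ fun _ => inferInstance
  exact NefH1Lib.h1_of_epi hvan hq hML (e.inv ≫ T.map p) (AmpleAffLib.subsingleton_HH_sigma (F := fun _ : ι => T.obj (Coh.structureModule X))
      (fun _ => inferInstance) fun _ => NefH1Lib.h1_iso hO.symm hM1)

section Curve

variable (k : Type u) [Field k] {X : Scheme.{u}} [X.Over (Spec (CommRingCat.of k))]
  [IsProper (X ↘ Spec (CommRingCat.of k))] (hdim : topologicalKrullDim X = 1)

include k in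
omit hdim in
theorem isSeparated_of_proper : X.IsSeparated :=
  ⟨by rw [← terminal.comp_from (X ↘ Spec (CommRingCat.of k))]; infer_instance⟩

include k hdim in
theorem hvan (N : X.Modules) : Subsingleton (Coh.HH X N 2) := by
  haveI := CurvLib.isNoetherian k (X := X)
  exact CurvLib.subsingleton_HH_of_dim_le N (d := 1) hdim.le 2 (by omega)

include k hdim in
/-- An extension of globally generated modules, the sub having no `H¹`, is globally generated. -/
theorem gg_ext {S : ShortComplex X.Modules} (hS : S.ShortExact) (h1 : Curv2.IsGloballyGenerated S.X₁)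
    (hv : Subsingleton (Coh.HH X S.X₁ 1)) (h3 : Curv2.IsGloballyGenerated S.X₃) :
    Curv2.IsGloballyGenerated S.X₂ := by
  refine Groth.Agent.S10945.result X S hS (fun t => ?_) h1 h3
  obtain ⟨x, hx⟩ := LichtLib.surjective_g hS hv ((DegPullLib.e0 S.X₃).symm t)
  refine ⟨DegPullLib.e0 S.X₂ x, ?_⟩
  exact (NefH1Lib.e0_map S.g x).symm.trans ((congrArg (DegPullLib.e0 S.X₃) hx).trans (AddEquiv.apply_symm_apply _ _))

include k hdim in
/-- Tensor powers keep the property. -/
theorem defAmple_pow (hO : Subsingleton (Coh.HH X (Coh.structureModule X) 1)) {E ω : X.Modules} (hE : Coh.IsCoh E)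
    (hω : Coh.IsCoh ω) (hgg : Curv2.IsGloballyGenerated E) (hv : Subsingleton (Coh.HH X (CohB1.tensorMod E ω) 1)) :
    ∀ n : ℕ, Curv2.IsGloballyGenerated (CohB1.tensorPow E n) ∧ Coh.IsCoh (CohB1.tensorPow E n) ∧
      Subsingleton (Coh.HH X (CohB1.tensorMod (CohB1.tensorPow E (n + 1)) ω) 1) := by
  haveI := CurvLib.isNoetherian k (X := X)
  haveI := isSeparated_of_proper k (X := X)
  haveI : CompactSpace X := QuasiCompact.compactSpace_of_compactSpace (X ↘ Spec (CommRingCat.of k))
  intro n
  have hcoh : ∀ m, Coh.IsCoh (CohB1.tensorPow E m) := fun m => by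
    induction m with
    | zero => exact DevissLib.isCoh_structureModule X
    | succ m ih => exact BddFamLib.isCoh_tensorMod ih hE
  have hggs : ∀ m, Curv2.IsGloballyGenerated (CohB1.tensorPow E m) := fun m => by
    induction m with
    | zero => exact gg_unit
    | succ m ih => exact gg_tensor ih hgg
  refine ⟨hggs n, hcoh n, ?_⟩
  have hM := BddFamLib.isCoh_tensorMod hE hω
  refine NefH1Lib.h1_iso (?_ : CohB1.tensorMod (CohB1.tensorMod E ω) (CohB1.tensorPow E n) ≅ _)
    (h1_tensor_gg (fun N _ => hvan k hdim N) hM.1 hv (hggs n) (BddFamLib.isCoh_tensorMod hM (hcoh n)).1)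
  exact KFlatLib.tensSwap (CohB1.tensorPow E n) (CohB1.tensorMod E ω) ≪≫
    (SerreVanLib.tensorAssoc (CohB1.tensorPow E n) E ω).symm

end Curve

end NodalLib

end
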