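import Groth.Agent.NodalLib.SingScheme
import Groth.Agent.SyntCMLib.Scheme
import Groth.Agent.RichLib.FibreCrit
import Groth.Agent.FibDimLib.Local
import Groth.Agent.TransLib.SyntMor
import Groth.Agent.FittLib.OmegaFitt
import Groth.Agent.S9365

/-!
# Nodal families: syntomic curves with unramified singular scheme
-/

set_option autoImplicit false
set_option linter.style.haveILetI false
set_option linter.unusedSectionVars false
set_option maxHeartbeats 1000000
set_option synthInstance.maxHeartbeats 100000
set_option backward.isDefEq.respectTransparency false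
set_option backward.isDefEq.respectTransparency.types false

universe u

open CategoryTheory CategoryTheory.Limits AlgebraicGeometry IsLocalRing

noncomputable section

namespace NodalLib

variable {X S : Scheme.{u}} (f : X ⟶ S)

/-- The two local fibre dimensions agree. -/
theorem localFibreDim_eq (x : X) : Dual3.localFibreDim f x = FlatMor.fibreDimAt f x :=
  (iInf_subtype'' {U : (f.fiber (f x)).Opens | f.asFiber x ∈ U}
    fun U : (f.fiber (f x)).Opens => topologicalKrullDim (U : Set ↥(f.fiber (f x)))).symm

/-- Local fibre dimension one everywhere means that all components of all fibres are curves. -/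
theorem localFibreDim_eq_one_iff [LocallyOfFiniteType f] :
    (∀ x : X, Dual3.localFibreDim f x = 1) ↔ ∀ s : S, CurveDims (f.fiber s) := by
  constructor
  · intro h s Z hZ
    haveI := locallyOfFiniteType_fiberTo f s
    obtain ⟨g, hg⟩ := QuasiSober.sober hZ.1 (isClosed_of_mem_irreducibleComponents Z hZ)
    obtain ⟨x, hx, hxg⟩ : ∃ x, ∃ hx : f x = s, hx ▸ f.asFiber x = g := by
      have hx : f (f.fiberι s g) = s := (f.range_fiberι s).subset ⟨g, rfl⟩
      refine ⟨f.fiberι s g, hx, ?_⟩
      generalize hy : f.fiberι s g = x at hx ⊢
      subst hx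
      exact (f.fiberι (f x)).isEmbedding.injective ((f.fiberι_asFiber x).trans hy.symm)
    subst hx
    simp only at hxg
    have h1 : FlatMor.localDim ↥(f.fiber (f x)) g = topologicalKrullDim (closure ({g} : Set ↥(f.fiber (f x)))) :=
      FibDimLib.localDim_eq_of_generic (k := S.residueField (f x)) (f.fiberToSpecResidueField (f x))
        (by rwa [hg.def])
    rw [← hg.def, ← h1, ← hxg]
    exact (localFibreDim_eq f x).symm.trans (h x)
  · intro h x
    haveI := locallyOfFiniteType_fiberTo f (f x)
    rw [localFibreDim_eq f x]
    obtain ⟨g, hg, -, hd⟩ := FibDimLib.exists_generic_localDim (k := S.residueField (f x))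
      (f.fiberToSpecResidueField (f x)) (f.asFiber x)
    exact hd.trans (h _ _ hg)

/-- A morphism locally of finite type is formally unramified iff its fibres are. -/
theorem formallyUnramified_iff_fibers [LocallyOfFiniteType f] :
    FormallyUnramified f ↔ ∀ s : S, FormallyUnramified (f.fiberToSpecResidueField s) :=
  ⟨fun h _ => MorphismProperty.pullback_snd (P := @FormallyUnramified) _ _ h,
    fun h => RichLib.FibreCrit.formallyUnramified_of_fibers f h⟩

variable [QuasiSeparated f]

/-- The fibres of the scheme cut out by a Fitting ideal of the differentials. -/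
theorem formallyUnramified_fit_fiber [LocallyOfFiniteType f] (i : ℕ) (s : S) :
    haveI : QuasiSeparated (f.fiberToSpecResidueField s) := MorphismProperty.pullback_snd _ _ inferInstance
    FormallyUnramified ((Fitt.sheafIdeal (Omega.sheaf (f.fiberToSpecResidueField s)) i).subschemeι ≫
        f.fiberToSpecResidueField s) ↔
      FormallyUnramified (((Fitt.sheafIdeal (Omega.sheaf f) i).subschemeι ≫ f).fiberToSpecResidueField s) := by
  haveI : QuasiSeparated (f.fiberToSpecResidueField s) := MorphismProperty.pullback_snd _ _ inferInstance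
  haveI : QuasiSeparated (pullback.snd f (S.fromSpecResidueField s)) := MorphismProperty.pullback_snd _ _ inferInstance
  let I := Fitt.sheafIdeal (Omega.sheaf f) i
  have hI : I.comap (f.fiberι s) = Fitt.sheafIdeal (Omega.sheaf (f.fiberToSpecResidueField s)) i :=
    FittLib.omega_comap f (S.fromSpecResidueField s) i
  rw [← hI]
  let e : (I.comap (f.fiberι s)).subscheme ≅ (I.subschemeι ≫ f).fiber s :=
    I.comapIso (f.fiberι s) ≪≫ pullbackSymmetry _ _ ≪≫
      pullbackRightPullbackFstIso f (S.fromSpecResidueField s) I.subschemeι
  have he : e.hom ≫ (I.subschemeι ≫ f).fiberToSpecResidueField s =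
      (I.comap (f.fiberι s)).subschemeι ≫ f.fiberToSpecResidueField s := by
    show (_ ≫ _ ≫ _) ≫ pullback.snd _ _ = _ ≫ pullback.snd _ _
    rw [← Scheme.IdealSheafData.comapIso_hom_fst]
    simp [Scheme.Hom.fiberι]
  rw [← he]
  exact MorphismProperty.cancel_left_of_respectsIso @FormallyUnramified e.hom _

/-- Nodal families are the syntomic families of curves with unramified singular scheme. -/
theorem isNodalFamily_iff_syntomic :
    Curv2.IsNodalFamily f ↔
      (Synt.IsSyntomicMor f ∧ (∀ x : X, Dual3.localFibreDim f x = 1) ∧
        FormallyUnramified ((Fitt.sheafIdeal (Omega.sheaf f) 1).subschemeι ≫ f)) := by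
  have key : ∀ [LocallyOfFiniteType f] (s : S), CurveDims (f.fiber s) →
      ((letI : (f.fiber s).Over (Spec (S.residueField s)) := ⟨f.fiberToSpecResidueField s⟩
        Curv2.AtWorstNodal (S.residueField s) (f.fiber s)) ↔
        Synt.IsSyntomicMor (f.fiberToSpecResidueField s) ∧
          FormallyUnramified (((Fitt.sheafIdeal (Omega.sheaf f) 1).subschemeι ≫ f).fiberToSpecResidueField s)) := by
    intro _ s hs
    letI : (f.fiber s).Over (Spec (CommRingCat.of (S.residueField s))) := ⟨f.fiberToSpecResidueField s⟩
    haveI : LocallyOfFiniteType (f.fiber s ↘ Spec (CommRingCat.of (S.residueField s))) :=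
      locallyOfFiniteType_fiberTo f s
    haveI : QuasiSeparated (f.fiberToSpecResidueField s) := MorphismProperty.pullback_snd _ _ inferInstance
    rw [← formallyUnramified_fit_fiber f 1 s]
    exact atWorstNodal_iff_ci_sing (S.residueField s) hs
      (OmegaAffLib.isUniversal_dOmega (f := f.fiberToSpecResidueField s))
  constructor
  · rintro ⟨hfl, hlfp, h⟩
    haveI := hfl
    haveI := hlfp
    have hd : ∀ s, CurveDims (f.fiber s) := fun s => (h s).1
    have hk := fun s => (key s (hd s)).1 (h s).2
    exact ⟨Groth.Agent.S9365.result f fun s => (hk s).1, (localFibreDim_eq_one_iff f).2 hd,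
      (formallyUnramified_iff_fibers _).2 fun s => (hk s).2⟩
  · rintro ⟨hsyn, hdim, hfu⟩
    haveI := SyntCMLib.flat_of_syntomic f hsyn
    haveI := SyntCMLib.lfp_of_syntomic f hsyn
    have hd := (localFibreDim_eq_one_iff f).1 hdim
    refine ⟨inferInstance, inferInstance, fun s => ⟨hd s, (key s (hd s)).2 ⟨?_, ?_⟩⟩⟩
    · exact (TransLib.isSyntomicMor_iff _).2
        (MorphismProperty.pullback_snd (P := TransLib.SyntMor) _ _ ((TransLib.isSyntomicMor_iff f).1 hsyn))
    · exact (formallyUnramified_iff_fibers _).1 hfu s

end NodalLib

end
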