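import Groth.Agent.NodalLib.Geom
import Groth.Agent.NefH1Lib.Adjunction.GorCurve
import Groth.Agent.NefH1Lib.GorDual
import Groth.Agent.SurfNumLib.K3

/-!
# The dualizing module of a Gorenstein reduced curve is invertible
-/

set_option autoImplicit false
set_option linter.style.haveILetI false
set_option linter.unusedSectionVars false
set_option maxHeartbeats 1000000
set_option synthInstance.maxHeartbeats 200000
set_option backward.isDefEq.respectTransparency false
set_option backward.isDefEq.respectTransparency.types false

universe u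

open CategoryTheory CategoryTheory.Limits AlgebraicGeometry TopologicalSpace
open Groth.Agent

attribute [local instance] HasDerivedCategory.standard

noncomputable section

namespace NodalLib

variable (k : Type u) [Field k] {X : Scheme.{u}} [X.Over (Spec (CommRingCat.of k))]
  [IsProper (X ↘ Spec (CommRingCat.of k))]

theorem omega_invertible [IsReduced X] [ConnectedSpace X] (hdim : topologicalKrullDim X = 1)
    (hgor : ∀ x : X, LocCoh.IsGorensteinLocalRing (X.presheaf.stalk x))
    [DCoh.HasRpush (X ↘ Spec (CommRingCat.of k))] (h : DCoh.RpushPreservesQCoh (X ↘ Spec (CommRingCat.of k)))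
    [DCoh.HasShriek (X ↘ Spec (CommRingCat.of k)) h] (OY : DCoh.DQCoh (Spec (CommRingCat.of k)))
    (hOY : Nonempty (OY.obj ≅ DCoh.inD (Spec (CommRingCat.of k)) (Coh.structureModule (Spec (CommRingCat.of k))))) :
    PicF.IsInvertible (DCoh.dualizingMod (X ↘ Spec (CommRingCat.of k)) h OY 1) := by
  let f := X ↘ Spec (CommRingCat.of k)
  haveI : IsLocallyNoetherian X := LocallyOfFiniteType.isLocallyNoetherian f
  haveI : CompactSpace X := QuasiCompact.compactSpace_of_compactSpace f
  haveI : QuasiSeparatedSpace X := quasiSeparatedSpace_of_quasiSeparated f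
  haveI : AlgebraicGeometry.IsNoetherian X := ⟨⟩
  haveI : EnoughInjectives X.Modules := IsGrothendieckAbelian.enoughInjectives.{u}
  haveI : HasExt.{u} X.Modules := hasExt_of_enoughInjectives.{u} X.Modules
  haveI : ∀ (U V : Scheme.{u}) (j : U ⟶ V) [IsOpenImmersion j],
      PreservesFiniteLimits (Scheme.Modules.restrictFunctor j) := fun U V j _ => inferInstance
  haveI : ∀ (B : CommRingCat.{u}), PreservesFiniteLimits (tilde.functor B) := fun B =>
    HensSchLib.tilde_preservesFiniteLimits B
  have hd1 : topologicalKrullDim X = ((1 : ℕ) : WithBot ℕ∞) := by simpa using hdim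
  have hCM := CurveDualModLib.isCM_of_reduced (X := X) hd1.le
  have heq := NefH1Lib.Subcurve.equidim k (X := X) hdim
  obtain ⟨eO⟩ := hOY
  obtain ⟨hdual, -, -⟩ := Dual3Lib.amplitude f h _ (DCoh.shriekAdj f h) OY eO 1 hd1.le
  have hinv := DualCxLib.isInvertibleD_of_gorenstein ⟨inferInstance, hgor⟩ hdual
  exact NefH1Lib.isInvertible_of_isInvertibleD hinv _ fun x =>
    ((Groth.Agent.S3637.result k X f hCM 1 heq h _ (DCoh.shriekAdj f h) OY ⟨eO⟩).2.2 x).1

/-- Everything needed from at-worst-nodal curves with constant global functions. -/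
theorem setup (hdim : topologicalKrullDim X = 1) (h0 : Module.finrank k (Coh.HH X (Coh.structureModule X) 0) = 1)
    (hX : Curv2.AtWorstNodal k X)
    [DCoh.HasRpush (X ↘ Spec (CommRingCat.of k))] (h : DCoh.RpushPreservesQCoh (X ↘ Spec (CommRingCat.of k)))
    [DCoh.HasShriek (X ↘ Spec (CommRingCat.of k)) h] (OY : DCoh.DQCoh (Spec (CommRingCat.of k)))
    (hOY : Nonempty (OY.obj ≅ DCoh.inD (Spec (CommRingCat.of k)) (Coh.structureModule (Spec (CommRingCat.of k))))) :
    IsReduced X ∧ ConnectedSpace X ∧ PicF.IsInvertible (DCoh.dualizingMod (X ↘ Spec (CommRingCat.of k)) h OY 1) := by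
  haveI := isReduced k hX
  haveI : Nonempty X := by
    by_contra hne
    haveI : IsEmpty X := not_nonempty_iff.mp hne
    have := topologicalKrullDim_zero_of_discreteTopology X
    rw [hdim] at this
    exact absurd this (not_le.mpr zero_lt_one)
  haveI := SurfNumLib.connected_of_h0 (k := k) (X := X) h0
  exact ⟨inferInstance, inferInstance, omega_invertible k hdim (fun x => (stalk_facts k hX x).2) h OY hOY⟩

end NodalLib

end
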