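import Groth.Agent.NodalLib.Conj
import Groth.Agent.NodalLib.Geom
import Groth.Agent.GeoPtLib.Basic
import Groth.Agent.S2535

/-!
# Schemes with at-worst-nodal singularities are geometrically reduced
-/

set_option autoImplicit false
set_option backward.isDefEq.respectTransparency false
set_option backward.isDefEq.respectTransparency.types false
set_option linter.style.haveILetI false
set_option maxHeartbeats 1000000

universe u

open CategoryTheory CategoryTheory.Limits AlgebraicGeometry IsLocalRing
open Groth.Agent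

noncomputable section

namespace NodalLib

variable (k : Type u) [Field k] {X : Scheme.{u}} [X.Over (Spec (CommRingCat.of k))]
  [LocallyOfFiniteType (X ↘ Spec (CommRingCat.of k))]

local notation "Kb" => AlgebraicClosure k

/-- The geometric base change has reduced stalks at closed points. -/
theorem isReduced_stalk_bc (hX : Curv2.AtWorstNodal k X) (y : Curv2.bc k X Kb)
    (hy : IsClosed ({y} : Set (Curv2.bc k X Kb))) : _root_.IsReduced ((Curv2.bc k X Kb).presheaf.stalk y) := by
  letI : (Curv2.bc k X Kb).Over (Spec (CommRingCat.of Kb)) := ⟨Curv2.bcSnd k X Kb⟩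
  haveI : LocallyOfFiniteType (Curv2.bcSnd k X Kb) :=
    MorphismProperty.pullback_snd (P := @LocallyOfFiniteType) _ _ ‹_›
  haveI : IsLocallyNoetherian (Curv2.bc k X Kb) := LocallyOfFiniteType.isLocallyNoetherian (Curv2.bcSnd k X Kb)
  have hx : IsClosed ({Curv2.bcFst k X Kb y} : Set X) := by
    have := GeoPtLib.isClosedMap_fst (K := Kb) (X ↘ Spec (CommRingCat.of k)) _ hy
    rwa [Set.image_singleton] at this
  rcases hX _ hx with ⟨U, hxU, hsm⟩ | hnode
  · let V : (Curv2.bc k X Kb).Opens := (Curv2.bcFst k X Kb) ⁻¹ᵁ U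
    letI : (V : Scheme.{u}).Over (Spec (CommRingCat.of Kb)) := ⟨V.ι ≫ Curv2.bcSnd k X Kb⟩
    haveI : Smooth ((V : Scheme.{u}) ↘ Spec (CommRingCat.of Kb)) := by
      show Smooth (V.ι ≫ Curv2.bcSnd k X Kb)
      haveI := hsm
      exact MorphismProperty.of_isPullback (P := @Smooth)
        ((isPullback_morphismRestrict (Curv2.bcFst k X Kb) U).paste_vert (IsPullback.of_hasPullback _ _)) ‹_›
    haveI := Groth.Agent.S1535.result Kb (V : Scheme.{u}) ⟨y, hxU⟩
    haveI : IsRegularLocalRing ((Curv2.bc k X Kb).presheaf.stalk y) :=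
      IsRegularLocalRing.of_ringEquiv (asIso (V.ι.stalkMap ⟨y, hxU⟩)).commRingCatIsoToRingEquiv.symm
    haveI := CommAlgDim.isDomain_of_isRegularLocalRing ((Curv2.bc k X Kb).presheaf.stalk y)
    infer_instance
  · obtain ⟨-, xb, hxb, hodp⟩ := hnode
    obtain ⟨e, -⟩ := isOrdDoublePt_of_eq k xb y hxb hodp
    exact isReduced_of_node e

include k in
/-- At-worst-nodal schemes are geometrically reduced. -/
theorem geometricallyReduced (hX : Curv2.AtWorstNodal k X) :
    GeometricallyReduced (X ↘ Spec (CommRingCat.of k)) := by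
  haveI : LocallyOfFiniteType (Curv2.bcSnd k X Kb) :=
    MorphismProperty.pullback_snd (P := @LocallyOfFiniteType) _ _ ‹_›
  haveI : IsLocallyNoetherian (Curv2.bc k X Kb) := LocallyOfFiniteType.isLocallyNoetherian (Curv2.bcSnd k X Kb)
  haveI : ∀ z, _root_.IsReduced ((Curv2.bc k X Kb).presheaf.stalk z) := fun z => by
    obtain ⟨y, hy, hzy⟩ := MiscFlat6.exists_closed_specializes z
    obtain ⟨p, hp, ⟨e⟩⟩ := MiscFlat6.exists_prime_equiv_of_specializes hzy
    haveI := isReduced_stalk_bc k hX y hy
    exact isReduced_of_injective e.symm.toRingHom e.symm.injective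
  haveI : AlgebraicGeometry.IsReduced (FBase.bc (X ↘ Spec (CommRingCat.of k)) Kb) :=
    isReduced_of_isReduced_stalk (Curv2.bc k X Kb)
  exact Groth.Agent.S2535.result (Ω := Kb) (X ↘ Spec (CommRingCat.of k))

end NodalLib

end
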