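import Groth.Agent.NodalLib.NodeMaps
import Groth.Agent.NodalLib.GeomRed
import Groth.Agent.DepthLib.SmoothBCScheme
import Groth.Agent.FlatLib.SmoothScheme
import Groth.Agent.EquidimLib.OpenComponent
import Groth.Agent.UOpenLib.Criterion
import Groth.Agent.AlgSpLib.TrdegInv
import Groth.Agent.S10302
import Groth.Agent.S4673

/-!
# At-worst-nodal schemes: every point is smooth or a geometric node

With this pointwise description, being an at-worst-nodal curve is invariant under base field extension and étale maps.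
-/

set_option autoImplicit false
set_option linter.style.haveILetI false
set_option linter.unusedSectionVars false
set_option maxHeartbeats 1000000
set_option synthInstance.maxHeartbeats 100000
set_option backward.isDefEq.respectTransparency false
set_option backward.isDefEq.respectTransparency.types false

universe u

open CategoryTheory CategoryTheory.Limits AlgebraicGeometry IsLocalRing GeomRedFieldLib

noncomputable section

namespace NodalLib

/-- All components are one-dimensional. -/
def CurveDims (X : Scheme.{u}) : Prop :=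
  ∀ Z ∈ irreducibleComponents (X : Type u), topologicalKrullDim Z = 1

theorem topologicalKrullDim_le_one_of_curveDims {X : Scheme.{u}} (h : CurveDims X) :
    topologicalKrullDim X ≤ 1 :=
  EquidimLib.topologicalKrullDim_le_of_components fun Z hZ => (h Z hZ).le

/-- The nodal condition at a point. -/
def SmoothOrNode (k : Type u) [Field k] (X : Scheme.{u}) [X.Over (Spec (CommRingCat.of k))] (x : X) : Prop :=
  (∃ U : X.Opens, x ∈ U ∧ Smooth (U.ι ≫ (X ↘ Spec (CommRingCat.of k)))) ∨
    (letI := Curv2.stalkAlgebra k X x; IsGeoNode k (X.presheaf.stalk x))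

/-- Being smooth near a point is lying in the smooth locus. -/
theorem smooth_nhd_iff {X Y : Scheme.{u}} (f : X ⟶ Y) [LocallyOfFinitePresentation f] (x : X) :
    (∃ U : X.Opens, x ∈ U ∧ Smooth (U.ι ≫ f)) ↔ x ∈ f.smoothLocus := by
  constructor
  · rintro ⟨U, hxU, hU⟩
    have h : (⟨x, hxU⟩ : U) ∈ U.ι ⁻¹ᵁ f.smoothLocus := by
      rw [Scheme.Hom.preimage_smoothLocus_eq, Scheme.Hom.smoothLocus_eq_top]; trivial
    exact h
  · intro hx
    refine ⟨f.smoothLocus, hx, Scheme.Hom.smoothLocus_eq_top_iff.1 ?_⟩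
    rw [← Scheme.Hom.preimage_smoothLocus_eq, Scheme.Opens.ι_preimage_self]

/-- Smoothness is invariant under étale maps of the source. -/
theorem smooth_etale_iff {X Y S : Scheme.{u}} (π : Y ⟶ X) [Etale π] (f : X ⟶ S) [LocallyOfFinitePresentation f]
    (y : Y) : y ∈ (π ≫ f).smoothLocus ↔ π y ∈ f.smoothLocus := by
  constructor
  · intro hy
    let V : Y.Opens := (π ≫ f).smoothLocus
    let W : X.Opens := ⟨π '' (V : Set Y), π.isOpenMap _ V.isOpen⟩
    let g : (V : Scheme.{u}) ⟶ W := IsOpenImmersion.lift W.ι (V.ι ≫ π) (by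
      rw [Scheme.Opens.range_ι]
      rintro _ ⟨v, rfl⟩
      exact ⟨v.1, v.2, rfl⟩)
    have hg : g ≫ W.ι = V.ι ≫ π := IsOpenImmersion.lift_fac _ _ _
    haveI : Etale (g ≫ W.ι) := hg ▸ inferInstance
    haveI : Etale g := Etale.of_comp g W.ι
    haveI : Surjective g := ⟨fun w => by
      obtain ⟨v, hv, hvw⟩ := w.2
      refine ⟨⟨v, hv⟩, W.ι.isOpenEmbedding.injective ?_⟩
      rw [← Scheme.Hom.comp_apply, hg, Scheme.Hom.comp_apply]
      exact hvw⟩
    haveI : Smooth (g ≫ W.ι ≫ f) := by
      rw [reassoc_of% hg]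
      refine Scheme.Hom.smoothLocus_eq_top_iff.1 ?_
      rw [← Scheme.Hom.preimage_smoothLocus_eq, Scheme.Opens.ι_preimage_self]
    exact (smooth_nhd_iff f (π y)).1 ⟨W, ⟨y, hy, rfl⟩, FlatLib.smooth_of_fppf_comp g (W.ι ≫ f)⟩
  · intro hx
    obtain ⟨U, hxU, hU⟩ := (smooth_nhd_iff f (π y)).2 hx
    refine (smooth_nhd_iff (π ≫ f) y).1 ⟨π ⁻¹ᵁ U, hxU, ?_⟩
    haveI : Etale (π ∣_ U) := IsZariskiLocalAtTarget.restrict ‹_› U
    rw [← Category.assoc, ← morphismRestrict_ι, Category.assoc]
    infer_instance

section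

variable (k : Type u) [Field k] {X : Scheme.{u}} [X.Over (Spec (CommRingCat.of k))]
  [LocallyOfFiniteType (X ↘ Spec (CommRingCat.of k))]

theorem lfp_over : LocallyOfFinitePresentation (X ↘ Spec (CommRingCat.of k)) :=
  UOpenLib.locallyOfFinitePresentation_of_isLocallyNoetherian _

/-- A geometrically reduced scheme is smooth at its generic points. -/
theorem mem_smoothLocus_of_dim_zero (hgr : GeometricallyReduced (X ↘ Spec (CommRingCat.of k)))
    (hred : AlgebraicGeometry.IsReduced X) (x : X) (hx : ringKrullDim (X.presheaf.stalk x) = 0) :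
    haveI := lfp_over k (X := X)
    x ∈ (X ↘ Spec (CommRingCat.of k)).smoothLocus := by
  haveI := lfp_over k (X := X)
  let f := X ↘ Spec (CommRingCat.of k)
  have hd := GeomRedFieldLib.dense_smoothLocus_of_gr (f := f)
  haveI : IsLocallyNoetherian X := LocallyOfFiniteType.isLocallyNoetherian f
  have hmax : IsMax x := (Groth.Agent.S10302.isMax_iff x).1 hx
  obtain ⟨_, ⟨U, hU, rfl⟩, hxU, -⟩ := X.isBasis_affineOpens.exists_subset_of_mem_open (Set.mem_univ x) isOpen_univ
  haveI : IsNoetherianRing Γ(X, U) := IsLocallyNoetherian.component_noetherian ⟨U, hU⟩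
  obtain ⟨p, rfl⟩ : x ∈ Set.range hU.fromSpec := by rw [hU.range_fromSpec]; exact hxU
  -- an open neighbourhood in which `x` generizes every point
  let S : Set (PrimeSpectrum Γ(X, U)) :=
    ⋃ q ∈ {q : PrimeSpectrum Γ(X, U) | q.asIdeal ∈ minimalPrimes Γ(X, U) ∧ q ≠ p}, closure {q}
  have hS : IsClosed S := by
    refine Set.Finite.isClosed_biUnion ?_ fun _ _ => isClosed_closure
    refine Set.Finite.subset (((minimalPrimes.finite_of_isNoetherianRing Γ(X, U))).preimage
      (fun a _ b _ h => PrimeSpectrum.ext h)) fun q hq => hq.1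
  have hpS : p ∉ S := by
    simp only [S, Set.mem_iUnion, not_exists]
    rintro q ⟨-, hq⟩ hqp
    refine hq ?_
    have h1 : (q : PrimeSpectrum Γ(X, U)) ⤳ p := specializes_iff_mem_closure.2 hqp
    have h2 := hmax (show hU.fromSpec p ≤ hU.fromSpec q from h1.map hU.fromSpec.continuous)
    exact hU.fromSpec.isOpenEmbedding.injective
      ((h1.map hU.fromSpec.continuous).antisymm h2).eq
  let W : Set X := hU.fromSpec '' Sᶜ
  obtain ⟨z, hzW, hz⟩ := hd.inter_open_nonempty W (hU.fromSpec.isOpenEmbedding.isOpenMap _ hS.isOpen_compl)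
    ⟨_, p, hpS, rfl⟩
  obtain ⟨q, hq, rfl⟩ := hzW
  obtain ⟨P, hP, hPq⟩ := Ideal.exists_minimalPrimes_le (show (⊥ : Ideal Γ(X, U)) ≤ q.asIdeal from bot_le)
  have hpq : p ⤳ q := by
    by_cases hPp : (⟨P, hP.1.1⟩ : PrimeSpectrum Γ(X, U)) = p
    · rw [← hPp]; exact (PrimeSpectrum.le_iff_specializes _ q).1 hPq
    · refine absurd (?_ : q ∈ S) hq
      exact Set.mem_biUnion (show (⟨P, hP.1.1⟩ : PrimeSpectrum Γ(X, U)) ∈
        {r : PrimeSpectrum Γ(X, U) | r.asIdeal ∈ minimalPrimes Γ(X, U) ∧ r ≠ p} from ⟨hP, hPp⟩)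
        (specializes_iff_mem_closure.1 ((PrimeSpectrum.le_iff_specializes _ q).1 hPq))
  exact (hpq.map hU.fromSpec.continuous).mem_open f.smoothLocus.isOpen hz

/-- A pointwise nodal scheme is at worst nodal. -/
theorem atWorstNodal_of_forall (h : ∀ x : X, SmoothOrNode k X x) : Curv2.AtWorstNodal k X := fun x hx =>
  (h x).imp_right fun hn => (isNode_iff k x).2 ⟨hx, hn⟩

/-- Every point of an at-worst-nodal curve is smooth or a geometric node. -/
theorem forall_of_atWorstNodal (hdim : topologicalKrullDim X ≤ 1) (hX : Curv2.AtWorstNodal k X) (x : X) :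
    SmoothOrNode k X x := by
  haveI := lfp_over k (X := X)
  haveI : IsLocallyNoetherian X := LocallyOfFiniteType.isLocallyNoetherian (X ↘ Spec (CommRingCat.of k))
  by_cases hx : IsClosed ({x} : Set X)
  · exact (hX x hx).imp_right fun hn => ((isNode_iff k x).1 hn).2
  · refine Or.inl ((smooth_nhd_iff _ x).2 ?_)
    refine mem_smoothLocus_of_dim_zero k (geometricallyReduced k hX) (isReduced k hX) x ?_
    obtain ⟨y, hy, hxy⟩ := MiscFlat6.exists_closed_specializes x
    have h1 := (FibDimLib.ringKrullDim_stalk_lt hxy fun e => hx (e ▸ hy)).trans_le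
      ((DimIneqLib.stalk_dim_le_dim y).trans hdim)
    refine le_antisymm ?_ ringKrullDim_nonneg_of_nontrivial
    revert h1
    cases ringKrullDim (X.presheaf.stalk x) with
    | bot => simp
    | coe v =>
      intro h1
      exact_mod_cast (ENat.lt_one_iff_eq_zero.1 (by exact_mod_cast h1)).le

end

/-- Every component is one-dimensional iff the local dimensions are right. -/
theorem curveDims_iff (X : Scheme.{u}) [IsLocallyNoetherian X] :
    CurveDims X ↔ ∀ x : X, ringKrullDim (X.presheaf.stalk x) ≤ 1 ∧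
      (ringKrullDim (X.presheaf.stalk x) = 0 → ¬ IsClosed ({x} : Set X)) := by
  constructor
  · intro h x
    refine ⟨(DimIneqLib.stalk_dim_le_dim x).trans (topologicalKrullDim_le_one_of_curveDims h), fun h0 hc => ?_⟩
    have hmax := (Groth.Agent.S10302.isMax_iff x).1 h0
    let Z := irreducibleComponent x
    have hZ : Z ∈ irreducibleComponents (X : Type u) := irreducibleComponent_mem_irreducibleComponents x
    have hgen := hZ.1.isGenericPoint_genericPoint (isClosed_of_mem_irreducibleComponents _ hZ)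
    have hsp : hZ.1.genericPoint ⤳ x := hgen.specializes mem_irreducibleComponent
    have hZx : Z = {x} := by
      rw [← hgen.def, (hsp.antisymm (hmax hsp)).eq, hc.closure_eq]
    have h1 := h Z hZ
    haveI : Subsingleton ↥Z := ⟨fun a b => Subtype.ext (by
      have ha : a.1 ∈ ({x} : Set X) := hZx ▸ a.2
      have hb : b.1 ∈ ({x} : Set X) := hZx ▸ b.2
      exact ha.trans hb.symm)⟩
    haveI : Subsingleton (TopologicalSpace.IrreducibleCloseds ↥Z) := ⟨fun a b => SetLike.ext fun w => by
      obtain ⟨p, hp⟩ := a.isIrreducible.nonempty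
      obtain ⟨q, hq⟩ := b.isIrreducible.nonempty
      exact ⟨fun _ => Subsingleton.elim q w ▸ hq, fun _ => Subsingleton.elim p w ▸ hp⟩⟩
    have h2 : topologicalKrullDim ↥Z ≤ 0 := Order.krullDim_nonpos_of_subsingleton
    rw [h1] at h2
    exact absurd h2 (by decide)
  · intro h Z hZ
    have hle : topologicalKrullDim X ≤ 1 := by
      by_contra hlt
      obtain ⟨x, hx⟩ := DimIneqLib.exists_stalk_of_chain (X := X) (n := 2) (by
        rcases hd : topologicalKrullDim X with - | v
        · rw [hd] at hlt; exact absurd bot_le hlt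
        · rw [hd] at hlt
          have : (1 : ℕ∞) < v := WithBot.coe_lt_coe.1 (not_le.1 hlt)
          show ((2 : ℕ∞) : WithBot ℕ∞) ≤ (v : WithBot ℕ∞)
          exact_mod_cast Order.add_one_le_of_lt this)
      exact absurd (hx.trans (h x).1) (by decide)
    have hZc := isClosed_of_mem_irreducibleComponents _ hZ
    have hgen := hZ.1.isGenericPoint_genericPoint hZc
    let η := hZ.1.genericPoint
    have hmax : IsMax η := by
      intro z hz
      have hsub : Z ⊆ closure {z} := by
        rw [← hgen.def]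
        exact closure_minimal (Set.singleton_subset_iff.2 (specializes_iff_mem_closure.1 hz)) isClosed_closure
      have heq := hZ.2 isIrreducible_singleton.closure hsub
      exact specializes_iff_mem_closure.2 (hgen.def ▸ heq (subset_closure rfl) : z ∈ closure {η})
    have hnc : ¬ IsClosed ({η} : Set X) := (h η).2 ((Groth.Agent.S10302.isMax_iff η).2 hmax)
    obtain ⟨y, hy, hηy⟩ := MiscFlat6.exists_closed_specializes η
    refine le_antisymm ((topologicalKrullDim_subspace_le X Z).trans hle) ?_
    have hyZ : y ∈ Z := hgen.def ▸ specializes_iff_mem_closure.1 hηy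
    have hηZ : η ∈ Z := hgen.def ▸ subset_closure rfl
    have hne : η ≠ y := fun e => hnc (e ▸ hy)
    haveI : QuasiSober ↥Z := hZc.isClosedEmbedding_subtypeVal.quasiSober
    refine FibDimLib.IsSpecChain.le_topologicalKrullDim
      (c := ![(⟨η, hηZ⟩ : ↥Z), ⟨y, hyZ⟩]) ⟨?_, ?_⟩
    · intro i j e
      fin_cases i <;> fin_cases j <;> simp_all
    · intro i j hij
      fin_cases i <;> fin_cases j
      · exact specializes_rfl
      · exact (subtype_specializes_iff _ _).2 hηy
      · exact absurd hij (by decide)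
      · exact specializes_rfl

section BC

variable (k : Type u) [Field k] {X : Scheme.{u}} [X.Over (Spec (CommRingCat.of k))]
  [LocallyOfFiniteType (X ↘ Spec (CommRingCat.of k))] (K : Type u) [Field K] [Algebra k K]

theorem smoothOrNode_bc (y : Curv2.bc k X K) :
    SmoothOrNode k X (Curv2.bcFst k X K y) ↔
      @SmoothOrNode K _ (Curv2.bc k X K) ⟨Curv2.bcSnd k X K⟩ y := by
  letI : (Curv2.bc k X K).Over (Spec (CommRingCat.of K)) := ⟨Curv2.bcSnd k X K⟩
  haveI : LocallyOfFiniteType ((Curv2.bc k X K) ↘ Spec (CommRingCat.of K)) :=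
    MorphismProperty.pullback_snd (P := @LocallyOfFiniteType) _ _ ‹_›
  haveI := lfp_over k (X := X)
  haveI := lfp_over K (X := Curv2.bc k X K)
  haveI : Flat (Spec.map (CommRingCat.ofHom (algebraMap k K))) := by
    rw [HasRingHomProperty.Spec_iff (P := @Flat)]
    exact RingHom.flat_algebraMap_iff.mpr inferInstance
  refine or_congr ?_ (isGeoNode_bc k K y)
  rw [smooth_nhd_iff, smooth_nhd_iff]
  exact (DepthLib.mem_smoothLocus_baseChange_scheme (X ↘ Spec (CommRingCat.of k)) _
    ((Curv2.bc k X K) ↘ Spec (CommRingCat.of K)) (Curv2.bcFst k X K) (IsPullback.of_hasPullback _ _)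
    (Or.inr inferInstance) y).symm

/-- At-worst-nodal curves stay so after extending the base field. -/
theorem atWorstNodal_bc (hdim : topologicalKrullDim X ≤ 1) (hX : Curv2.AtWorstNodal k X) :
    @Curv2.AtWorstNodal K _ (Curv2.bc k X K) ⟨Curv2.bcSnd k X K⟩ := by
  letI : (Curv2.bc k X K).Over (Spec (CommRingCat.of K)) := ⟨Curv2.bcSnd k X K⟩
  haveI : LocallyOfFiniteType ((Curv2.bc k X K) ↘ Spec (CommRingCat.of K)) :=
    MorphismProperty.pullback_snd (P := @LocallyOfFiniteType) _ _ ‹_›
  exact atWorstNodal_of_forall K fun y => (smoothOrNode_bc k K y).1 (forall_of_atWorstNodal k hdim hX _)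

/-- Being at worst nodal descends from an extension of the base field. -/
theorem atWorstNodal_of_bc (hdim : topologicalKrullDim (Curv2.bc k X K) ≤ 1)
    (hX : @Curv2.AtWorstNodal K _ (Curv2.bc k X K) ⟨Curv2.bcSnd k X K⟩) : Curv2.AtWorstNodal k X := by
  letI : (Curv2.bc k X K).Over (Spec (CommRingCat.of K)) := ⟨Curv2.bcSnd k X K⟩
  haveI : LocallyOfFiniteType ((Curv2.bc k X K) ↘ Spec (CommRingCat.of K)) :=
    MorphismProperty.pullback_snd (P := @LocallyOfFiniteType) _ _ ‹_›
  refine atWorstNodal_of_forall k fun x => ?_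
  obtain ⟨y, rfl⟩ := GeoPtLib.surjective_fst (K := K) (X ↘ Spec (CommRingCat.of k)) x
  exact (smoothOrNode_bc k K y).2 (forall_of_atWorstNodal K hdim hX y)

/-- The component dimensions do not change under extension of the base field. -/
theorem curveDims_bc : CurveDims (Curv2.bc k X K) ↔ CurveDims X := by
  have h := Groth.Agent.S4673.result (K := K) (X ↘ Spec (CommRingCat.of k))
  constructor
  · intro H Z hZ
    obtain ⟨T, hT, hTZ⟩ := h.symm.subset ⟨Z, hZ, rfl⟩
    exact hTZ.symm.trans (H T hT)
  · intro H T hT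
    obtain ⟨Z, hZ, hTZ⟩ := h.subset ⟨T, hT, rfl⟩
    exact hTZ.symm.trans (H Z hZ)

end BC

section Etale

variable (k : Type u) [Field k] {X : Scheme.{u}} [X.Over (Spec (CommRingCat.of k))]
  [LocallyOfFiniteType (X ↘ Spec (CommRingCat.of k))] {Y : Scheme.{u}} (π : Y ⟶ X) [Etale π]

theorem smoothOrNode_etale (y : Y) :
    SmoothOrNode k X (π y) ↔ @SmoothOrNode k _ Y ⟨π ≫ X ↘ Spec (CommRingCat.of k)⟩ y := by
  letI : Y.Over (Spec (CommRingCat.of k)) := ⟨π ≫ X ↘ Spec (CommRingCat.of k)⟩
  haveI := lfp_over k (X := X)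
  refine or_congr ?_ (isGeoNode_etale k π y)
  rw [smooth_nhd_iff]
  exact (smooth_etale_iff π (X ↘ Spec (CommRingCat.of k)) y).symm.trans
    (smooth_nhd_iff (π ≫ X ↘ Spec (CommRingCat.of k)) y).symm

include k in
/-- Closedness of points is invariant under étale maps between curves over a field. -/
theorem isClosed_etale_iff (y : Y) : IsClosed ({π y} : Set X) ↔ IsClosed ({y} : Set Y) := by
  let f := X ↘ Spec (CommRingCat.of k)
  haveI : JacobsonSpace ↥X := LocallyOfFiniteType.jacobsonSpace f
  constructor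
  · intro hc
    haveI : IsLocallyNoetherian Y := LocallyOfFiniteType.isLocallyNoetherian (π ≫ f)
    obtain ⟨y', hy', hyy'⟩ := MiscFlat6.exists_closed_specializes y
    by_cases hne : y = y'
    · exact hne ▸ hy'
    have h1 := FibDimLib.ringKrullDim_stalk_lt hyy' hne
    rw [AlgSpLib.ringKrullDim_stalk_etale π y, AlgSpLib.ringKrullDim_stalk_etale π y'] at h1
    have heq : π y' = π y := (hyy'.map π.continuous).mem_closed hc rfl
    rw [heq] at h1
    exact absurd h1 (lt_irrefl _)
  · intro hc
    exact mem_closedPoints_iff.1 (π.closePoints_subset_preimage_closedPoints (mem_closedPoints_iff.2 hc))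

include k π in
theorem curveDims_of_etale (h : CurveDims X) : CurveDims Y := by
  let f := X ↘ Spec (CommRingCat.of k)
  haveI : IsLocallyNoetherian X := LocallyOfFiniteType.isLocallyNoetherian f
  haveI : IsLocallyNoetherian Y := LocallyOfFiniteType.isLocallyNoetherian (π ≫ f)
  rw [curveDims_iff] at h ⊢
  intro y
  rw [AlgSpLib.ringKrullDim_stalk_etale π y, ← isClosed_etale_iff k π y]
  exact h (π y)

include k in
theorem curveDims_of_etale_surjective {ι : Type u} {U : ι → Scheme.{u}} (g : ∀ i, U i ⟶ X) [∀ i, Etale (g i)]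
    (hsurj : ∀ x : X, ∃ i, x ∈ Set.range (g i)) (h : ∀ i, CurveDims (U i)) : CurveDims X := by
  let f := X ↘ Spec (CommRingCat.of k)
  haveI : IsLocallyNoetherian X := LocallyOfFiniteType.isLocallyNoetherian f
  rw [curveDims_iff]
  intro x
  obtain ⟨i, y, rfl⟩ := hsurj x
  haveI : IsLocallyNoetherian (U i) := LocallyOfFiniteType.isLocallyNoetherian (g i ≫ f)
  have := ((curveDims_iff (U i)).1 (h i)) y
  rw [AlgSpLib.ringKrullDim_stalk_etale (g i) y] at this
  rwa [isClosed_etale_iff k (g i) y]

end Etale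

end NodalLib

end
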