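import Groth.Agent.NodalLib.Crit
import Mathlib.FieldTheory.IsAlgClosed.AlgebraicClosure
import Mathlib.RingTheory.Flat.Localization

/-!
# Geometric nodes of local algebras

For a local `k`-algebra `A` and a map `φ : A → L` to an algebraically closed field, the geometric local ring is
`(L ⊗ A)` localised at the point `φ`. Whether it is an ordinary double point does not depend on `φ`, and is unchanged
by étale and separable base changes.
-/

set_option autoImplicit false
set_option linter.style.haveILetI false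
set_option linter.unusedSectionVars false
set_option maxHeartbeats 1000000
set_option synthInstance.maxHeartbeats 100000

universe u

open IsLocalRing TensorProduct

noncomputable section

namespace NodalLib

variable {k : Type u} [Field k] {A : Type u} [CommRing A] [Algebra k A] {L : Type u} [Field L] [Algebra k L]

/-- Evaluation of `L ⊗ A` at an `L`-valued point. -/
def geoEv (φ : A →ₐ[k] L) : L ⊗[k] A →ₐ[L] L :=
  Algebra.TensorProduct.lift (Algebra.ofId L L) φ (fun _ _ => Commute.all _ _)

@[simp] theorem geoEv_tmul (φ : A →ₐ[k] L) (c : L) (a : A) : geoEv φ (c ⊗ₜ a) = c * φ a := by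
  simp [geoEv]

/-- The point of `L ⊗ A` given by `φ`. -/
def geoPt (φ : A →ₐ[k] L) : PrimeSpectrum (L ⊗[k] A) :=
  ⟨RingHom.ker (geoEv φ).toRingHom, RingHom.ker_isPrime _⟩

theorem mem_geoPt (φ : A →ₐ[k] L) (z : L ⊗[k] A) : z ∈ (geoPt φ).asIdeal ↔ geoEv φ z = 0 := Iff.rfl

/-- The geometric local ring at `φ`. -/
abbrev GLoc (φ : A →ₐ[k] L) : Type u := Localization.AtPrime (geoPt φ).asIdeal

theorem map_residue (φ : A →ₐ[k] L) (z : GLoc φ) :
    ∃ c : L, z - algebraMap L (GLoc φ) c ∈ maximalIdeal (GLoc φ) := by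
  have hu : ∀ s : (geoPt φ).asIdeal.primeCompl, IsUnit ((geoEv φ).toRingHom s) := fun s =>
    isUnit_iff_ne_zero.2 fun h => s.2 h
  let e : GLoc φ →+* L := IsLocalization.lift (M := (geoPt φ).asIdeal.primeCompl) hu
  refine ⟨e z, (IsLocalRing.mem_maximalIdeal _).2 fun h => (h.map e).ne_zero ?_⟩
  rw [map_sub, IsScalarTower.algebraMap_apply L (L ⊗[k] A) (GLoc φ), IsLocalization.lift_eq]
  simp [geoEv]

theorem map_mem_max (φ : A →ₐ[k] L) {z : L ⊗[k] A} (hz : geoEv φ z = 0) :
    algebraMap _ (GLoc φ) z ∈ maximalIdeal (GLoc φ) := by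
  rw [← IsLocalization.AtPrime.map_eq_maximalIdeal (geoPt φ).asIdeal (GLoc φ)]
  exact Ideal.mem_map_of_mem _ hz

theorem isNoetherianRing_GLoc [Algebra.EssFiniteType k A] (φ : A →ₐ[k] L) : IsNoetherianRing (GLoc φ) := by
  haveI : IsNoetherianRing (L ⊗[k] A) := Algebra.EssFiniteType.isNoetherianRing L _
  exact IsLocalization.isNoetherianRing (geoPt φ).asIdeal.primeCompl _ inferInstance

/-- The geometric local ring at `φ` is an ordinary double point. -/
def GeoODP (φ : A →ₐ[k] L) : Prop := Curv2.IsOrdDoublePt L (GLoc φ)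

/-- An ordinary double point over an algebraically closed field satisfies the criterion. -/
theorem nodeCrit_of_odp {K B : Type u} [Field K] [IsAlgClosed K] [CommRing B] [IsLocalRing B] [IsNoetherianRing B]
    [Algebra K B] (hK : ∀ z : B, ∃ c : K, z - algebraMap K B c ∈ maximalIdeal B)
    (h : Curv2.IsOrdDoublePt K B) : NodeCrit B := by
  obtain ⟨e, -⟩ := h
  obtain ⟨hCl, hCn, hCh, hCm, -⟩ := CohenLib.completion_facts B (maximalIdeal B) (maximalIdeal.isMaximal B).ne_top
  haveI := isLocalRing_R K
  letI : Algebra B (R K) := (e.toRingHom.comp (algebraMap B (AdicCompletion (maximalIdeal B) B))).toAlgebra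
  haveI : Module.Flat B (AdicCompletion (maximalIdeal B) B) := AdicCompletion.flat_of_isNoetherian _
  let eA : AdicCompletion (maximalIdeal B) B ≃ₐ[B] R K := AlgEquiv.ofRingEquiv (f := e) fun _ => rfl
  haveI : Module.Flat B (R K) := Module.Flat.of_linearEquiv eA.symm.toLinearEquiv
  have hm : (maximalIdeal B).map (algebraMap B (R K)) = maximalIdeal (R K) := by
    rw [← map_maximalIdeal_of_surjective e.toRingHom e.surjective, ← hCm, Ideal.map_map]
    rfl
  haveI : IsLocalHom (algebraMap B (R K)) := ((IsLocalRing.local_hom_TFAE (algebraMap B (R K))).out 0 2).2 hm.le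
  haveI : Module.FaithfullyFlat B (R K) := Module.FaithfullyFlat.of_flat_of_isLocalHom
  exact nodeCrit_of_flat (L := K) hK hm

/-- Along a flat unramified extension, ordinary double points go up and down. -/
theorem odp_iff_of_unramified {K L' B B' : Type u} [Field K] [IsAlgClosed K] [Field L'] [IsAlgClosed L']
    [CommRing B] [IsLocalRing B] [IsNoetherianRing B] [CommRing B'] [IsLocalRing B'] [IsNoetherianRing B']
    [Algebra K B] [Algebra L' B'] (hK : ∀ z : B, ∃ c : K, z - algebraMap K B c ∈ maximalIdeal B)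
    (hK' : ∀ z : B', ∃ c : L', z - algebraMap L' B' c ∈ maximalIdeal B')
    [Algebra B B'] [Module.Flat B B'] (hm : (maximalIdeal B).map (algebraMap B B') = maximalIdeal B') :
    Curv2.IsOrdDoublePt K B ↔ Curv2.IsOrdDoublePt L' B' := by
  haveI : IsLocalHom (algebraMap B B') := ((IsLocalRing.local_hom_TFAE (algebraMap B B')).out 0 2).2 hm.le
  haveI : Module.FaithfullyFlat B B' := Module.FaithfullyFlat.of_flat_of_isLocalHom
  refine ⟨fun h => isOrdDoublePt_of_crit hK' ((nodeCrit_of_odp hK h).map hm), fun h => ?_⟩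
  obtain ⟨e, -⟩ := h
  obtain ⟨hCl, hCn, hCh, hCm, -⟩ :=
    CohenLib.completion_facts B' (maximalIdeal B') (maximalIdeal.isMaximal B').ne_top
  haveI := isLocalRing_R L'
  letI : Algebra B' (R L') := (e.toRingHom.comp (algebraMap B' (AdicCompletion (maximalIdeal B') B'))).toAlgebra
  haveI : Module.Flat B' (AdicCompletion (maximalIdeal B') B') := AdicCompletion.flat_of_isNoetherian _
  let eA : AdicCompletion (maximalIdeal B') B' ≃ₐ[B'] R L' := AlgEquiv.ofRingEquiv (f := e) fun _ => rfl
  haveI : Module.Flat B' (R L') := Module.Flat.of_linearEquiv eA.symm.toLinearEquiv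
  have hm' : (maximalIdeal B').map (algebraMap B' (R L')) = maximalIdeal (R L') := by
    rw [← map_maximalIdeal_of_surjective e.toRingHom e.surjective, ← hCm, Ideal.map_map]
    rfl
  haveI : IsLocalHom (algebraMap B' (R L')) :=
    ((IsLocalRing.local_hom_TFAE (algebraMap B' (R L'))).out 0 2).2 hm'.le
  haveI : Module.FaithfullyFlat B' (R L') := Module.FaithfullyFlat.of_flat_of_isLocalHom
  letI : Algebra B (R L') := ((algebraMap B' (R L')).comp (algebraMap B B')).toAlgebra
  haveI : IsScalarTower B B' (R L') := IsScalarTower.of_algebraMap_eq' rfl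
  haveI : Module.FaithfullyFlat B (R L') := Module.FaithfullyFlat.trans B B' (R L')
  exact isOrdDoublePt_of_crit hK (nodeCrit_of_flat (L := L') hK (by
    rw [IsScalarTower.algebraMap_eq B B' (R L'), ← Ideal.map_map, hm, hm']))

section Transfer

variable {k' : Type u} [Field k'] {A' : Type u} [CommRing A'] [Algebra k' A'] {L' : Type u} [Field L']
  [Algebra k' L']

/-- Comparison of geometric local rings along a flat map. -/
theorem geoODP_transfer [IsAlgClosed L] [IsAlgClosed L'] (φ : A →ₐ[k] L) (φ' : A' →ₐ[k'] L') (ι : L →+* L')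
    (ψ : L ⊗[k] A →+* L' ⊗[k'] A') (hψ : ψ.Flat) (hev : ∀ z, geoEv φ' (ψ z) = ι (geoEv φ z))
    [IsNoetherianRing (GLoc φ)] [IsNoetherianRing (GLoc φ')]
    (hgen : ∀ (I : Ideal (GLoc φ')), (∀ z, geoEv φ z = 0 → algebraMap _ (GLoc φ') (ψ z) ∈ I) →
      ∀ a : A', algebraMap _ (GLoc φ') ((1 : L') ⊗ₜ[k'] a - φ' a ⊗ₜ[k'] (1 : A')) ∈ I) :
    GeoODP φ ↔ GeoODP φ' := by
  have hP : (geoPt φ).asIdeal = (geoPt φ').asIdeal.comap ψ := Ideal.ext fun z => by
    rw [Ideal.mem_comap, mem_geoPt, mem_geoPt, hev, map_eq_zero_iff ι ι.injective]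
  let θ := Localization.localRingHom (geoPt φ).asIdeal (geoPt φ').asIdeal ψ hP
  have hθ : ∀ z, θ (algebraMap _ (GLoc φ) z) = algebraMap _ (GLoc φ') (ψ z) :=
    Localization.localRingHom_to_map _ _ _ _
  letI : Algebra (GLoc φ) (GLoc φ') := θ.toAlgebra
  haveI : Module.Flat (GLoc φ) (GLoc φ') := by
    letI : Algebra (L ⊗[k] A) (GLoc φ') := ((algebraMap (L' ⊗[k'] A') (GLoc φ')).comp ψ).toAlgebra
    haveI : IsScalarTower (L ⊗[k] A) (GLoc φ) (GLoc φ') := IsScalarTower.of_algebraMap_eq fun z => (hθ z).symm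
    rw [Module.flat_iff_of_isLocalization (GLoc φ) (geoPt φ).asIdeal.primeCompl, ← RingHom.flat_algebraMap_iff]
    exact RingHom.Flat.comp hψ
      (RingHom.flat_algebraMap_iff.2 (IsLocalization.flat (GLoc φ') (geoPt φ').asIdeal.primeCompl))
  have hm : (maximalIdeal (GLoc φ)).map (algebraMap (GLoc φ) (GLoc φ')) = maximalIdeal (GLoc φ') := by
    haveI : IsLocalHom θ := Localization.isLocalHom_localRingHom _ _ _ _
    refine le_antisymm (((IsLocalRing.local_hom_TFAE θ).out 0 2).1 ‹_›) ?_
    let I := (maximalIdeal (GLoc φ)).map θ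
    have hI : ∀ z, geoEv φ z = 0 → algebraMap _ (GLoc φ') (ψ z) ∈ I := fun z hz => by
      rw [← hθ]; exact Ideal.mem_map_of_mem _ (map_mem_max φ hz)
    have hA := hgen I hI
    rw [← IsLocalization.AtPrime.map_eq_maximalIdeal (geoPt φ').asIdeal (GLoc φ'), Ideal.map_le_iff_le_comap]
    intro z hz
    have key : ∀ w : L' ⊗[k'] A', algebraMap _ (GLoc φ') (w - algebraMap L' (L' ⊗[k'] A') (geoEv φ' w)) ∈ I := by
      intro w
      induction w using TensorProduct.induction_on with
      | zero => simp
      | tmul c a =>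
        rw [show c ⊗ₜ[k'] a - algebraMap L' (L' ⊗[k'] A') (geoEv φ' (c ⊗ₜ a)) =
          (c ⊗ₜ[k'] (1 : A')) * ((1 : L') ⊗ₜ[k'] a - φ' a ⊗ₜ[k'] 1) by simp [mul_sub], map_mul]
        exact Ideal.mul_mem_left _ _ (hA a)
      | add v w hv hw =>
        rw [map_add, map_add, add_sub_add_comm, map_add]
        exact add_mem hv hw
    have := key z
    rw [(mem_geoPt φ' z).1 hz, map_zero, sub_zero] at this
    exact this
  exact odp_iff_of_unramified (map_residue φ) (map_residue φ') hm

end Transfer

variable [Algebra.EssFiniteType k A] [IsAlgClosed L]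

/-- Extension of the algebraically closed field. -/
theorem geoODP_ext {L' : Type u} [Field L'] [IsAlgClosed L'] [Algebra k L'] (ι : L →ₐ[k] L') (φ : A →ₐ[k] L) :
    GeoODP φ ↔ GeoODP (ι.comp φ) := by
  haveI := isNoetherianRing_GLoc φ
  haveI := isNoetherianRing_GLoc (ι.comp φ)
  refine geoODP_transfer φ (ι.comp φ) ι.toRingHom (Algebra.TensorProduct.map ι (AlgHom.id k A)).toRingHom ?_
    (fun z => ?_) (fun I hI a => ?_)
  · letI : Algebra L L' := ι.toRingHom.toAlgebra
    haveI : IsScalarTower k L L' := IsScalarTower.of_algebraMap_eq fun x => (ι.commutes x).symm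
    let e := Algebra.TensorProduct.cancelBaseChange k L L L' A
    have : (Algebra.TensorProduct.map ι (AlgHom.id k A)).toRingHom = (e.toRingEquiv.toRingHom.comp
        (Algebra.TensorProduct.includeRight (R := L) (A := L') (B := L ⊗[k] A)).toRingHom) := by
      apply RingHom.ext
      intro z
      induction z using TensorProduct.induction_on with
      | zero => simp
      | tmul c a => simp [e, Algebra.smul_def]; rfl
      | add v w hv hw => rw [map_add, map_add, hv, hw]
    rw [this]
    refine RingHom.Flat.comp ?_ (RingHom.Flat.of_bijective e.bijective)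
    let ec := Algebra.TensorProduct.comm L (L ⊗[k] A) L'
    have : (Algebra.TensorProduct.includeRight (R := L) (A := L') (B := L ⊗[k] A)).toRingHom =
        ec.toRingEquiv.toRingHom.comp (algebraMap (L ⊗[k] A) ((L ⊗[k] A) ⊗[L] L')) := by
      apply RingHom.ext
      intro z
      simp [ec]
    rw [this]
    exact RingHom.Flat.comp (RingHom.flat_algebraMap_iff.2 inferInstance) (RingHom.Flat.of_bijective ec.bijective)
  · induction z using TensorProduct.induction_on with
    | zero => simp
    | tmul c a => simp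
    | add v w hv hw => simp only [map_add, hv, hw]
  · have := hI ((1 : L) ⊗ₜ[k] a - φ a ⊗ₜ[k] (1 : A)) (by simp)
    simpa using this

variable [IsLocalRing A]

/-- Being a geometric node does not depend on the geometric point over the closed point. -/
theorem geoODP_indep {L' : Type u} [Field L'] [IsAlgClosed L'] [Algebra k L'] (φ : A →ₐ[k] L) (φ' : A →ₐ[k] L')
    (hφ : ∀ a ∈ maximalIdeal A, φ a = 0) (hφ' : ∀ a ∈ maximalIdeal A, φ' a = 0) : GeoODP φ ↔ GeoODP φ' := by
  let κ := ResidueField A
  let f : κ →+* L := Ideal.Quotient.lift (maximalIdeal A) φ.toRingHom hφ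
  let f' : κ →+* L' := Ideal.Quotient.lift (maximalIdeal A) φ'.toRingHom hφ'
  letI : Algebra κ L := f.toAlgebra
  letI : Algebra κ L' := f'.toAlgebra
  obtain ⟨M, hM⟩ := Ideal.exists_maximal (L ⊗[κ] L')
  haveI := hM
  letI : Field ((L ⊗[κ] L') ⧸ M) := Ideal.Quotient.field M
  let Ω := AlgebraicClosure ((L ⊗[κ] L') ⧸ M)
  let g : L ⊗[κ] L' →+* Ω := (algebraMap _ Ω).comp (Ideal.Quotient.mk M)
  let i : L →+* Ω := g.comp (Algebra.TensorProduct.includeLeftRingHom (R := κ) (A := L) (B := L'))
  let i' : L' →+* Ω := g.comp (Algebra.TensorProduct.includeRight (R := κ) (A := L) (B := L')).toRingHom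
  have hii' : ∀ a : A, i (φ a) = i' (φ' a) := fun a => by
    show g (f (residue A a) ⊗ₜ 1) = g (1 ⊗ₜ f' (residue A a))
    congr 1
    rw [← mul_one (f (residue A a)), ← mul_one (f' (residue A a))]
    exact TensorProduct.smul_tmul (residue A a) (1 : L) (1 : L')
  letI : Algebra k Ω := (i.comp (algebraMap k L)).toAlgebra
  let ι : L →ₐ[k] Ω := { i with commutes' := fun _ => rfl }
  have hi' : ∀ c, i' (algebraMap k L' c) = i (algebraMap k L c) := fun c => by
    rw [← φ.commutes c, ← φ'.commutes c]
    exact (hii' _).symm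
  let ι' : L' →ₐ[k] Ω := { i' with commutes' := hi' }
  rw [geoODP_ext ι φ, geoODP_ext ι' φ']
  exact Iff.of_eq (congrArg GeoODP (AlgHom.ext hii'))

/-- A geometric node: some, equivalently any, geometric point over the closed point is an ordinary double point. -/
def IsGeoNode (k A : Type u) [Field k] [CommRing A] [IsLocalRing A] [Algebra k A] : Prop :=
  ∃ φ : A →ₐ[k] AlgebraicClosure (ResidueField A),
    (∀ a ∈ maximalIdeal A, φ a = 0) ∧ GeoODP φ

/-- A geometric node can be tested at any geometric point over the closed point. -/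
theorem isGeoNode_iff (φ : A →ₐ[k] L) (hφ : ∀ a ∈ maximalIdeal A, φ a = 0) : IsGeoNode k A ↔ GeoODP φ := by
  constructor
  · rintro ⟨φ', hφ', h⟩
    exact (geoODP_indep φ' φ hφ' hφ).1 h
  · intro h
    let φ' : A →ₐ[k] AlgebraicClosure (ResidueField A) :=
      (IsScalarTower.toAlgHom k (ResidueField A) _).comp (IsScalarTower.toAlgHom k A (ResidueField A))
    have hφ' : ∀ a ∈ maximalIdeal A, φ' a = 0 := fun a ha => by
      show algebraMap (ResidueField A) _ (residue A a) = 0
      rw [(residue_eq_zero_iff a).2 ha, map_zero]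
    exact ⟨φ', hφ', (geoODP_indep φ φ' hφ hφ').1 h⟩

/-- Invariance under flat unramified extensions with separable residue extension (etale extensions). -/
theorem isGeoNode_iff_of_etale {A' : Type u} [CommRing A'] [IsLocalRing A'] [Algebra k A'] [Algebra.EssFiniteType k A']
    (α : A →ₐ[k] A') (hfl : α.toRingHom.Flat) [IsLocalHom α.toRingHom]
    (hm : (maximalIdeal A).map α.toRingHom = maximalIdeal A')
    (hsep : ∀ a : A', ∃ p : Polynomial A, (Polynomial.eval₂ α.toRingHom a p) ∈ maximalIdeal A' ∧
      IsUnit (Polynomial.eval₂ α.toRingHom a (Polynomial.derivative p))) :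
    IsGeoNode k A ↔ IsGeoNode k A' := by
  let Ω := AlgebraicClosure (ResidueField A')
  let φ' : A' →ₐ[k] Ω :=
    (IsScalarTower.toAlgHom k (ResidueField A') _).comp (IsScalarTower.toAlgHom k A' (ResidueField A'))
  have hφ' : ∀ a ∈ maximalIdeal A', φ' a = 0 := fun a ha => by
    show algebraMap (ResidueField A') _ (residue A' a) = 0
    rw [(residue_eq_zero_iff a).2 ha, map_zero]
  have hφ : ∀ a ∈ maximalIdeal A, (φ'.comp α) a = 0 := fun a ha =>
    hφ' _ (hm.le (Ideal.mem_map_of_mem _ ha))
  rw [isGeoNode_iff (φ'.comp α) hφ, isGeoNode_iff φ' hφ']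
  haveI := isNoetherianRing_GLoc φ'
  haveI := isNoetherianRing_GLoc (φ'.comp α)
  refine geoODP_transfer (φ'.comp α) φ' (RingHom.id Ω) (Algebra.TensorProduct.map (AlgHom.id Ω Ω) α).toRingHom ?_
    (fun z => ?_) (fun I hI a => ?_)
  · letI : Algebra A A' := α.toRingHom.toAlgebra
    haveI : IsScalarTower k A A' := IsScalarTower.of_algebraMap_eq fun c => (α.commutes c).symm
    haveI : Module.Flat A A' := hfl
    let e := ((Algebra.TensorProduct.comm k A' Ω).toRingEquiv)
    let c := Algebra.TensorProduct.cancelBaseChange k A A A' Ω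
    have : (Algebra.TensorProduct.map (AlgHom.id Ω Ω) α).toRingHom = (e.toRingHom.comp
        ((c.toRingEquiv.toRingHom.comp (Algebra.TensorProduct.includeRight (R := A) (A := A') (B := A ⊗[k] Ω)).toRingHom).comp
          (Algebra.TensorProduct.comm k Ω A).toRingEquiv.toRingHom)) := by
      apply RingHom.ext
      intro z
      induction z using TensorProduct.induction_on with
      | zero => simp
      | tmul b a => simp [e, c, Algebra.smul_def, RingHom.algebraMap_toAlgebra]
      | add v w hv hw => rw [map_add, map_add, hv, hw]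
    rw [this]
    refine RingHom.Flat.comp (RingHom.Flat.comp (RingHom.Flat.of_bijective
      (Algebra.TensorProduct.comm k Ω A).bijective) (RingHom.Flat.comp ?_ (RingHom.Flat.of_bijective c.bijective)))
      (RingHom.Flat.of_bijective e.bijective)
    let ec := Algebra.TensorProduct.comm A (A ⊗[k] Ω) A'
    have : (Algebra.TensorProduct.includeRight (R := A) (A := A') (B := A ⊗[k] Ω)).toRingHom =
        ec.toRingEquiv.toRingHom.comp (algebraMap (A ⊗[k] Ω) ((A ⊗[k] Ω) ⊗[A] A')) := by
      apply RingHom.ext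
      intro z
      simp [ec]
    rw [this]
    exact RingHom.Flat.comp (RingHom.flat_algebraMap_iff.2 inferInstance) (RingHom.Flat.of_bijective ec.bijective)
  · induction z using TensorProduct.induction_on with
    | zero => simp
    | tmul c a => simp
    | add v w hv hw => simp only [map_add, hv, hw]
  · let ρ : A' →+* GLoc φ' := (algebraMap (Ω ⊗[k] A') (GLoc φ')).comp
      (Algebra.TensorProduct.includeRight (R := k) (A := Ω) (B := A')).toRingHom
    let σ : Ω →+* GLoc φ' := algebraMap Ω (GLoc φ')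
    have hσ : ∀ c, σ c = algebraMap (Ω ⊗[k] A') (GLoc φ') (c ⊗ₜ 1) := fun c => rfl
    have hA : ∀ b : A, ρ (α b) - σ (φ' (α b)) ∈ I := fun b => by
      have := hI ((1 : Ω) ⊗ₜ[k] b - φ' (α b) ⊗ₜ[k] (1 : A)) (by simp)
      simpa [ρ, hσ, map_sub] using this
    have hmI : ∀ c ∈ maximalIdeal A', ρ c ∈ I := by
      intro c hc
      rw [← hm] at hc
      refine Ideal.map_le_iff_le_comap.2
        (show maximalIdeal A ≤ (I.comap ρ).comap α.toRingHom from fun b hb => ?_) hc
      have := hA b
      rw [show φ' (α b) = 0 from hφ b hb, map_zero, sub_zero] at this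
      exact this
    obtain ⟨p, hp, hp'⟩ := hsep a
    let q : Polynomial Ω := p.map (φ'.comp α).toRingHom
    let d : GLoc φ' := ρ a - σ (φ' a)
    have h0 : q.eval (φ' a) = 0 := by
      rw [Polynomial.eval_map]
      refine (Polynomial.hom_eval₂ p α.toRingHom φ'.toRingHom a).symm.trans ?_
      exact hφ' _ hp
    have h1 : q.derivative.eval (φ' a) ≠ 0 := by
      rw [Polynomial.derivative_map, Polynomial.eval_map]
      refine fun h => ?_
      have h' := (Polynomial.hom_eval₂ (Polynomial.derivative p) α.toRingHom φ'.toRingHom a).trans h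
      exact (hp'.map φ').ne_zero h'
    have hqI : (q.map σ).eval (ρ a) ∈ I := by
      have h2 : Ideal.Quotient.mk I ((q.map σ).eval (ρ a)) = Ideal.Quotient.mk I (ρ (p.eval₂ α.toRingHom a)) := by
        rw [Polynomial.map_map, Polynomial.eval_map, Polynomial.hom_eval₂, Polynomial.hom_eval₂, Polynomial.hom_eval₂]
        congr 1
        exact RingHom.ext fun b => (Ideal.Quotient.eq.2 (hA b)).symm
      rw [← Ideal.Quotient.eq_zero_iff_mem, h2, Ideal.Quotient.eq_zero_iff_mem]
      exact hmI _ hp
    obtain ⟨w, hw⟩ := (q.map σ).binomExpansion (σ (φ' a)) d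
    rw [show σ (φ' a) + d = ρ a by simp [d], Polynomial.eval_map_apply, h0, map_zero, zero_add,
      Polynomial.derivative_map, Polynomial.eval_map_apply] at hw
    have hd : d ∈ maximalIdeal (GLoc φ') := by
      have := map_mem_max φ' (z := (1 : Ω) ⊗ₜ[k] a - φ' a ⊗ₜ[k] (1 : A')) (by simp)
      simpa [d, ρ, hσ, map_sub] using this
    have hu : IsUnit (σ (q.derivative.eval (φ' a)) + w * d) := by
      rw [← not_not (a := IsUnit _), ← mem_nonunits_iff, ← IsLocalRing.mem_maximalIdeal]
      intro hh
      have h3 := (Ideal.add_mem_iff_left _ (Ideal.mul_mem_left _ w hd)).1 hh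
      exact (IsLocalRing.mem_maximalIdeal _).1 h3 ((isUnit_iff_ne_zero.2 h1).map σ)
    have hdI : d ∈ I := by
      refine (Ideal.unit_mul_mem_iff_mem I hu).1 ?_
      rw [show (σ (q.derivative.eval (φ' a)) + w * d) * d = (q.map σ).eval (ρ a) by rw [hw]; ring]
      exact hqI
    simpa [d, ρ, hσ, map_sub] using hdI

end NodalLib

end
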