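import Groth.Agent.NodalLib.Crit
import Mathlib.RingTheory.Smooth.AdicCompletion
import Mathlib.RingTheory.Etale.Field

/-!
# Quadratic nodes and their completions

A Noetherian local ring whose maximal ideal has two independent generators satisfying a nondegenerate quadratic relation
modulo the cube, and which has a regular element, completes to the plane node of that quadratic form.
-/

set_option autoImplicit false
set_option linter.style.haveILetI false
set_option linter.unusedSectionVars false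
set_option maxHeartbeats 1000000
set_option synthInstance.maxHeartbeats 100000

universe u

open IsLocalRing

noncomputable section

namespace NodalLib

/-- The binary quadratic form with given coefficients. -/
def qf {S : Type*} [CommRing S] (a b c x y : S) : S := a * x ^ 2 + b * x * y + c * y ^ 2

theorem map_qf {S T : Type*} [CommRing S] [CommRing T] (f : S →+* T) (a b c x y : S) :
    f (qf a b c x y) = qf (f a) (f b) (f c) (f x) (f y) := by simp [qf]

/-- The algebraic nodal condition. -/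
def QNode (A : Type*) [CommRing A] [IsLocalRing A] : Prop :=
  ∃ x y a b c : A, maximalIdeal A = Ideal.span {x, y} ∧
    (∀ p r : A, p * x + r * y ∈ maximalIdeal A ^ 2 → p ∈ maximalIdeal A ∧ r ∈ maximalIdeal A) ∧
    IsUnit (4 * a * c - b ^ 2) ∧ qf a b c x y ∈ maximalIdeal A ^ 3 ∧
    ∃ t ∈ maximalIdeal A, t ∈ nonZeroDivisors A

/-- Small changes of generators of the maximal ideal still generate. -/
theorem span_pair_eq_max {C : Type*} [CommRing C] [IsLocalRing C] [IsNoetherianRing C] {x y u v : C}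
    (h : maximalIdeal C = Ideal.span {x, y}) (hu : u - x ∈ maximalIdeal C ^ 2) (hv : v - y ∈ maximalIdeal C ^ 2) :
    maximalIdeal C = Ideal.span {u, v} := by
  have hx : x ∈ maximalIdeal C := h ▸ Ideal.subset_span (by simp)
  have hy : y ∈ maximalIdeal C := h ▸ Ideal.subset_span (by simp)
  refine le_antisymm ?_ (Ideal.span_le.2 (Set.pair_subset ?_ ?_))
  · refine Submodule.le_of_le_smul_of_le_jacobson_bot (IsNoetherian.noetherian _) (maximalIdeal_le_jacobson _) ?_
    conv_lhs => rw [h]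
    rw [Ideal.span_le, Set.pair_subset_iff, smul_eq_mul, ← pow_two]
    constructor
    · rw [← sub_sub_cancel u x]
      exact sub_mem (Ideal.mem_sup_left (Ideal.subset_span (by simp))) (Ideal.mem_sup_right hu)
    · rw [← sub_sub_cancel v y]
      exact sub_mem (Ideal.mem_sup_left (Ideal.subset_span (by simp))) (Ideal.mem_sup_right hv)
  · rw [← sub_add_cancel u x]; exact add_mem (Ideal.pow_le_self two_ne_zero hu) hx
  · rw [← sub_add_cancel v y]; exact add_mem (Ideal.pow_le_self two_ne_zero hv) hy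

/-- Newton's method: the quadratic relation modulo the cube becomes an equation in a complete ring. -/
theorem exists_root {C : Type u} [CommRing C] [IsLocalRing C] [IsNoetherianRing C]
    [IsAdicComplete (maximalIdeal C) C] {x y a b c : C} (h : maximalIdeal C = Ideal.span {x, y})
    (hd : IsUnit (4 * a * c - b ^ 2)) (hq : qf a b c x y ∈ maximalIdeal C ^ 3) :
    ∃ u v : C, u - x ∈ maximalIdeal C ^ 2 ∧ v - y ∈ maximalIdeal C ^ 2 ∧ qf a b c u v = 0 := by
  let M := maximalIdeal C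
  let P : ℕ → C × C → Prop := fun n s => s.1 - x ∈ M ^ 2 ∧ s.2 - y ∈ M ^ 2 ∧ qf a b c s.1 s.2 ∈ M ^ (n + 3)
  obtain ⟨D, hD⟩ := hd.exists_left_inv
  have step : ∀ n s, P n s → ∃ t, P (n + 1) t ∧ t.1 - s.1 ∈ M ^ (n + 2) ∧ t.2 - s.2 ∈ M ^ (n + 2) := by
    rintro n ⟨u, v⟩ ⟨h1, h2, h3⟩
    have huv := span_pair_eq_max h h1 h2
    have h3' : qf a b c u v ∈ Ideal.span {u} * M ^ (n + 2) ⊔ Ideal.span {v} * M ^ (n + 2) := by
      rw [← Ideal.sup_mul, ← Ideal.span_insert, ← huv, ← pow_succ']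
      exact h3
    obtain ⟨_, hp, _, hr, hpr⟩ := Submodule.mem_sup.1 h3'
    obtain ⟨α, hα, rfl⟩ := Ideal.mem_span_singleton_mul.1 hp
    obtain ⟨β, hβ, rfl⟩ := Ideal.mem_span_singleton_mul.1 hr
    let ε := D * (α * (2 * c) - β * b)
    let η := D * (β * (2 * a) - α * b)
    have hε : ε ∈ M ^ (n + 2) := Ideal.mul_mem_left _ _ (sub_mem (Ideal.mul_mem_right _ _ hα) (Ideal.mul_mem_right _ _ hβ))
    have hη : η ∈ M ^ (n + 2) := Ideal.mul_mem_left _ _ (sub_mem (Ideal.mul_mem_right _ _ hβ) (Ideal.mul_mem_right _ _ hα))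
    have hnew : qf a b c (u - ε) (v - η) = qf a b c ε η := by
      have : qf a b c (u - ε) (v - η) = qf a b c u v - (ε * (2 * a * u + b * v) + η * (b * u + 2 * c * v)) +
          qf a b c ε η := by simp only [qf]; ring
      rw [this, ← hpr, show ε * (2 * a * u + b * v) + η * (b * u + 2 * c * v) =
        (D * (4 * a * c - b ^ 2)) * (u * α + v * β) by simp only [ε, η]; ring, hD, one_mul, sub_self, zero_add]
    refine ⟨(u - ε, v - η), ⟨?_, ?_, ?_⟩, ?_, ?_⟩
    · show u - ε - x ∈ _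
      rw [sub_right_comm]; exact sub_mem h1 (Ideal.pow_le_pow_right (by omega) hε)
    · show v - η - y ∈ _
      rw [sub_right_comm]; exact sub_mem h2 (Ideal.pow_le_pow_right (by omega) hη)
    · show qf a b c (u - ε) (v - η) ∈ _
      rw [hnew]
      refine Ideal.pow_le_pow_right (show n + 1 + 3 ≤ (n + 2) + (n + 2) by omega) ?_
      rw [pow_add]
      simp only [qf, mul_assoc, pow_two]
      exact add_mem (add_mem (Ideal.mul_mem_left _ _ (Ideal.mul_mem_mul hε hε))
        (Ideal.mul_mem_left _ _ (Ideal.mul_mem_mul hε hη))) (Ideal.mul_mem_left _ _ (Ideal.mul_mem_mul hη hη))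
    · show u - ε - u ∈ _
      simpa using neg_mem hε
    · show v - η - v ∈ _
      simpa using neg_mem hη
  choose next hnext using step
  let seq : ∀ n, { s : C × C // P n s } := fun n => Nat.rec
    ⟨(x, y), by simp, by simp, hq⟩ (fun m s => ⟨next m s.1 s.2, (hnext m s.1 s.2).1⟩) n
  obtain ⟨u, hu, -⟩ := NodeCplLib.exists_limit M le_rfl (fun n => (seq n).1.1)
    fun n => Ideal.pow_le_pow_right (by omega) (hnext n (seq n).1 (seq n).2).2.1
  obtain ⟨v, hv, -⟩ := NodeCplLib.exists_limit M le_rfl (fun n => (seq n).1.2)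
    fun n => Ideal.pow_le_pow_right (by omega) (hnext n (seq n).1 (seq n).2).2.2
  refine ⟨u, v, ?_, ?_, ?_⟩
  · rw [show u - x = (u - (seq 2).1.1) + ((seq 2).1.1 - x) by ring]; exact add_mem (hu 2) (seq 2).2.1
  · rw [show v - y = (v - (seq 2).1.2) + ((seq 2).1.2 - y) by ring]; exact add_mem (hv 2) (seq 2).2.2.1
  · refine IsHausdorff.haus (I := M) inferInstance _ fun n => ?_
    let p := (seq n).1
    rw [SModEq.zero, smul_eq_mul, Ideal.mul_top, show qf a b c u v =
      (u - p.1) * (a * (u + p.1) + b * v) + (v - p.2) * (b * p.1 + c * (v + p.2)) + qf a b c p.1 p.2 by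
        simp only [qf]; ring]
    exact add_mem (add_mem (Ideal.mul_mem_right _ _ (hu n)) (Ideal.mul_mem_right _ _ (hv n)))
      (Ideal.pow_le_pow_right (by omega) (seq n).2.2.2)

/-- A root of the form and a generic line: the square of the maximal ideal lies in the multiples of one linear form. -/
theorem exists_line {S : Type*} [CommRing S] {a b c x y : S} (hq : qf a b c x y = 0)
    (hc : IsUnit a ∨ IsUnit c ∨ (a = 0 ∧ c = 0 ∧ IsUnit b)) :
    ∃ s r : S, Ideal.span {x, y} ^ 2 ≤ Ideal.span {s * x + r * y} * Ideal.span {x, y} := by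
  have gen : ∀ l : S, x * x ∈ Ideal.span {l} * Ideal.span {x, y} → x * y ∈ Ideal.span {l} * Ideal.span {x, y} →
      y * y ∈ Ideal.span {l} * Ideal.span {x, y} → Ideal.span {x, y} ^ 2 ≤ Ideal.span {l} * Ideal.span {x, y} := by
    intro l h1 h2 h3
    rw [pow_two]
    conv_lhs => rw [Ideal.span_mul_span']
    rw [Ideal.span_le]
    rintro _ ⟨p, hp, q, hq, rfl⟩
    rcases hp with rfl | rfl <;> rcases hq with rfl | rfl
    exacts [h1, h2, by simpa [mul_comm] using h2, h3]
  have hx : x ∈ Ideal.span {x, y} := Ideal.subset_span (by simp)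
  have hy : y ∈ Ideal.span {x, y} := Ideal.subset_span (by simp)
  simp only [qf] at hq
  rcases hc with h | h | ⟨rfl, rfl, h⟩ <;> obtain ⟨i, hi⟩ := h.exists_left_inv
  · refine ⟨0, 1, gen _ ?_ ?_ ?_⟩ <;> rw [Ideal.mem_span_singleton_mul]
    · refine ⟨-i * b * x + -i * c * y, add_mem (Ideal.mul_mem_left _ _ hx) (Ideal.mul_mem_left _ _ hy), ?_⟩
      linear_combination (-i) * hq + (x * x) * hi
    · exact ⟨x, hx, by ring⟩
    · exact ⟨y, hy, by ring⟩
  · refine ⟨1, 0, gen _ ?_ ?_ ?_⟩ <;> rw [Ideal.mem_span_singleton_mul]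
    · exact ⟨x, hx, by ring⟩
    · exact ⟨y, hy, by ring⟩
    · refine ⟨-i * a * x + -i * b * y, add_mem (Ideal.mul_mem_left _ _ hx) (Ideal.mul_mem_left _ _ hy), ?_⟩
      linear_combination (-i) * hq + (y * y) * hi
  · have hxy : x * y = 0 := by linear_combination i * hq - x * y * hi
    refine ⟨1, 1, gen _ ?_ ?_ ?_⟩ <;> rw [Ideal.mem_span_singleton_mul]
    · exact ⟨x, hx, by linear_combination hxy⟩
    · exact ⟨0, zero_mem _, by linear_combination -hxy⟩
    · exact ⟨y, hy, by linear_combination hxy⟩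

/-- Quotients of the power series ring are complete. -/
theorem isAdicComplete_quot_ps {κ : Type u} [Field κ] (I : Ideal (MvPowerSeries (Fin 2) κ))
    [IsLocalRing (MvPowerSeries (Fin 2) κ ⧸ I)] :
    IsAdicComplete (maximalIdeal (MvPowerSeries (Fin 2) κ ⧸ I)) (MvPowerSeries (Fin 2) κ ⧸ I) := by
  haveI := CohenLib.isNoetherianRing_mvPowerSeries (n := 2) κ
  haveI : IsAdicComplete (maximalIdeal (MvPowerSeries (Fin 2) κ)) (MvPowerSeries (Fin 2) κ) := by
    rw [CohenLib.maximalIdeal_mvPowerSeries_field]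
    exact CohenLib.isAdicComplete_varsIdeal κ
  rw [← map_maximalIdeal_of_surjective (Ideal.Quotient.mk I) Ideal.Quotient.mk_surjective]
  exact (IsAdicComplete.map_algebraMap_iff _ _).2 CompleteLib.isAdicComplete_of_finite

/-- A linear form not vanishing on either branch is regular on the split node. -/
theorem regular_lin {K : Type u} [Field K] {α β : K} (hα : α ≠ 0) (hβ : β ≠ 0) :
    algebraMap K (R K) α * Ideal.Quotient.mk _ (MvPowerSeries.X 0) +
      algebraMap K (R K) β * Ideal.Quotient.mk _ (MvPowerSeries.X 1) ∈ nonZeroDivisors (R K) := by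
  rw [mem_nonZeroDivisors_iff_right]
  intro z hz
  obtain ⟨f, rfl⟩ := Ideal.Quotient.mk_surjective z
  rw [algebraMap_R, algebraMap_R, ← map_mul, ← map_mul, ← map_add, ← map_mul, Ideal.Quotient.eq_zero_iff_mem,
    Ideal.mem_span_singleton] at hz
  let L : MvPowerSeries (Fin 2) K := MvPowerSeries.C α * MvPowerSeries.X 0 + MvPowerSeries.C β * MvPowerSeries.X 1
  have hL : ∀ i : Fin 2, ¬ (MvPowerSeries.X i : MvPowerSeries (Fin 2) K) ∣ L := by
    intro i h
    have h' := (MvPowerSeries.X_dvd_iff).1 h (Finsupp.single i.rev 1)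
      (by fin_cases i <;> simp)
    fin_cases i <;> simp [L, MvPowerSeries.coeff_C_mul, MvPowerSeries.coeff_X, Finsupp.single_eq_single_iff] at h'
    exacts [hβ h', hα h']
  have h0 : (MvPowerSeries.X 0 : MvPowerSeries (Fin 2) K) ∣ f :=
    (X_dvd_mul K (dvd_trans (dvd_mul_right _ _) hz)).resolve_right (hL 0)
  obtain ⟨f₁, rfl⟩ := h0
  have h1 : (MvPowerSeries.X 1 : MvPowerSeries (Fin 2) K) ∣ f₁ := by
    refine ((X_dvd_mul K ((X_dvd_mul K (dvd_trans (dvd_mul_left _ _) hz)).resolve_right (hL 1))).resolve_left ?_)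
    intro h
    have h' := (MvPowerSeries.X_dvd_iff).1 h (Finsupp.single 0 1) (by simp)
    simp [MvPowerSeries.coeff_X] at h'
  obtain ⟨f₂, rfl⟩ := h1
  rw [Ideal.Quotient.eq_zero_iff_mem, Ideal.mem_span_singleton]
  exact ⟨f₂, by simp only [xy]; ring⟩

section Model

variable {κ : Type u} [Field κ] (a b c : κ)

/-- The plane node of a quadratic form. -/
abbrev Q : Type u := MvPowerSeries (Fin 2) κ ⧸ Ideal.span
  {(MvPowerSeries.C a * MvPowerSeries.X 0 ^ 2 + MvPowerSeries.C b * MvPowerSeries.X 0 * MvPowerSeries.X 1 +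
    MvPowerSeries.C c * MvPowerSeries.X 1 ^ 2 : MvPowerSeries (Fin 2) κ)}

/-- The coordinates. -/
def Qx (i : Fin 2) : Q a b c := Ideal.Quotient.mk _ (MvPowerSeries.X i)

/-- The constants. -/
def Qc : κ →+* Q a b c := (Ideal.Quotient.mk _).comp MvPowerSeries.C

theorem qf_Q : qf (Qc a b c a) (Qc a b c b) (Qc a b c c) (Qx a b c 0) (Qx a b c 1) = 0 := by
  show qf (Ideal.Quotient.mk _ (MvPowerSeries.C a)) (Ideal.Quotient.mk _ (MvPowerSeries.C b))
    (Ideal.Quotient.mk _ (MvPowerSeries.C c)) (Ideal.Quotient.mk _ _) (Ideal.Quotient.mk _ _) = 0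
  rw [← map_qf, Ideal.Quotient.eq_zero_iff_mem]
  exact Ideal.mem_span_singleton_self _

theorem isLocalRing_Q : IsLocalRing (Q a b c) := by
  haveI : Nontrivial (Q a b c) := Ideal.Quotient.nontrivial_iff.2 fun h => by
    obtain ⟨r, hr⟩ := Ideal.mem_span_singleton'.1 (h.symm ▸ Submodule.mem_top : (1 : MvPowerSeries (Fin 2) κ) ∈ _)
    simpa using congrArg MvPowerSeries.constantCoeff hr
  exact IsLocalRing.of_surjective' (Ideal.Quotient.mk _) Ideal.Quotient.mk_surjective

theorem maximalIdeal_Q : haveI := isLocalRing_Q a b c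
    maximalIdeal (Q a b c) = Ideal.span {Qx a b c 0, Qx a b c 1} := by
  haveI := isLocalRing_Q a b c
  rw [← map_maximalIdeal_of_surjective (Ideal.Quotient.mk _) Ideal.Quotient.mk_surjective, maximalIdeal_P,
    Ideal.map_span, Set.image_pair]
  rfl

theorem isNoetherianRing_Q : IsNoetherianRing (Q a b c) := by
  haveI := CohenLib.isNoetherianRing_mvPowerSeries (n := 2) κ
  exact Ideal.Quotient.isNoetherianRing _

theorem exists_coords_Q (f : Q a b c) (hf : haveI := isLocalRing_Q a b c; f ∈ maximalIdeal (Q a b c)) :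
    haveI := isLocalRing_Q a b c
    ∃ p r : κ, f - (Qc a b c p * Qx a b c 0 + Qc a b c r * Qx a b c 1) ∈ maximalIdeal (Q a b c) ^ 2 := by
  haveI := isLocalRing_Q a b c
  rw [maximalIdeal_Q] at hf
  obtain ⟨g, h, rfl⟩ := Ideal.mem_span_pair.1 hf
  have key : ∀ g : Q a b c, ∃ p : κ, g - Qc a b c p ∈ maximalIdeal (Q a b c) := fun g => by
    obtain ⟨G, rfl⟩ := Ideal.Quotient.mk_surjective g
    refine ⟨MvPowerSeries.constantCoeff G, ?_⟩
    show Ideal.Quotient.mk _ G - Ideal.Quotient.mk _ _ ∈ _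
    rw [← map_sub, ← map_maximalIdeal_of_surjective (Ideal.Quotient.mk _) Ideal.Quotient.mk_surjective]
    refine Ideal.mem_map_of_mem _ ((IsLocalRing.mem_maximalIdeal _).2 ?_)
    rw [mem_nonunits_iff, MvPowerSeries.isUnit_iff_constantCoeff]
    simp
  obtain ⟨p, hp⟩ := key g
  obtain ⟨r, hr⟩ := key h
  refine ⟨p, r, ?_⟩
  rw [show g * Qx a b c 0 + h * Qx a b c 1 - (Qc a b c p * Qx a b c 0 + Qc a b c r * Qx a b c 1) =
    (g - Qc a b c p) * Qx a b c 0 + (h - Qc a b c r) * Qx a b c 1 by ring, pow_two (maximalIdeal (Q a b c))]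
  exact add_mem (Ideal.mul_mem_mul hp (by rw [maximalIdeal_Q]; exact Ideal.subset_span (by simp)))
    (Ideal.mul_mem_mul hr (by rw [maximalIdeal_Q]; exact Ideal.subset_span (by simp)))

variable {a b c} (hd : 4 * a * c - b ^ 2 ≠ 0)
include hd

theorem line_case : IsUnit a ∨ IsUnit c ∨ (a = 0 ∧ c = 0 ∧ IsUnit b) := by
  simp only [isUnit_iff_ne_zero]
  by_cases ha : a = 0
  · by_cases hc : c = 0
    · exact Or.inr (Or.inr ⟨ha, hc, fun hb => hd (by simp [ha, hc, hb])⟩)
    · exact Or.inr (Or.inl hc)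
  · exact Or.inl ha

/-- The line whose multiples contain the square of the maximal ideal. -/
theorem exists_line_Q : haveI := isLocalRing_Q a b c
    ∃ l ∈ maximalIdeal (Q a b c), maximalIdeal (Q a b c) ^ 2 ≤ Ideal.span {l} * maximalIdeal (Q a b c) := by
  haveI := isLocalRing_Q a b c
  obtain ⟨s, r, h⟩ := exists_line (qf_Q a b c) (by
    rcases line_case hd with h | h | ⟨h1, h2, h3⟩
    exacts [Or.inl (h.map _), Or.inr (Or.inl (h.map _)), Or.inr (Or.inr ⟨by rw [h1, map_zero], by rw [h2, map_zero], h3.map _⟩)])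
  rw [← maximalIdeal_Q] at h
  refine ⟨_, ?_, h⟩
  exact add_mem (Ideal.mul_mem_left _ _ (by rw [maximalIdeal_Q]; exact Ideal.subset_span (by simp)))
    (Ideal.mul_mem_left _ _ (by rw [maximalIdeal_Q]; exact Ideal.subset_span (by simp)))

/-- A map out of the model that is injective to first order and sees a regular element is injective. -/
theorem injective_of_regular {C : Type*} [CommRing C] (ψ : Q a b c →+* C)
    (hker : haveI := isLocalRing_Q a b c; ∀ f, ψ f = 0 → f ∈ maximalIdeal (Q a b c) ^ 2)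
    (T : Q a b c) (hT : haveI := isLocalRing_Q a b c; T ∈ maximalIdeal (Q a b c))
    (hreg : ψ T ∈ nonZeroDivisors C) : Function.Injective ψ := by
  haveI := isLocalRing_Q a b c
  haveI := isNoetherianRing_Q a b c
  obtain ⟨l, hl, hlm⟩ := exists_line_Q hd
  have hT2 : T * T ∈ Ideal.span {l} * maximalIdeal (Q a b c) := hlm (pow_two (maximalIdeal (Q a b c)) ▸ Ideal.mul_mem_mul hT hT)
  obtain ⟨w, -, hw⟩ := Ideal.mem_span_singleton_mul.1 hT2
  have hlreg : ψ l ∈ nonZeroDivisors C := by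
    have h2 := mul_mem hreg hreg
    rw [← map_mul, ← hw, map_mul] at h2
    exact (mul_mem_nonZeroDivisors.1 h2).1
  rw [injective_iff_map_eq_zero]
  intro f hf
  have hle : RingHom.ker ψ ≤ maximalIdeal (Q a b c) • RingHom.ker ψ := fun g hg => by
    obtain ⟨z, -, rfl⟩ := Ideal.mem_span_singleton_mul.1 (hlm (hker g hg))
    rw [RingHom.mem_ker, map_mul] at hg
    exact Submodule.smul_mem_smul hl (RingHom.mem_ker.2 ((mul_right_mem_nonZeroDivisors_eq_zero_iff hlreg).1 (by rwa [mul_comm])))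
  exact (Submodule.eq_bot_of_le_smul_of_le_jacobson_bot _ _ (IsNoetherian.noetherian _) hle
    (maximalIdeal_le_jacobson _)).le (RingHom.mem_ker.2 hf)

omit hd in
theorem exists_factor {K : Type u} [Field K] [IsAlgClosed K] (a b c : K) (hd : 4 * a * c - b ^ 2 ≠ 0) :
    ∃ r₁ s₁ r₂ s₂ : K, r₁ * r₂ = a ∧ r₁ * s₂ + r₂ * s₁ = b ∧ s₁ * s₂ = c ∧ r₁ * s₂ - r₂ * s₁ ≠ 0 := by
  suffices ∃ r₁ s₁ r₂ s₂ : K, r₁ * r₂ = a ∧ r₁ * s₂ + r₂ * s₁ = b ∧ s₁ * s₂ = c by
    obtain ⟨r₁, s₁, r₂, s₂, h1, h2, h3⟩ := this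
    refine ⟨r₁, s₁, r₂, s₂, h1, h2, h3, fun h => hd ?_⟩
    subst h1 h2 h3
    linear_combination (-(r₁ * s₂ - r₂ * s₁)) * h
  by_cases ha : a = 0
  · exact ⟨0, 1, b, c, by simp [ha], by ring, by simp⟩
  · obtain ⟨z, hz⟩ := IsAlgClosed.exists_root (Polynomial.C a * Polynomial.X ^ 2 + Polynomial.C b * Polynomial.X +
      Polynomial.C c) (by rw [Polynomial.degree_quadratic ha]; decide)
    refine ⟨1, -z, a, b + a * z, by ring, by ring, ?_⟩
    simp [Polynomial.IsRoot] at hz
    linear_combination -hz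

/-- Over an algebraically closed extension of the constants the model maps onto the split node. -/
theorem exists_to_R {K : Type u} [Field K] [IsAlgClosed K] (φ : κ →+* K) :
    haveI := isLocalRing_R K; haveI := isLocalRing_Q a b c
    ∃ θ : Q a b c →+* R K, (∀ t, θ (Qc a b c t) = algebraMap K (R K) (φ t)) ∧
      maximalIdeal (R K) = Ideal.span {θ (Qx a b c 0), θ (Qx a b c 1)} ∧ Function.Injective θ ∧
      ∃ T ∈ maximalIdeal (Q a b c), θ T ∈ nonZeroDivisors (R K) := by
  haveI := isLocalRing_R K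
  haveI := isLocalRing_Q a b c
  haveI := CohenLib.isNoetherianRing_mvPowerSeries (n := 2) K
  haveI : IsNoetherianRing (R K) := Ideal.Quotient.isNoetherianRing _
  haveI : IsAdicComplete (maximalIdeal (R K)) (R K) := isAdicComplete_quot_ps _
  have hd' : 4 * φ a * φ c - φ b ^ 2 ≠ 0 := by
    rw [← map_ofNat φ 4, ← map_mul, ← map_mul, ← map_pow, ← map_sub]
    exact (map_ne_zero φ).2 hd
  obtain ⟨r₁, s₁, r₂, s₂, e1, e2, e3, hdet⟩ := exists_factor (φ a) (φ b) (φ c) hd'
  let Δ := r₁ * s₂ - r₂ * s₁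
  let al := algebraMap K (R K)
  let Xb := Ideal.Quotient.mk (Ideal.span {xy K}) (MvPowerSeries.X 0)
  let Yb := Ideal.Quotient.mk (Ideal.span {xy K}) (MvPowerSeries.X 1)
  let x' := al (s₂ / Δ) * Xb + al (-(s₁ / Δ)) * Yb
  let y' := al (-(r₂ / Δ)) * Xb + al (r₁ / Δ) * Yb
  have hsolve : al r₁ * x' + al s₁ * y' = Xb ∧ al r₂ * x' + al s₂ * y' = Yb := by
    have hu : ∀ p q : K, p = q → al p = al q := fun p q h => h ▸ rfl
    have hdiv : ∀ p : K, p = (r₁ * s₂ - r₂ * s₁) * Δ⁻¹ → p = 1 := fun p h => h.trans (mul_inv_cancel₀ hdet)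
    constructor
    · rw [show al r₁ * x' + al s₁ * y' = al (r₁ * (s₂ / Δ) + s₁ * -(r₂ / Δ)) * Xb +
          al (r₁ * -(s₁ / Δ) + s₁ * (r₁ / Δ)) * Yb by simp only [x', y', map_add, map_mul]; ring,
        hu (r₁ * (s₂ / Δ) + s₁ * -(r₂ / Δ)) 1 (hdiv _ (by ring)), hu (r₁ * -(s₁ / Δ) + s₁ * (r₁ / Δ)) 0 (by ring),
        map_one, map_zero, one_mul, zero_mul, add_zero]
    · rw [show al r₂ * x' + al s₂ * y' = al (r₂ * (s₂ / Δ) + s₂ * -(r₂ / Δ)) * Xb +
          al (r₂ * -(s₁ / Δ) + s₂ * (r₁ / Δ)) * Yb by simp only [x', y', map_add, map_mul]; ring,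
        hu (r₂ * (s₂ / Δ) + s₂ * -(r₂ / Δ)) 0 (by ring), hu (r₂ * -(s₁ / Δ) + s₂ * (r₁ / Δ)) 1 (hdiv _ (by ring)),
        map_one, map_zero, one_mul, zero_mul, zero_add]
  have hmem : ∀ i, ![x', y'] i ∈ maximalIdeal (R K) := by
    intro i
    fin_cases i <;> exact add_mem (Ideal.mul_mem_left _ _ (Xb_mem K)) (Ideal.mul_mem_left _ _ (Yb_mem K))
  let Φ := CohenLib.psHom (maximalIdeal (R K)) (al.comp φ) ![x', y'] hmem
  have hX : ∀ i, Φ (MvPowerSeries.X i) = ![x', y'] i := CohenLib.psHom_X _ _ _ _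
  have hC : ∀ t, Φ (MvPowerSeries.C t) = al (φ t) := CohenLib.psHom_C _ _ _ _
  let θ : Q a b c →+* R K := Ideal.Quotient.lift _ Φ fun f hf => by
    obtain ⟨g, rfl⟩ := Ideal.mem_span_singleton.1 hf
    simp only [map_mul, map_add, map_pow, hC, hX, Matrix.cons_val_zero, Matrix.cons_val_one]
    rw [show al (φ a) * x' ^ 2 + al (φ b) * x' * y' + al (φ c) * y' ^ 2 =
      (al r₁ * x' + al s₁ * y') * (al r₂ * x' + al s₂ * y') by
        rw [← e1, ← e2, ← e3]; simp only [map_add, map_mul]; ring, hsolve.1, hsolve.2]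
    show Xb * Yb * _ = 0
    rw [Xb_mul_Yb, zero_mul]
  have hθx : θ (Qx a b c 0) = x' := hX 0
  have hθy : θ (Qx a b c 1) = y' := hX 1
  have hgen : maximalIdeal (R K) = Ideal.span {θ (Qx a b c 0), θ (Qx a b c 1)} := by
    rw [hθx, hθy]
    refine le_antisymm ?_ (Ideal.span_le.2 (Set.pair_subset (hmem 0) (hmem 1)))
    rw [maximalIdeal_R, Ideal.span_le, Set.pair_subset_iff]
    constructor
    · show Xb ∈ Ideal.span {x', y'}
      exact Ideal.mem_span_pair.2 ⟨_, _, hsolve.1⟩
    · show Yb ∈ Ideal.span {x', y'}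
      exact Ideal.mem_span_pair.2 ⟨_, _, hsolve.2⟩
  refine ⟨θ, hC, hgen, ?_⟩
  have hmap : (maximalIdeal (Q a b c)).map θ ≤ maximalIdeal (R K) := by
    rw [maximalIdeal_Q, Ideal.map_span, Set.image_pair, hgen]
  have hco : ∀ p r : κ, θ (Qc a b c p * Qx a b c 0 + Qc a b c r * Qx a b c 1) =
      al (φ p * (s₂ / Δ) - φ r * (r₂ / Δ)) * Xb + al (φ r * (r₁ / Δ) - φ p * (s₁ / Δ)) * Yb := fun p r => by
    rw [map_add, map_mul, map_mul, hθx, hθy, show θ (Qc a b c p) = al (φ p) from hC p,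
      show θ (Qc a b c r) = al (φ r) from hC r]
    simp only [x', y', map_sub, map_mul, map_neg]
    ring
  have hlin : ∀ f, θ f = 0 → f ∈ maximalIdeal (Q a b c) ^ 2 := fun f hf => by
    have hfm : f ∈ maximalIdeal (Q a b c) := (IsLocalRing.mem_maximalIdeal _).2 fun hu =>
      not_isUnit_zero (M₀ := R K) (hf ▸ hu.map θ)
    obtain ⟨p, r, hpr⟩ := exists_coords_Q a b c f hfm
    have h1 : θ (f - (Qc a b c p * Qx a b c 0 + Qc a b c r * Qx a b c 1)) ∈ maximalIdeal (R K) ^ 2 := by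
      refine Ideal.pow_right_mono hmap 2 ?_
      rw [← Ideal.map_pow]
      exact Ideal.mem_map_of_mem _ hpr
    rw [map_sub, hf, zero_sub, neg_mem_iff, hco] at h1
    obtain ⟨h2, h3⟩ := coords_eq_zero K h1
    have hp : φ p = 0 := by
      have : φ p = r₁ * (φ p * (s₂ / Δ) - φ r * (r₂ / Δ)) + r₂ * (φ r * (r₁ / Δ) - φ p * (s₁ / Δ)) := by
        linear_combination (-(φ p)) * mul_inv_cancel₀ (show Δ ≠ 0 from hdet)
      rw [this, h2, h3, mul_zero, mul_zero, add_zero]
    have hr : φ r = 0 := by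
      have : φ r = s₁ * (φ p * (s₂ / Δ) - φ r * (r₂ / Δ)) + s₂ * (φ r * (r₁ / Δ) - φ p * (s₁ / Δ)) := by
        linear_combination (-(φ r)) * mul_inv_cancel₀ (show Δ ≠ 0 from hdet)
      rw [this, h2, h3, mul_zero, mul_zero, add_zero]
    rw [map_eq_zero] at hp hr
    rwa [hp, hr, map_zero, zero_mul, zero_mul, add_zero, sub_zero] at hpr
  obtain ⟨p, r, hα, hβ⟩ : ∃ p r : κ, φ p * (s₂ / Δ) - φ r * (r₂ / Δ) ≠ 0 ∧
      φ r * (r₁ / Δ) - φ p * (s₁ / Δ) ≠ 0 := by
    by_cases hc : c = 0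
    swap
    · have hs : s₁ * s₂ ≠ 0 := e3 ▸ (map_ne_zero φ).2 hc
      exact ⟨1, 0, by simp [mul_ne_zero_iff.1 hs, Δ, hdet], by simp [mul_ne_zero_iff.1 hs, Δ, hdet]⟩
    by_cases ha : a = 0
    swap
    · have hr : r₁ * r₂ ≠ 0 := e1 ▸ (map_ne_zero φ).2 ha
      exact ⟨0, 1, by simp [mul_ne_zero_iff.1 hr, Δ, hdet], by simp [mul_ne_zero_iff.1 hr, Δ, hdet]⟩
    rw [ha, map_zero, mul_eq_zero] at e1
    rw [hc, map_zero, mul_eq_zero] at e3
    refine ⟨1, 1, ?_, ?_⟩ <;> rw [map_one, one_mul, one_mul, ← sub_div, div_ne_zero_iff] <;> refine ⟨?_, hdet⟩ <;>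
      intro h0 <;> rw [sub_eq_zero] at h0 <;> apply hdet <;>
      rcases e1 with h | h <;> rcases e3 with h' | h' <;> simp_all
  have hTm : Qc a b c p * Qx a b c 0 + Qc a b c r * Qx a b c 1 ∈ maximalIdeal (Q a b c) :=
    add_mem (Ideal.mul_mem_left _ _ (by rw [maximalIdeal_Q]; exact Ideal.subset_span (by simp)))
      (Ideal.mul_mem_left _ _ (by rw [maximalIdeal_Q]; exact Ideal.subset_span (by simp)))
  have hreg : θ (Qc a b c p * Qx a b c 0 + Qc a b c r * Qx a b c 1) ∈ nonZeroDivisors (R K) := by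
    rw [hco]; exact regular_lin hα hβ
  exact ⟨injective_of_regular hd θ hlin _ hTm hreg, _, hTm, hreg⟩

/-- The special line is regular. -/
theorem regular_line {l : Q a b c} (hl : haveI := isLocalRing_Q a b c; l ∈ maximalIdeal (Q a b c))
    (hlm : haveI := isLocalRing_Q a b c
      maximalIdeal (Q a b c) ^ 2 ≤ Ideal.span {l} * maximalIdeal (Q a b c)) (z : Q a b c) (hz : z * l = 0) : z = 0 := by
  haveI := isLocalRing_Q a b c
  haveI := isLocalRing_R (AlgebraicClosure κ)
  obtain ⟨θ, -, -, hinj, T, hT, hreg⟩ := exists_to_R hd (algebraMap κ (AlgebraicClosure κ))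
  obtain ⟨w, -, hw⟩ := Ideal.mem_span_singleton_mul.1
    (hlm (pow_two (maximalIdeal (Q a b c)) ▸ Ideal.mul_mem_mul hT hT))
  have h2 := mul_mem hreg hreg
  rw [← map_mul, ← hw, map_mul] at h2
  apply hinj
  rw [map_zero]
  exact (mul_right_mem_nonZeroDivisors_eq_zero_iff (mul_mem_nonZeroDivisors.1 h2).1).1 (by rw [← map_mul, hz, map_zero])

end Model

/-- The plane node is reduced. -/
theorem isReduced_Q {κ : Type u} [Field κ] {a b c : κ} (hd : 4 * a * c - b ^ 2 ≠ 0) : IsReduced (Q a b c) := by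
  haveI := isLocalRing_R (AlgebraicClosure κ)
  haveI := isReduced_R (AlgebraicClosure κ)
  obtain ⟨θ, -, -, hinj, -⟩ := exists_to_R hd (algebraMap κ (AlgebraicClosure κ))
  exact isReduced_of_injective θ hinj

/-- The coordinates of the plane node are independent modulo the square of the maximal ideal. -/
theorem indep_Q {κ : Type u} [Field κ] {a b c : κ} (hd : 4 * a * c - b ^ 2 ≠ 0) (p r : Q a b c)
    (h : haveI := isLocalRing_Q a b c; p * Qx a b c 0 + r * Qx a b c 1 ∈ maximalIdeal (Q a b c) ^ 2) :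
    haveI := isLocalRing_Q a b c
    p ∈ maximalIdeal (Q a b c) ∧ r ∈ maximalIdeal (Q a b c) := by
  let K := AlgebraicClosure κ
  haveI := isLocalRing_R K
  haveI := isLocalRing_Q a b c
  obtain ⟨θ, -, hgen, -⟩ := exists_to_R hd (algebraMap κ K)
  let M := maximalIdeal (R K)
  let x' := θ (Qx a b c 0)
  let y' := θ (Qx a b c 1)
  have hmap : (maximalIdeal (Q a b c)).map θ ≤ M := by
    rw [maximalIdeal_Q, Ideal.map_span, Set.image_pair, ← hgen]
  have h1 : θ p * x' + θ r * y' ∈ M ^ 2 := by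
    rw [← map_mul, ← map_mul, ← map_add]
    refine Ideal.pow_right_mono hmap 2 ?_
    rw [← Ideal.map_pow]
    exact Ideal.mem_map_of_mem _ h
  have hx : x' ∈ M := hgen.ge (Ideal.subset_span (by simp [x']))
  have hy : y' ∈ M := hgen.ge (Ideal.subset_span (by simp [y']))
  have key : ∀ (s t : Q a b c) (z w : R K), θ s * z + θ t * w ∈ M ^ 2 → M = Ideal.span {z, w} →
      s ∈ maximalIdeal (Q a b c) := by
    intro s t z w hst hzw
    by_contra hs
    obtain ⟨i, hi⟩ := ((IsLocalRing.notMem_maximalIdeal.1 hs).map θ).exists_left_inv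
    refine not_principal_mod K w ((IsLocalRing.mem_maximalIdeal _).1 (hzw.ge (Ideal.subset_span (by simp)))) ?_
    show M ≤ _
    conv_lhs => rw [hzw]
    rw [Ideal.span_le, Set.pair_subset_iff]
    refine ⟨?_, Ideal.mem_sup_left (Ideal.mem_span_singleton_self _)⟩
    rw [show z = (-(i * θ t)) * w + i * (θ s * z + θ t * w) by linear_combination (-z) * hi]
    exact Submodule.add_mem_sup (Ideal.mul_mem_left _ _ (Ideal.mem_span_singleton_self _)) (Ideal.mul_mem_left _ _ hst)
  exact ⟨key p r x' y' h1 hgen, key r p y' x' (add_comm (θ p * x') _ ▸ h1) (hgen.trans (by rw [Ideal.span_pair_comm]))⟩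

section Completion

variable {A : Type u} [CommRing A] [IsLocalRing A] [IsNoetherianRing A]

/-- Generators of the maximal ideal stay independent in the completion. -/
theorem indep_completion {x y : A}
    (hind : ∀ p r : A, p * x + r * y ∈ maximalIdeal A ^ 2 → p ∈ maximalIdeal A ∧ r ∈ maximalIdeal A)
    (hx : x ∈ maximalIdeal A) (hy : y ∈ maximalIdeal A) (P R : AdicCompletion (maximalIdeal A) A)
    (h : P * algebraMap A _ x + R * algebraMap A _ y ∈ maximalIdeal (AdicCompletion (maximalIdeal A) A) ^ 2) :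
    P ∈ maximalIdeal (AdicCompletion (maximalIdeal A) A) ∧ R ∈ maximalIdeal (AdicCompletion (maximalIdeal A) A) := by
  obtain ⟨hCl, hCn, hCh, hCm, hCr⟩ :=
    CohenLib.completion_facts A (maximalIdeal A) (maximalIdeal.isMaximal A).ne_top
  haveI : Module.Flat A (AdicCompletion (maximalIdeal A) A) := AdicCompletion.flat_of_isNoetherian _
  haveI : Module.FaithfullyFlat A (AdicCompletion (maximalIdeal A) A) := Module.FaithfullyFlat.of_flat_of_isLocalHom
  obtain ⟨p, hp⟩ := hCr P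
  obtain ⟨r, hr⟩ := hCr R
  let ι := algebraMap A (AdicCompletion (maximalIdeal A) A)
  have h1 : ι (p * x + r * y) ∈ (maximalIdeal A ^ 2).map ι := by
    rw [Ideal.map_pow, hCm, show ι (p * x + r * y) = (P * ι x + R * ι y) - ((P - ι p) * ι x + (R - ι r) * ι y) by
      rw [map_add, map_mul, map_mul]; ring]
    refine sub_mem h ?_
    rw [pow_two (maximalIdeal _)]
    exact add_mem (Ideal.mul_mem_mul hp (hCm ▸ Ideal.mem_map_of_mem _ hx))
      (Ideal.mul_mem_mul hr (hCm ▸ Ideal.mem_map_of_mem _ hy))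
  rw [← Ideal.mem_comap, Ideal.comap_map_eq_self_of_faithfullyFlat] at h1
  obtain ⟨hpm, hrm⟩ := hind p r h1
  exact ⟨(Submodule.sub_mem_iff_left _ (hCm ▸ Ideal.mem_map_of_mem _ hpm)).1 hp,
    (Submodule.sub_mem_iff_left _ (hCm ▸ Ideal.mem_map_of_mem _ hrm)).1 hr⟩

/-- A quadratic node with formally smooth residue extension completes to a plane node. -/
theorem exists_cpl_equiv (k : Type u) [Field k] [Algebra k A] [Algebra.FormallySmooth k (ResidueField A)]
    (h : QNode A) : ∃ a b c : ResidueField A, 4 * a * c - b ^ 2 ≠ 0 ∧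
      ∃ e : AdicCompletion (maximalIdeal A) A ≃+* Q a b c,
        ∀ t : k, e (algebraMap A _ (algebraMap k A t)) =
          Ideal.Quotient.mk _ (MvPowerSeries.C (algebraMap A (ResidueField A) (algebraMap k A t))) := by
  obtain ⟨x, y, a, b, c, hm, hind, hd, hq, t, htm, ht⟩ := h
  obtain ⟨hCl, hCn, hCh, hCm, hCr⟩ :=
    CohenLib.completion_facts A (maximalIdeal A) (maximalIdeal.isMaximal A).ne_top
  let C := AdicCompletion (maximalIdeal A) A
  let ι := algebraMap A C
  haveI : Module.Flat A C := AdicCompletion.flat_of_isNoetherian _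
  haveI : IsAdicComplete (maximalIdeal C) C := by
    rw [← hCm]
    exact AdicCompletion.isAdicComplete_self _ (IsNoetherian.noetherian _)
  let j : ResidueField A →ₐ[k] C ⧸ maximalIdeal C :=
    { ResidueField.map (algebraMap A C) with
      commutes' := fun s => by
        show ResidueField.map (algebraMap A C) (algebraMap k (ResidueField A) s) = _
        rw [IsScalarTower.algebraMap_apply k A (ResidueField A), ResidueField.algebraMap_eq, ResidueField.map_residue,
          ← IsScalarTower.algebraMap_apply k A C]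
        rfl }
  obtain ⟨σ, hσ⟩ := Algebra.FormallySmooth.exists_mkₐ_comp_eq_of_isAdicComplete (R := k) (I := maximalIdeal C) j
  have hσr : ∀ z : A, σ (residue A z) - ι z ∈ maximalIdeal C := fun z => by
    rw [← Ideal.Quotient.eq_zero_iff_mem, map_sub, sub_eq_zero]
    exact (AlgHom.congr_fun hσ (residue A z)).trans (ResidueField.map_residue _ _)
  let a₀ := residue A a
  let b₀ := residue A b
  let c₀ := residue A c
  have hd0 : 4 * a₀ * c₀ - b₀ ^ 2 ≠ 0 := by
    have := (hd.map (residue A)).ne_zero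
    simpa only [map_sub, map_mul, map_pow, map_ofNat] using this
  have hmC : maximalIdeal C = Ideal.span {ι x, ι y} := by
    rw [← hCm, show (maximalIdeal A).map (algebraMap A C) = (Ideal.span {x, y}).map ι from congrArg (Ideal.map ι) hm,
      Ideal.map_span, Set.image_pair]
  have hxC : ι x ∈ maximalIdeal C := hmC ▸ Ideal.subset_span (by simp)
  have hyC : ι y ∈ maximalIdeal C := hmC ▸ Ideal.subset_span (by simp)
  have hq0 : qf (σ a₀) (σ b₀) (σ c₀) (ι x) (ι y) ∈ maximalIdeal C ^ 3 := by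
    rw [show qf (σ a₀) (σ b₀) (σ c₀) (ι x) (ι y) = ι (qf a b c x y) + ((σ a₀ - ι a) * (ι x * ι x) +
      (σ b₀ - ι b) * (ι x * ι y) + (σ c₀ - ι c) * (ι y * ι y)) by
        rw [map_qf]; simp only [qf]; ring]
    refine add_mem ?_ ?_
    · rw [← hCm, ← Ideal.map_pow]; exact Ideal.mem_map_of_mem _ hq
    · rw [pow_succ' (maximalIdeal C) 2, pow_two (maximalIdeal C)]
      exact add_mem (add_mem (Ideal.mul_mem_mul (hσr a) (Ideal.mul_mem_mul hxC hxC))
        (Ideal.mul_mem_mul (hσr b) (Ideal.mul_mem_mul hxC hyC))) (Ideal.mul_mem_mul (hσr c) (Ideal.mul_mem_mul hyC hyC))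
  have hdC : IsUnit (4 * σ a₀ * σ c₀ - σ b₀ ^ 2) := by
    rw [← map_ofNat σ 4, ← map_mul, ← map_mul, ← map_pow, ← map_sub]
    exact (Ne.isUnit hd0).map σ
  obtain ⟨u, v, hu, hv, huv⟩ := exists_root hmC hdC hq0
  have hmuv := span_pair_eq_max hmC hu hv
  have hmem : ∀ i, ![u, v] i ∈ maximalIdeal C := by
    intro i; fin_cases i <;> exact hmuv ▸ Ideal.subset_span (by simp)
  let Φ := CohenLib.psHom (maximalIdeal C) σ.toRingHom ![u, v] hmem
  have hX : ∀ i, Φ (MvPowerSeries.X i) = ![u, v] i := CohenLib.psHom_X _ _ _ _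
  have hC : ∀ s, Φ (MvPowerSeries.C s) = σ s := CohenLib.psHom_C _ _ _ _
  let ψ : Q a₀ b₀ c₀ →+* C := Ideal.Quotient.lift _ Φ fun f hf => by
    obtain ⟨g, rfl⟩ := Ideal.mem_span_singleton.1 hf
    simp only [map_mul, map_add, map_pow, hC, hX, Matrix.cons_val_zero, Matrix.cons_val_one]
    show qf (σ a₀) (σ b₀) (σ c₀) u v * _ = 0
    rw [huv, zero_mul]
  have hψx : ψ (Qx a₀ b₀ c₀ 0) = u := hX 0
  have hψy : ψ (Qx a₀ b₀ c₀ 1) = v := hX 1
  haveI := isLocalRing_Q a₀ b₀ c₀
  haveI := isNoetherianRing_Q a₀ b₀ c₀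
  haveI : IsAdicComplete (maximalIdeal (Q a₀ b₀ c₀)) (Q a₀ b₀ c₀) := isAdicComplete_quot_ps _
  have hmap : (maximalIdeal (Q a₀ b₀ c₀)).map ψ = maximalIdeal C := by
    rw [maximalIdeal_Q, Ideal.map_span, Set.image_pair, hψx, hψy, ← hmuv]
  have hsurj : Function.Surjective ψ := CohenLib.surjective_of_complete (maximalIdeal C) _ ψ hmap fun r => by
    obtain ⟨z, hz⟩ := hCr r
    refine ⟨Qc a₀ b₀ c₀ (residue A z), ?_⟩
    rw [show ψ (Qc a₀ b₀ c₀ (residue A z)) = σ (residue A z) from hC _,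
      show r - σ (residue A z) = (r - ι z) - (σ (residue A z) - ι z) by ring]
    exact sub_mem hz (hσr z)
  have hker : ∀ f, ψ f = 0 → f ∈ maximalIdeal (Q a₀ b₀ c₀) ^ 2 := fun f hf => by
    have hfm : f ∈ maximalIdeal (Q a₀ b₀ c₀) := (IsLocalRing.mem_maximalIdeal _).2 fun hu =>
      not_isUnit_zero (M₀ := C) (hf ▸ hu.map ψ)
    obtain ⟨p, r, hpr⟩ := exists_coords_Q _ _ _ f hfm
    have h1 := Ideal.mem_map_of_mem ψ hpr
    rw [Ideal.map_pow, hmap, map_sub, hf, zero_sub, neg_mem_iff, map_add, map_mul, map_mul, hψx, hψy,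
      show ψ (Qc a₀ b₀ c₀ p) = σ p from hC p, show ψ (Qc a₀ b₀ c₀ r) = σ r from hC r] at h1
    have h2 : σ p * ι x + σ r * ι y ∈ maximalIdeal C ^ 2 := by
      rw [show σ p * ι x + σ r * ι y = (σ p * u + σ r * v) - (σ p * (u - ι x) + σ r * (v - ι y)) by ring]
      exact sub_mem h1 (add_mem (Ideal.mul_mem_left _ _ hu) (Ideal.mul_mem_left _ _ hv))
    obtain ⟨h3, h4⟩ := indep_completion hind (hm ▸ Ideal.subset_span (by simp)) (hm ▸ Ideal.subset_span (by simp)) _ _ h2
    have hz : ∀ s : ResidueField A, σ s ∈ maximalIdeal C → s = 0 := fun s hs => by_contra fun hne =>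
      (IsLocalRing.mem_maximalIdeal _).1 hs ((Ne.isUnit hne).map σ)
    rw [hz _ h3, hz _ h4, map_zero, zero_mul, zero_mul, add_zero, sub_zero] at hpr
    exact hpr
  obtain ⟨T, hT⟩ := hsurj (ι t)
  have hTm : T ∈ maximalIdeal (Q a₀ b₀ c₀) := (IsLocalRing.mem_maximalIdeal _).2 fun hu =>
    (IsLocalRing.mem_maximalIdeal _).1 (show ι t ∈ maximalIdeal C from hCm ▸ Ideal.mem_map_of_mem _ htm)
      (hT ▸ hu.map ψ)
  have hreg : ψ T ∈ nonZeroDivisors C := by
    rw [hT, mem_nonZeroDivisors_iff_right]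
    intro z hz
    have hr : IsSMulRegular A t := fun p q h => mul_cancel_left_mem_nonZeroDivisors ht |>.1 h
    have hrC : IsSMulRegular C (ι t) := IsSMulRegular.of_flat hr
    refine hrC (show ι t * z = ι t * 0 by rw [mul_zero, mul_comm, hz])
  let e := (RingEquiv.ofBijective ψ ⟨injective_of_regular hd0 ψ hker T hTm hreg, hsurj⟩).symm
  refine ⟨a₀, b₀, c₀, hd0, e, fun s => ?_⟩
  rw [RingEquiv.symm_apply_eq]
  show _ = Φ (MvPowerSeries.C _)
  rw [hC, ← IsScalarTower.algebraMap_apply k A (ResidueField A), AlgHom.commutes,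
    ← IsScalarTower.algebraMap_apply k A C]

/-- A local ring completing to a plane node is a reduced quadratic node. -/
theorem qnode_of_cpl {κ : Type u} [Field κ] {a b c : κ} (hd : 4 * a * c - b ^ 2 ≠ 0)
    (e : AdicCompletion (maximalIdeal A) A ≃+* Q a b c) : QNode A ∧ IsReduced A := by
  obtain ⟨hCl, hCn, hCh, hCm, hCr⟩ :=
    CohenLib.completion_facts A (maximalIdeal A) (maximalIdeal.isMaximal A).ne_top
  let C := AdicCompletion (maximalIdeal A) A
  haveI : Module.Flat A C := AdicCompletion.flat_of_isNoetherian _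
  haveI : Module.FaithfullyFlat A C := Module.FaithfullyFlat.of_flat_of_isLocalHom
  haveI := isLocalRing_Q a b c
  haveI := isNoetherianRing_Q a b c
  let θ : A →+* Q a b c := e.toRingHom.comp (algebraMap A C)
  letI : Algebra A (Q a b c) := θ.toAlgebra
  let eA : C ≃ₐ[A] Q a b c := AlgEquiv.ofRingEquiv (f := e) fun _ => rfl
  haveI : Module.FaithfullyFlat A (Q a b c) := Module.FaithfullyFlat.of_linearEquiv _ _ eA.symm.toLinearEquiv
  have hinj : Function.Injective θ := FaithfulSMul.algebraMap_injective A (Q a b c)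
  haveI := isReduced_Q hd
  refine ⟨?_, isReduced_of_injective θ hinj⟩
  let M := maximalIdeal (Q a b c)
  have hm : (maximalIdeal A).map θ = M := by
    rw [← Ideal.map_map, hCm]
    exact map_maximalIdeal_of_surjective e.toRingHom e.surjective
  have hc : ∀ (n : ℕ) (z : A), θ z ∈ M ^ n → z ∈ maximalIdeal A ^ n := fun n z hz => by
    rw [← hm, ← Ideal.map_pow] at hz
    rwa [← Ideal.comap_map_eq_self_of_faithfullyFlat (B := Q a b c) (maximalIdeal A ^ n), Ideal.mem_comap]
  have hres : ∀ z : Q a b c, ∃ p : A, z - θ p ∈ M := fun z => by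
    obtain ⟨p, hp⟩ := hCr (e.symm z)
    refine ⟨p, ?_⟩
    have := Ideal.mem_map_of_mem e.toRingHom hp
    rw [map_maximalIdeal_of_surjective e.toRingHom e.surjective, map_sub] at this
    rwa [show e.toRingHom (e.symm z) = z from e.apply_symm_apply z] at this
  have happ : ∀ z ∈ M, ∃ p ∈ maximalIdeal A, θ p - z ∈ M ^ 2 := by
    intro z hz
    rw [← hm, Ideal.map] at hz
    refine Submodule.span_induction ?_ ⟨0, zero_mem _, by simp⟩ (fun _ _ _ _ => ?_) ?_ hz
    · rintro _ ⟨p, hp, rfl⟩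
      exact ⟨p, hp, by simp⟩
    · rintro ⟨p, hp, hp'⟩ ⟨q, hq, hq'⟩
      exact ⟨p + q, add_mem hp hq, by rw [map_add, add_sub_add_comm]; exact add_mem hp' hq'⟩
    · rintro s w - ⟨p, hp, hp'⟩
      obtain ⟨s₀, hs⟩ := hres s
      refine ⟨s₀ * p, Ideal.mul_mem_left _ _ hp, ?_⟩
      rw [map_mul, smul_eq_mul, show θ s₀ * θ p - s * w = -((s - θ s₀) * θ p) + s * (θ p - w) by ring, pow_two M]
      exact add_mem (neg_mem (Ideal.mul_mem_mul hs (hm ▸ Ideal.mem_map_of_mem _ hp)))
        (Ideal.mul_mem_left _ _ (pow_two M ▸ hp'))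
  have hX : ∀ i, Qx a b c i ∈ M := by
    intro i
    fin_cases i <;> exact (maximalIdeal_Q a b c).ge (Ideal.subset_span (by simp))
  obtain ⟨x, hxm, hx⟩ := happ _ (hX 0)
  obtain ⟨y, hym, hy⟩ := happ _ (hX 1)
  obtain ⟨a', ha⟩ := hres (Qc a b c a)
  obtain ⟨b', hb⟩ := hres (Qc a b c b)
  obtain ⟨c', hc'⟩ := hres (Qc a b c c)
  have hgen : maximalIdeal A = Ideal.span {x, y} := by
    refine le_antisymm (fun z hz => ?_) (Ideal.span_le.2 (Set.pair_subset hxm hym))
    rw [← Ideal.comap_map_eq_self_of_faithfullyFlat (B := Q a b c) (Ideal.span {x, y}), Ideal.mem_comap,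
      Ideal.map_span, Set.image_pair]
    show θ z ∈ Ideal.span {θ x, θ y}
    rw [← span_pair_eq_max (maximalIdeal_Q a b c) hx hy]
    exact hm.le (Ideal.mem_map_of_mem _ hz)
  refine ⟨x, y, a', b', c', hgen, fun p r h => ?_, ?_, ?_, ?_⟩
  · have h1 : θ p * Qx a b c 0 + θ r * Qx a b c 1 ∈ M ^ 2 := by
      rw [show θ p * Qx a b c 0 + θ r * Qx a b c 1 = θ (p * x + r * y) - (θ p * (θ x - Qx a b c 0) +
        θ r * (θ y - Qx a b c 1)) by rw [map_add, map_mul, map_mul]; ring]
      refine sub_mem ?_ (add_mem (Ideal.mul_mem_left _ _ hx) (Ideal.mul_mem_left _ _ hy))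
      exact Ideal.pow_right_mono hm.le 2 (by rw [← Ideal.map_pow]; exact Ideal.mem_map_of_mem _ h)
    obtain ⟨h2, h3⟩ := indep_Q hd _ _ h1
    exact ⟨(pow_one (maximalIdeal A)) ▸ hc 1 p ((pow_one M).symm ▸ h2),
      (pow_one (maximalIdeal A)) ▸ hc 1 r ((pow_one M).symm ▸ h3)⟩
  · haveI : IsLocalHom θ := ((IsLocalRing.local_hom_TFAE θ).out 0 2).2 hm.le
    refine isUnit_of_map_unit θ _ (IsLocalRing.notMem_maximalIdeal.1 fun h => ?_)
    refine (IsLocalRing.mem_maximalIdeal _).1 (?_ : Qc a b c (4 * a * c - b ^ 2) ∈ M) ((Ne.isUnit hd).map _)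
    rw [show Qc a b c (4 * a * c - b ^ 2) = θ (4 * a' * c' - b' ^ 2) + (4 * Qc a b c a * (Qc a b c c - θ c') +
      4 * θ c' * (Qc a b c a - θ a') - (Qc a b c b + θ b') * (Qc a b c b - θ b')) by
        simp only [map_sub, map_mul, map_pow, map_ofNat]; ring]
    exact add_mem h (sub_mem (add_mem (Ideal.mul_mem_left _ _ hc') (Ideal.mul_mem_left _ _ ha))
      (Ideal.mul_mem_left _ _ hb))
  · refine hc 3 _ ?_
    rw [map_qf]
    let X' := Qx a b c 0
    let Y' := Qx a b c 1
    rw [show qf (θ a') (θ b') (θ c') (θ x) (θ y) = qf (Qc a b c a) (Qc a b c b) (Qc a b c c) X' Y' +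
      ((θ a' - Qc a b c a) * (X' * X') + (θ b' - Qc a b c b) * (X' * Y') + (θ c' - Qc a b c c) * (Y' * Y')) +
      ((θ a' * (θ x + X') + θ b' * θ y) * (θ x - X') + (θ b' * X' + θ c' * (θ y + Y')) * (θ y - Y')) by
        simp only [qf]; ring, qf_Q, zero_add, pow_succ' M 2]
    refine add_mem ?_ ?_
    · rw [pow_two M]
      exact add_mem (add_mem (Ideal.mul_mem_mul (sub_mem_comm_iff.1 ha) (Ideal.mul_mem_mul (hX 0) (hX 0)))
        (Ideal.mul_mem_mul (sub_mem_comm_iff.1 hb) (Ideal.mul_mem_mul (hX 0) (hX 1))))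
        (Ideal.mul_mem_mul (sub_mem_comm_iff.1 hc') (Ideal.mul_mem_mul (hX 1) (hX 1)))
    · have hθx : θ x ∈ M := hm ▸ Ideal.mem_map_of_mem _ hxm
      have hθy : θ y ∈ M := hm ▸ Ideal.mem_map_of_mem _ hym
      exact add_mem (Ideal.mul_mem_mul (add_mem (Ideal.mul_mem_left _ _ (add_mem hθx (hX 0))) (Ideal.mul_mem_left _ _ hθy)) hx)
        (Ideal.mul_mem_mul (add_mem (Ideal.mul_mem_left _ _ (hX 0)) (Ideal.mul_mem_left _ _ (add_mem hθy (hX 1)))) hy)
  · obtain ⟨l, hl, hlm⟩ := exists_line_Q hd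
    obtain ⟨t, htm, ht⟩ := happ l hl
    refine ⟨t, htm, ?_⟩
    obtain ⟨w, hw, hwl⟩ := Ideal.mem_span_singleton_mul.1 (hlm ht)
    have hunit : IsUnit (1 + w) := IsLocalRing.notMem_maximalIdeal.1 fun h =>
      (IsLocalRing.mem_maximalIdeal _).1 ((Submodule.add_mem_iff_left _ hw).1 h) isUnit_one
    rw [mem_nonZeroDivisors_iff_right]
    intro z hz
    apply hinj
    rw [map_zero]
    have h1 : θ z * (l * (1 + w)) = 0 := by
      rw [show l * (1 + w) = θ t by linear_combination hwl, ← map_mul, hz, map_zero]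
    rw [← mul_assoc, hunit.mul_left_eq_zero] at h1
    exact (regular_line hd hl hlm) (θ z) h1

end Completion

section Criterion

variable {A : Type u} [CommRing A] [IsLocalRing A] [IsNoetherianRing A]

/-- A reduced local ring that is not a field has a regular element in its maximal ideal. -/
theorem exists_regular_of_isReduced [IsReduced A] (h : maximalIdeal A ≠ ⊥) :
    ∃ t ∈ maximalIdeal A, t ∈ nonZeroDivisors A := by
  by_contra hcon
  push Not at hcon
  have hsub : (maximalIdeal A : Set A) ⊆ ⋃ p ∈ minimalPrimes A, (p : Set A) := by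
    intro x hx
    rw [show minimalPrimes A = (⊥ : Ideal A).minimalPrimes from rfl, Ideal.iUnion_minimalPrimes]
    have := hcon x hx
    rw [mem_nonZeroDivisors_iff_right] at this
    push Not at this
    obtain ⟨y, hy, hy0⟩ := this
    refine ⟨y, fun h' => hy0 ?_, ?_⟩
    · rw [Ideal.radical_bot_of_isReduced] at h'
      exact h'
    · rw [Ideal.radical_bot_of_isReduced, Ideal.mem_bot, mul_comm]
      exact hy
  obtain ⟨p, hp, hle⟩ := (Ideal.subset_union_prime_finite (minimalPrimes.finite_of_isNoetherianRing A) ⊥ ⊥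
    fun p hp _ _ => hp.1.1).1 hsub
  refine h (le_bot_iff.1 ?_)
  rw [← Ideal.radical_bot_of_isReduced (R := A), ← Ideal.sInf_minimalPrimes]
  exact le_sInf fun q hq => hle.trans (hp.2 ⟨hq.1.1, bot_le⟩ ((le_maximalIdeal hq.1.1.ne_top).trans hle))

/-- Reformulation of the nodal condition through the dimension of the cotangent space. -/
theorem qnode_iff_finrank :
    (QNode A ∧ IsReduced A) ↔
    (IsReduced A ∧ Module.finrank (ResidueField A) (CotangentSpace A) = 2 ∧
      ∃ x y a b c : A, x ∈ maximalIdeal A ∧ y ∈ maximalIdeal A ∧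
        Ideal.span {x, y} ⊔ maximalIdeal A ^ 2 = maximalIdeal A ∧
        residue A (4 * a * c - b ^ 2) ≠ 0 ∧
        a * x ^ 2 + b * x * y + c * y ^ 2 ∈ maximalIdeal A ^ 3) := by
  have hspan : ∀ x y : A, ∀ hx : x ∈ maximalIdeal A, ∀ hy : y ∈ maximalIdeal A,
      maximalIdeal A = Ideal.span {x, y} →
      Submodule.span (ResidueField A) (Set.range ![(maximalIdeal A).toCotangent ⟨x, hx⟩, (maximalIdeal A).toCotangent ⟨y, hy⟩]) = ⊤ := by
    intro x y hx hy hm
    refine eq_top_iff.2 fun z _ => ?_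
    obtain ⟨⟨w, hw⟩, rfl⟩ := (maximalIdeal A).toCotangent_surjective z
    obtain ⟨p, r, hpr⟩ := Ideal.mem_span_pair.1 (hm.le hw)
    have : (⟨w, hw⟩ : maximalIdeal A) = p • ⟨x, hx⟩ + r • ⟨y, hy⟩ := Subtype.ext (by simp [hpr])
    rw [this, map_add, map_smul, map_smul, ← IsScalarTower.algebraMap_smul (ResidueField A) p,
      ← IsScalarTower.algebraMap_smul (ResidueField A) r]
    exact add_mem (Submodule.smul_mem _ _ (Submodule.subset_span ⟨0, rfl⟩))
      (Submodule.smul_mem _ _ (Submodule.subset_span ⟨1, rfl⟩))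
  have hzero : ∀ x y : A, ∀ hx : x ∈ maximalIdeal A, ∀ hy : y ∈ maximalIdeal A, ∀ p r : A,
      (residue A p • (maximalIdeal A).toCotangent ⟨x, hx⟩ + residue A r • (maximalIdeal A).toCotangent ⟨y, hy⟩ = 0 ↔
        p * x + r * y ∈ maximalIdeal A ^ 2) := by
    intro x y hx hy p r
    rw [← ResidueField.algebraMap_eq, IsScalarTower.algebraMap_smul, IsScalarTower.algebraMap_smul, ← map_smul,
      ← map_smul, ← map_add, Ideal.toCotangent_eq_zero]
    simp
  constructor
  · rintro ⟨⟨x, y, a, b, c, hm, hind, hd, hq, -⟩, hred⟩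
    have hx : x ∈ maximalIdeal A := hm ▸ Ideal.subset_span (by simp)
    have hy : y ∈ maximalIdeal A := hm ▸ Ideal.subset_span (by simp)
    refine ⟨hred, ?_, x, y, a, b, c, hx, hy, ?_, (hd.map (residue A)).ne_zero, hq⟩
    · have hli : LinearIndependent (ResidueField A)
          ![(maximalIdeal A).toCotangent ⟨x, hx⟩, (maximalIdeal A).toCotangent ⟨y, hy⟩] := by
        rw [LinearIndependent.pair_iff]
        intro s t hst
        obtain ⟨p, rfl⟩ := residue_surjective s
        obtain ⟨r, rfl⟩ := residue_surjective t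
        obtain ⟨h1, h2⟩ := hind p r ((hzero x y hx hy p r).1 hst)
        exact ⟨(residue_eq_zero_iff p).2 h1, (residue_eq_zero_iff r).2 h2⟩
      rw [Module.finrank_eq_card_basis (Module.Basis.mk hli (hspan x y hx hy hm).ge)]
      simp
    · rw [← hm]; exact sup_eq_left.2 (Ideal.pow_le_self two_ne_zero)
  · rintro ⟨hred, hdim, x, y, a, b, c, hx, hy, hm2, hd, hq⟩
    have hm : maximalIdeal A = Ideal.span {x, y} := by
      refine le_antisymm (Submodule.le_of_le_smul_of_le_jacobson_bot (IsNoetherian.noetherian _)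
        (maximalIdeal_le_jacobson _) ?_) (Ideal.span_le.2 (Set.pair_subset hx hy))
      rw [smul_eq_mul, ← pow_two]
      exact hm2.ge
    have hli := linearIndependent_of_top_le_span_of_card_eq_finrank (hspan x y hx hy hm).ge (by simp [hdim])
    refine ⟨⟨x, y, a, b, c, hm, fun p r h => ?_, IsLocalRing.notMem_maximalIdeal.1 fun h => hd ((residue_eq_zero_iff _).2 h),
      hq, exists_regular_of_isReduced fun h => ?_⟩, hred⟩
    · obtain ⟨h1, h2⟩ := LinearIndependent.pair_iff.1 hli _ _ ((hzero x y hx hy p r).2 h)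
      exact ⟨(residue_eq_zero_iff p).1 h1, (residue_eq_zero_iff r).1 h2⟩
    · haveI : Subsingleton (CotangentSpace A) :=
        (Ideal.cotangent_subsingleton_iff _).2 (h ▸ (mul_zero (0 : Ideal A) : (⊥ : Ideal A) * ⊥ = ⊥))
      rw [Module.finrank_zero_of_subsingleton] at hdim
      exact absurd hdim (by decide)

end Criterion

end NodalLib

end
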