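import Groth.Agent.NodalLib.NodeFacts
import Groth.Agent.NodalLib.GeoNode
import Groth.Agent.NodalLib.QuadCpl
import Mathlib.RingTheory.Unramified.Field

/-!
# Geometric nodes and quadratic nodes

A local algebra essentially of finite type over a field is a geometric node iff its residue field is separable and it is
a quadratic node.
-/

set_option autoImplicit false
set_option linter.style.haveILetI false
set_option linter.unusedSectionVars false
set_option maxHeartbeats 1000000
set_option synthInstance.maxHeartbeats 100000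

universe u

open IsLocalRing TensorProduct

noncomputable section

namespace NodalLib

section Model

variable (L : Type u) [Field L]

local notation "Xb" => Ideal.Quotient.mk (Ideal.span {xy L}) (MvPowerSeries.X 0)
local notation "Yb" => Ideal.Quotient.mk (Ideal.span {xy L}) (MvPowerSeries.X 1)

/-- The squares of the branch parameters are independent modulo the cube. -/
theorem sq_coords_eq_zero {s t : L} (h : haveI := isLocalRing_R L
    algebraMap L (R L) s * Xb ^ 2 + algebraMap L (R L) t * Yb ^ 2 ∈ maximalIdeal (R L) ^ 3) : s = 0 ∧ t = 0 := by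
  haveI := isLocalRing_R L
  have hX : ¬ Xb ∈ maximalIdeal (R L) ^ 2 := fun h => one_ne_zero (coords_eq_zero L (α := 1) (β := 0) (by simpa using h)).1
  have hY : ¬ Yb ∈ maximalIdeal (R L) ^ 2 := fun h => one_ne_zero (coords_eq_zero L (α := 0) (β := 1) (by simpa using h)).2
  have h0 := Xb_mul_Yb L
  refine ⟨by_contra fun hs => hX ?_, by_contra fun ht => hY ?_⟩
  · refine mem_sq_of_pow_mem L (n := 3) (by norm_num) (Xb_mem L) ?_
    have h1 := Ideal.mul_mem_mul h (Xb_mem L)
    rw [← pow_succ, add_mul, show algebraMap L (R L) t * Yb ^ 2 * Xb = algebraMap L (R L) t * Yb * (Xb * Yb) by ring,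
      h0, mul_zero, add_zero, mul_assoc, ← pow_succ] at h1
    exact (Ideal.unit_mul_mem_iff_mem _ ((Ne.isUnit hs).map (algebraMap L (R L)))).1 h1
  · refine mem_sq_of_pow_mem L (n := 3) (by norm_num) (Yb_mem L) ?_
    have h1 := Ideal.mul_mem_mul h (Yb_mem L)
    rw [← pow_succ, add_mul, show algebraMap L (R L) s * Xb ^ 2 * Yb = algebraMap L (R L) s * Xb * (Xb * Yb) by ring,
      h0, mul_zero, zero_add, mul_assoc, ← pow_succ] at h1
    exact (Ideal.unit_mul_mem_iff_mem _ ((Ne.isUnit ht).map (algebraMap L (R L)))).1 h1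

/-- Every element of the model is a constant modulo the maximal ideal. -/
theorem exists_const (z : R L) : haveI := isLocalRing_R L
    ∃ c : L, z - algebraMap L (R L) c ∈ maximalIdeal (R L) := by
  obtain ⟨Z, rfl⟩ := Ideal.Quotient.mk_surjective z
  exact ⟨MvPowerSeries.constantCoeff Z, by rw [algebraMap_R, ← map_sub, mk_mem_max_iff]; simp⟩

theorem const_eq_zero {c : L} (h : haveI := isLocalRing_R L; algebraMap L (R L) c ∈ maximalIdeal (R L)) : c = 0 := by
  rw [algebraMap_R, mk_mem_max_iff] at h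
  simpa using h

end Model

/-- A local ring with an unramified faithfully flat map to the split node is a quadratic node. -/
theorem qnode_of_flat {A : Type u} [CommRing A] [IsLocalRing A] [IsNoetherianRing A] {L : Type u} [Field L]
    [Algebra A (R L)] [Module.FaithfullyFlat A (R L)]
    (hm : haveI := isLocalRing_R L; (maximalIdeal A).map (algebraMap A (R L)) = maximalIdeal (R L)) :
    QNode A ∧ IsReduced A := by
  haveI := isLocalRing_R L
  haveI := isReduced_R L
  let ι := algebraMap A (R L)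
  let M := maximalIdeal (R L)
  have hι : ∀ z ∈ maximalIdeal A, ι z ∈ M := fun z hz => hm.le (Ideal.mem_map_of_mem _ hz)
  have hMpow : ∀ n, (maximalIdeal A ^ n).map ι = M ^ n := fun n => by rw [Ideal.map_pow, hm]
  have hc : ∀ (I : Ideal A) (z : A), ι z ∈ I.map ι → z ∈ I := fun I z hz => by
    rwa [← Ideal.comap_map_eq_self_of_faithfullyFlat (B := R L) I, Ideal.mem_comap]
  obtain ⟨x, hx, hx2⟩ : ∃ x ∈ maximalIdeal A, ι x ∉ M ^ 2 := by
    by_contra hcon
    push Not at hcon
    exact not_principal_mod L 0 not_isUnit_zero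
      ((hm.ge.trans (Ideal.map_le_iff_le_comap.2 (show maximalIdeal A ≤ (M ^ 2).comap ι from hcon))).trans le_sup_right)
  obtain ⟨y, hy, hy2⟩ : ∃ y ∈ maximalIdeal A, ι y ∉ Ideal.span {ι x} ⊔ M ^ 2 := by
    by_contra hcon
    push Not at hcon
    exact not_principal_mod L (ι x) ((IsLocalRing.mem_maximalIdeal _).1 (hι x hx))
      (hm.ge.trans (Ideal.map_le_iff_le_comap.2 (show maximalIdeal A ≤ (Ideal.span {ι x} ⊔ M ^ 2).comap ι from hcon)))
  obtain ⟨α, β, hxc⟩ := exists_coords L (ι x) (hι x hx)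
  obtain ⟨γ, δ, hyc⟩ := exists_coords L (ι y) (hι y hy)
  let al := algebraMap L (R L)
  let Xb := Ideal.Quotient.mk (Ideal.span {xy L}) (MvPowerSeries.X 0)
  let Yb := Ideal.Quotient.mk (Ideal.span {xy L}) (MvPowerSeries.X 1)
  have hdet : α * δ - β * γ ≠ 0 := by
    intro h0
    obtain ⟨s, hs1, hs2⟩ : ∃ s : L, γ = s * α ∧ δ = s * β := by
      by_cases hα : α = 0
      · have hβ : β ≠ 0 := fun hβ => hx2 (by simpa [hα, hβ, M] using hxc)
        refine ⟨δ / β, ?_, (div_mul_cancel₀ _ hβ).symm⟩
        rw [hα] at h0 ⊢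
        simpa [hβ] using h0
      · refine ⟨γ / α, (div_mul_cancel₀ _ hα).symm, ?_⟩
        field_simp
        linear_combination h0
    refine hy2 ?_
    rw [show ι y = al s * ι x + ((ι y - (al γ * Xb + al δ * Yb)) - al s * (ι x - (al α * Xb + al β * Yb))) by
      simp only [hs1, hs2, al, map_mul]; ring]
    exact Submodule.add_mem_sup (Ideal.mul_mem_left _ _ (Ideal.mem_span_singleton_self _))
      (sub_mem hyc (Ideal.mul_mem_left _ _ hxc))
  have hind : ∀ p r : A, p * x + r * y ∈ maximalIdeal A ^ 2 → p ∈ maximalIdeal A ∧ r ∈ maximalIdeal A := by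
    intro p r h
    obtain ⟨p₀, hp⟩ := exists_const L (ι p)
    obtain ⟨r₀, hr⟩ := exists_const L (ι r)
    have h1 : al (p₀ * α + r₀ * γ) * Xb + al (p₀ * β + r₀ * δ) * Yb ∈ M ^ 2 := by
      rw [show al (p₀ * α + r₀ * γ) * Xb + al (p₀ * β + r₀ * δ) * Yb = ι (p * x + r * y) -
        (((ι p - al p₀) * ι x + (ι r - al r₀) * ι y) + (al p₀ * (ι x - (al α * Xb + al β * Yb)) +
          al r₀ * (ι y - (al γ * Xb + al δ * Yb)))) by simp only [map_add, map_mul]; ring]
      refine sub_mem ((hMpow 2).le (Ideal.mem_map_of_mem _ h)) (add_mem ?_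
        (add_mem (Ideal.mul_mem_left _ _ hxc) (Ideal.mul_mem_left _ _ hyc)))
      rw [pow_two M]
      exact add_mem (Ideal.mul_mem_mul hp (hι x hx)) (Ideal.mul_mem_mul hr (hι y hy))
    obtain ⟨h2, h3⟩ := coords_eq_zero L h1
    have hp0 : p₀ = 0 := (mul_eq_zero.1 (show p₀ * (α * δ - β * γ) = 0 by
      linear_combination δ * h2 - γ * h3)).resolve_right hdet
    have hr0 : r₀ = 0 := (mul_eq_zero.1 (show r₀ * (α * δ - β * γ) = 0 by
      linear_combination α * h3 - β * h2)).resolve_right hdet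
    rw [hp0, map_zero, sub_zero] at hp
    rw [hr0, map_zero, sub_zero] at hr
    exact ⟨hc _ _ (by rwa [hm]), hc _ _ (by rwa [hm])⟩
  have hgen : maximalIdeal A = Ideal.span {x, y} := by
    refine le_antisymm (Submodule.le_of_le_smul_of_le_jacobson_bot (IsNoetherian.noetherian _)
      (maximalIdeal_le_jacobson _) fun z hz => ?_) (Ideal.span_le.2 (Set.pair_subset hx hy))
    rw [smul_eq_mul, ← pow_two]
    apply hc
    rw [Ideal.map_sup, Ideal.map_span, Set.image_pair, hMpow]
    obtain ⟨p, q, hzc⟩ := exists_coords L (ι z) (hι z hz)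
    obtain ⟨s, t, e1, e2⟩ : ∃ s t : L, s * α + t * γ = p ∧ s * β + t * δ = q := by
      refine ⟨(p * δ - q * γ) / (α * δ - β * γ), (q * α - p * β) / (α * δ - β * γ), ?_, ?_⟩ <;>
        rw [div_mul_eq_mul_div, div_mul_eq_mul_div, ← add_div, div_eq_iff hdet] <;> ring
    subst e1 e2
    rw [show ι z = (al s * ι x + al t * ι y) + ((ι z - (al (s * α + t * γ) * Xb + al (s * β + t * δ) * Yb)) -
        al s * (ι x - (al α * Xb + al β * Yb)) - al t * (ι y - (al γ * Xb + al δ * Yb))) by
      simp only [al, map_add, map_mul]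
      ring]
    exact Submodule.add_mem_sup (add_mem (Ideal.mul_mem_left _ _ (Ideal.subset_span (by simp [ι])))
      (Ideal.mul_mem_left _ _ (Ideal.subset_span (by simp [ι]))))
      (sub_mem (sub_mem hzc (Ideal.mul_mem_left _ _ hxc)) (Ideal.mul_mem_left _ _ hyc))
  have hquad : ∀ u v u₁ u₂ v₁ v₂, u ∈ M → v ∈ M → u - (al u₁ * Xb + al u₂ * Yb) ∈ M ^ 2 →
      v - (al v₁ * Xb + al v₂ * Yb) ∈ M ^ 2 →
      u * v - (al (u₁ * v₁) * Xb ^ 2 + al (u₂ * v₂) * Yb ^ 2) ∈ M ^ 3 := by
    intro u v u₁ u₂ v₁ v₂ hu hv h1 h2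
    rw [show u * v - (al (u₁ * v₁) * Xb ^ 2 + al (u₂ * v₂) * Yb ^ 2) = (u - (al u₁ * Xb + al u₂ * Yb)) * v +
      (al u₁ * Xb + al u₂ * Yb) * (v - (al v₁ * Xb + al v₂ * Yb)) +
      (al u₁ * al v₂ + al u₂ * al v₁) * (Xb * Yb) by simp only [al, map_mul]; ring]
    refine add_mem (add_mem (pow_succ M 2 ▸ Ideal.mul_mem_mul h1 hv) ?_) ?_
    · rw [pow_succ']
      exact Ideal.mul_mem_mul (add_mem (Ideal.mul_mem_left _ _ (Xb_mem L)) (Ideal.mul_mem_left _ _ (Yb_mem L))) h2
    · rw [Xb_mul_Yb, mul_zero]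
      exact zero_mem _
  have hxx := hquad _ _ _ _ _ _ (hι x hx) (hι x hx) hxc hxc
  have hxy := hquad _ _ _ _ _ _ (hι x hx) (hι y hy) hxc hyc
  have hyy := hquad _ _ _ _ _ _ (hι y hy) (hι y hy) hyc hyc
  have express : ∀ (u v w : A) (u₁ u₂ v₁ v₂ w₁ w₂ : L), ι u - (al u₁ * Xb ^ 2 + al u₂ * Yb ^ 2) ∈ M ^ 3 →
      ι v - (al v₁ * Xb ^ 2 + al v₂ * Yb ^ 2) ∈ M ^ 3 → ι w - (al w₁ * Xb ^ 2 + al w₂ * Yb ^ 2) ∈ M ^ 3 →
      u₁ * v₂ - u₂ * v₁ ≠ 0 → ∃ f g : A, w - (f * u + g * v) ∈ maximalIdeal A ^ 3 := by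
    intro u v w u₁ u₂ v₁ v₂ w₁ w₂ hu hv hw hne
    obtain ⟨s, t, e1, e2⟩ : ∃ s t : L, s * u₁ + t * v₁ = w₁ ∧ s * u₂ + t * v₂ = w₂ := by
      refine ⟨(w₁ * v₂ - w₂ * v₁) / (u₁ * v₂ - u₂ * v₁), (w₂ * u₁ - w₁ * u₂) / (u₁ * v₂ - u₂ * v₁), ?_, ?_⟩ <;>
        rw [div_mul_eq_mul_div, div_mul_eq_mul_div, ← add_div, div_eq_iff hne] <;> ring
    subst e1 e2
    have h : w ∈ Ideal.span {u, v} ⊔ maximalIdeal A ^ 3 := hc _ _ (by
      rw [Ideal.map_sup, Ideal.map_span, Set.image_pair, hMpow,
        show ι w = (al s * ι u + al t * ι v) + ((ι w - (al (s * u₁ + t * v₁) * Xb ^ 2 + al (s * u₂ + t * v₂) * Yb ^ 2)) -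
          al s * (ι u - (al u₁ * Xb ^ 2 + al u₂ * Yb ^ 2)) - al t * (ι v - (al v₁ * Xb ^ 2 + al v₂ * Yb ^ 2))) by
          simp only [map_add, map_mul]; ring]
      exact Submodule.add_mem_sup (add_mem (Ideal.mul_mem_left _ _ (Ideal.subset_span (by simp [ι])))
        (Ideal.mul_mem_left _ _ (Ideal.subset_span (by simp [ι]))))
        (sub_mem (sub_mem hw (Ideal.mul_mem_left _ _ hu)) (Ideal.mul_mem_left _ _ hv)))
    obtain ⟨z, hz, z', hz', hzz⟩ := Submodule.mem_sup.1 h
    obtain ⟨f, g, rfl⟩ := Ideal.mem_span_pair.1 hz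
    exact ⟨f, g, by rw [← hzz, add_sub_cancel_left]; exact hz'⟩
  rw [← map_mul] at hxx hxy hyy
  obtain ⟨a, b, c, hq, hone⟩ : ∃ a b c : A, qf a b c x y ∈ maximalIdeal A ^ 3 ∧ (a = 1 ∨ b = 1 ∨ c = 1) := by
    by_cases h12 : (α * α) * (β * δ) - (β * β) * (α * γ) = 0
    swap
    · obtain ⟨f, g, h⟩ := express _ _ _ _ _ _ _ _ _ hxx hxy hyy h12
      exact ⟨-f, -g, 1, by rwa [show qf (-f) (-g) 1 x y = y * y - (f * (x * x) + g * (x * y)) by simp [qf]; ring],
        Or.inr (Or.inr rfl)⟩
    by_cases h23 : (α * γ) * (δ * δ) - (β * δ) * (γ * γ) = 0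
    swap
    · obtain ⟨f, g, h⟩ := express _ _ _ _ _ _ _ _ _ hxy hyy hxx h23
      exact ⟨1, -f, -g, by rwa [show qf 1 (-f) (-g) x y = x * x - (f * (x * y) + g * (y * y)) by simp [qf]; ring],
        Or.inl rfl⟩
    have h13 : (α * α) * (δ * δ) - (β * β) * (γ * γ) ≠ 0 := by
      intro h13
      have e1 : α * β = 0 := (mul_eq_zero.1 (show α * β * (α * δ - β * γ) = 0 by linear_combination h12)).resolve_right hdet
      have e2 : γ * δ = 0 := (mul_eq_zero.1 (show γ * δ * (α * δ - β * γ) = 0 by linear_combination h23)).resolve_right hdet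
      have e3 : α * δ + β * γ = 0 :=
        (mul_eq_zero.1 (show (α * δ + β * γ) * (α * δ - β * γ) = 0 by linear_combination h13)).resolve_right hdet
      refine hdet (pow_eq_zero_iff two_ne_zero |>.1 (?_ : (α * δ - β * γ) ^ 2 = 0))
      linear_combination (α * δ + β * γ) * e3 - 4 * γ * δ * e1
    obtain ⟨f, g, h⟩ := express _ _ _ _ _ _ _ _ _ hxx hyy hxy h13
    exact ⟨-f, 1, -g, by rwa [show qf (-f) 1 (-g) x y = x * y - (f * (x * x) + g * (y * y)) by simp [qf]; ring],
      Or.inr (Or.inl rfl)⟩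
  obtain ⟨a₀, ha⟩ := exists_const L (ι a)
  obtain ⟨b₀, hb⟩ := exists_const L (ι b)
  obtain ⟨c₀, hc₀⟩ := exists_const L (ι c)
  have hx2' : ∀ u v : A, u ∈ maximalIdeal A → v ∈ maximalIdeal A → ∀ f : A, ∀ f₀ : L, ι f - al f₀ ∈ M →
      (ι f - al f₀) * ι (u * v) ∈ M ^ 3 := fun u v hu hv f f₀ hf => by
    rw [pow_succ' M 2, map_mul, pow_two M]
    exact Ideal.mul_mem_mul hf (Ideal.mul_mem_mul (hι u hu) (hι v hv))
  obtain ⟨Q1, Q2⟩ := sq_coords_eq_zero L (s := a₀ * (α * α) + b₀ * (α * γ) + c₀ * (γ * γ))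
    (t := a₀ * (β * β) + b₀ * (β * δ) + c₀ * (δ * δ)) (by
    rw [show algebraMap L (R L) (a₀ * (α * α) + b₀ * (α * γ) + c₀ * (γ * γ)) * Xb ^ 2 +
        algebraMap L (R L) (a₀ * (β * β) + b₀ * (β * δ) + c₀ * (δ * δ)) * Yb ^ 2 =
      ι (qf a b c x y) - (((ι a - al a₀) * ι (x * x) + (ι b - al b₀) * ι (x * y) + (ι c - al c₀) * ι (y * y)) +
        (al a₀ * (ι (x * x) - (al (α * α) * Xb ^ 2 + al (β * β) * Yb ^ 2)) +
          al b₀ * (ι (x * y) - (al (α * γ) * Xb ^ 2 + al (β * δ) * Yb ^ 2)) +
          al c₀ * (ι (y * y) - (al (γ * γ) * Xb ^ 2 + al (δ * δ) * Yb ^ 2)))) by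
        rw [show qf a b c x y = a * (x * x) + b * (x * y) + c * (y * y) by simp [qf]; ring]
        simp only [al, map_add, map_mul]; ring]
    exact sub_mem ((hMpow 3).le (Ideal.mem_map_of_mem _ hq)) (add_mem
      (add_mem (add_mem (hx2' x x hx hx a a₀ ha) (hx2' x y hx hy b b₀ hb)) (hx2' y y hy hy c c₀ hc₀))
      (add_mem (add_mem (Ideal.mul_mem_left _ _ hxx) (Ideal.mul_mem_left _ _ hxy)) (Ideal.mul_mem_left _ _ hyy))))
  have hdisc : 4 * a₀ * c₀ - b₀ ^ 2 ≠ 0 := by
    intro h0
    let Bp := 2 * a₀ * α * β + b₀ * (α * δ + β * γ) + 2 * c₀ * γ * δ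
    have hB : Bp = 0 := (pow_eq_zero_iff two_ne_zero).1 (by
      simp only [Bp]
      linear_combination (-(α * δ - β * γ) ^ 2) * h0 + (4 * (a₀ * (β * β) + b₀ * (β * δ) + c₀ * (δ * δ))) * Q1)
    have hd2 : (α * δ - β * γ) ^ 2 ≠ 0 := pow_ne_zero _ hdet
    have e1 : a₀ = 0 := (mul_eq_zero.1 (show a₀ * (α * δ - β * γ) ^ 2 = 0 by
      simp only [Bp] at hB
      linear_combination (δ ^ 2) * Q1 - (γ * δ) * hB + (γ ^ 2) * Q2)).resolve_right hd2
    have e2 : b₀ = 0 := (mul_eq_zero.1 (show b₀ * (α * δ - β * γ) ^ 2 = 0 by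
      simp only [Bp] at hB
      linear_combination (-2 * β * δ) * Q1 + (α * δ + β * γ) * hB - (2 * α * γ) * Q2)).resolve_right hd2
    have e3 : c₀ = 0 := (mul_eq_zero.1 (show c₀ * (α * δ - β * γ) ^ 2 = 0 by
      simp only [Bp] at hB
      linear_combination (β ^ 2) * Q1 - (α * β) * hB + (α ^ 2) * Q2)).resolve_right hd2
    subst e1 e2 e3
    rw [map_zero, sub_zero] at ha hb hc₀
    rcases hone with rfl | rfl | rfl
    all_goals first
      | exact (IsLocalRing.mem_maximalIdeal _).1 ha (by rw [map_one]; exact isUnit_one)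
      | exact (IsLocalRing.mem_maximalIdeal _).1 hb (by rw [map_one]; exact isUnit_one)
      | exact (IsLocalRing.mem_maximalIdeal _).1 hc₀ (by rw [map_one]; exact isUnit_one)
  have hdA : IsUnit (4 * a * c - b ^ 2) := IsLocalRing.notMem_maximalIdeal.1 fun h => by
    refine hdisc (const_eq_zero L ?_)
    rw [show algebraMap L (R L) (4 * a₀ * c₀ - b₀ ^ 2) = ι (4 * a * c - b ^ 2) -
      (4 * ι a * (ι c - al c₀) + 4 * al c₀ * (ι a - al a₀) - (ι b + al b₀) * (ι b - al b₀)) by
        simp only [al, map_sub, map_mul, map_pow, map_ofNat]; ring]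
    exact sub_mem (hι _ h) (sub_mem (add_mem (Ideal.mul_mem_left _ _ hc₀) (Ideal.mul_mem_left _ _ ha))
      (Ideal.mul_mem_left _ _ hb))
  haveI hred : IsReduced A := isReduced_of_injective ι (FaithfulSMul.algebraMap_injective A (R L))
  refine ⟨⟨x, y, a, b, c, hgen, hind, hdA, hq, exists_regular_of_isReduced fun h => hx2 ?_⟩, hred⟩
  have : x = 0 := by simpa [h] using hx
  rw [this, map_zero]
  exact zero_mem _

variable {k : Type u} [Field k] {A : Type u} [CommRing A] [Algebra k A] [IsLocalRing A]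
  [Algebra.EssFiniteType k A]

/-- Consequences of having a geometric double point. -/
theorem facts_of_geoODP {L : Type u} [Field L] [Algebra k L] (φ : A →ₐ[k] L)
    (hφ : ∀ a ∈ maximalIdeal A, φ a = 0) (hodp : GeoODP φ) :
    Algebra.FormallyUnramified k (ResidueField A) ∧ QNode A ∧ IsReduced A := by
  haveI : IsNoetherianRing A := Algebra.EssFiniteType.isNoetherianRing k A
  let B := GLoc φ
  haveI := isNoetherianRing_GLoc φ
  have hP : (geoPt φ).asIdeal.comap (Algebra.TensorProduct.includeRight (R := k) (A := L) (B := A)).toRingHom =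
      maximalIdeal A := by
    refine le_antisymm (le_maximalIdeal (Ideal.IsPrime.comap _).ne_top) fun a ha => ?_
    rw [Ideal.mem_comap, mem_geoPt]
    simpa using hφ a ha
  obtain ⟨-, hmB⟩ := derIdeal_node L (geoPt φ) B hP hodp
  let j : A →ₐ[k] B := toLoc (k := k) (A := A) L B
  refine ⟨?_, ?_⟩
  · let φb : ResidueField A →ₐ[k] L := Ideal.Quotient.liftₐ (maximalIdeal A) φ hφ
    have hD : ∀ (D : Derivation k (ResidueField A) (ResidueField A)) (z : ResidueField A), D z = 0 := by
      intro D z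
      obtain ⟨a, rfl⟩ := residue_surjective z
      let g : A →ₐ[k] TrivSqZeroExt L L :=
        { toFun := fun a => TrivSqZeroExt.inl (φ a) + TrivSqZeroExt.inr (φb (D (residue A a)))
          map_one' := by ext <;> simp
          map_mul' := fun a b => by
            ext
            · simp
            · simp only [TrivSqZeroExt.snd_add, TrivSqZeroExt.snd_inl, TrivSqZeroExt.snd_inr, TrivSqZeroExt.snd_mul,
                TrivSqZeroExt.fst_add, TrivSqZeroExt.fst_inl, TrivSqZeroExt.fst_inr, map_mul, Derivation.leibniz,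
                map_add, smul_eq_mul, MulOpposite.smul_eq_mul_unop, MulOpposite.unop_op, zero_add, add_zero]
              show φ a * φb (D (residue A b)) + φ b * φb (D (residue A a)) = _
              ring
          map_zero' := by ext <;> simp
          map_add' := fun a b => by ext <;> simp [add_comm, add_left_comm, add_assoc]
          commutes' := fun r => by
            rw [IsScalarTower.algebraMap_apply k L (TrivSqZeroExt L L),
              show residue A (algebraMap k A r) = algebraMap k (ResidueField A) r from rfl]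
            ext <;> simp [TrivSqZeroExt.algebraMap_eq_inl'] }
      let G : L ⊗[k] A →ₐ[L] TrivSqZeroExt L L :=
        Algebra.TensorProduct.lift (Algebra.ofId L _) g (fun _ _ => Commute.all _ _)
      have hG : ∀ t, TrivSqZeroExt.fst (G t) = geoEv φ t := fun t => by
        induction t using TensorProduct.induction_on with
        | zero => simp
        | tmul c a => simp [G, g, TrivSqZeroExt.algebraMap_eq_inl']
        | add u v hu hv => rw [map_add, map_add, TrivSqZeroExt.fst_add, hu, hv]
      have hu : ∀ s : (geoPt φ).asIdeal.primeCompl, IsUnit (G.toRingHom s) := fun s => by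
        rw [TrivSqZeroExt.isUnit_iff_isUnit_fst]
        show IsUnit (TrivSqZeroExt.fst (G s))
        rw [hG]
        exact isUnit_iff_ne_zero.2 fun h => s.2 h
      let G' : B →+* TrivSqZeroExt L L := IsLocalization.lift (M := (geoPt φ).asIdeal.primeCompl) hu
      have hG' : ∀ t, G' (algebraMap _ B t) = G t := fun t => IsLocalization.lift_eq _ t
      have hkill : maximalIdeal B ≤ RingHom.ker G' := by
        rw [← hmB, Ideal.map_le_iff_le_comap]
        intro b hb
        rw [Ideal.mem_comap, RingHom.mem_ker]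
        show G' (algebraMap (L ⊗[k] A) B (1 ⊗ₜ b)) = 0
        rw [hG']
        simp only [G, Algebra.TensorProduct.lift_tmul, map_one, one_mul]
        show TrivSqZeroExt.inl (φ b) + TrivSqZeroExt.inr (φb (D (residue A b))) = (0 : TrivSqZeroExt L L)
        rw [hφ b hb, (residue_eq_zero_iff b).2 hb, map_zero, map_zero]
        simp
      have h1 := hkill (map_mem_max φ (z := (1 : L) ⊗ₜ[k] a - φ a ⊗ₜ[k] (1 : A)) (by simp))
      rw [RingHom.mem_ker, hG', map_sub] at h1
      simp only [G, Algebra.TensorProduct.lift_tmul, map_one, one_mul, mul_one] at h1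
      have h2 := congrArg TrivSqZeroExt.snd h1
      simp [g, TrivSqZeroExt.algebraMap_eq_inl'] at h2
      exact h2
    refine ⟨subsingleton_of_forall_eq 0 fun w => ?_⟩
    rw [← Module.forall_dual_apply_eq_zero_iff (ResidueField A)]
    intro ξ
    have : ξ = 0 := Derivation.liftKaehlerDifferential_unique ξ 0 (Derivation.ext fun z => by
      show ξ (KaehlerDifferential.D k (ResidueField A) z) = 0
      exact hD (ξ.compDer (KaehlerDifferential.D k (ResidueField A))) z)
    rw [this, LinearMap.zero_apply]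
  · haveI := isLocalRing_R L
    obtain ⟨e, -⟩ := hodp
    obtain ⟨hCl, hCn, hCh, hCm, -⟩ := CohenLib.completion_facts B (maximalIdeal B) (maximalIdeal.isMaximal B).ne_top
    letI : Algebra A B := j.toRingHom.toAlgebra
    letI : Algebra B (R L) := (e.toRingHom.comp (algebraMap B (AdicCompletion (maximalIdeal B) B))).toAlgebra
    haveI : Module.Flat B (AdicCompletion (maximalIdeal B) B) := AdicCompletion.flat_of_isNoetherian _
    let eA : AdicCompletion (maximalIdeal B) B ≃ₐ[B] R L := AlgEquiv.ofRingEquiv (f := e) fun _ => rfl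
    haveI : Module.Flat B (R L) := Module.Flat.of_linearEquiv eA.symm.toLinearEquiv
    haveI : Module.Flat A B := by
      let eR : A →+* L ⊗[k] A := (Algebra.TensorProduct.includeRight (R := k) (A := L) (B := A)).toRingHom
      show (((algebraMap (L ⊗[k] A) B).comp eR)).Flat
      refine RingHom.Flat.comp ?_ (RingHom.flat_algebraMap_iff.2 (IsLocalization.flat B (geoPt φ).asIdeal.primeCompl))
      let ec := Algebra.TensorProduct.comm k A L
      have : eR = ec.toRingEquiv.toRingHom.comp (algebraMap A (A ⊗[k] L)) := by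
        ext a
        simp [eR, ec]
      rw [this]
      exact RingHom.Flat.comp (RingHom.flat_algebraMap_iff.2 inferInstance) (RingHom.Flat.of_bijective ec.bijective)
    letI : Algebra A (R L) := ((algebraMap B (R L)).comp (algebraMap A B)).toAlgebra
    haveI : IsScalarTower A B (R L) := IsScalarTower.of_algebraMap_eq' rfl
    haveI : Module.Flat A (R L) := Module.Flat.trans A B (R L)
    have hm : (maximalIdeal A).map (algebraMap A (R L)) = maximalIdeal (R L) := by
      rw [IsScalarTower.algebraMap_eq A B (R L), ← Ideal.map_map,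
        show (maximalIdeal A).map (algebraMap A B) = maximalIdeal B from hmB,
        ← map_maximalIdeal_of_surjective e.toRingHom e.surjective, ← hCm, Ideal.map_map]
      rfl
    haveI : IsLocalHom (algebraMap A (R L)) := ((IsLocalRing.local_hom_TFAE (algebraMap A (R L))).out 0 2).2 hm.le
    haveI : Module.FaithfullyFlat A (R L) := Module.FaithfullyFlat.of_flat_of_isLocalHom
    exact qnode_of_flat (L := L) hm

theorem isGeoNode_facts (h : IsGeoNode k A) :
    Algebra.FormallyUnramified k (ResidueField A) ∧ QNode A ∧ IsReduced A := by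
  obtain ⟨φ, hφ, hodp⟩ := h
  exact facts_of_geoODP φ hφ hodp

/-- With separable residue field the maximal ideal generates that of the geometric local ring. -/
theorem map_max_GLoc [Algebra.IsSeparable k (ResidueField A)] {L : Type u} [Field L] [Algebra k L] (φ : A →ₐ[k] L)
    (hφ : ∀ a ∈ maximalIdeal A, φ a = 0) :
    maximalIdeal (GLoc φ) = (maximalIdeal A).map (toLoc (k := k) (A := A) L (GLoc φ)).toRingHom ∧
      ∀ z : A, toLoc (k := k) (A := A) L (GLoc φ) z - algebraMap L (GLoc φ) (φ z) ∈ maximalIdeal (GLoc φ) := by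
  let κ := ResidueField A
  let B := GLoc φ
  let ι : A →ₐ[k] B := toLoc (k := k) (A := A) L B
  let al := algebraMap L B
  -- the residue field is separable, so the maximal ideal is extended
  let I := (maximalIdeal A).map ι.toRingHom
  have hz : ∀ z : A, ι z - al (φ z) ∈ I := fun z => by
    haveI : Algebra.IsIntegral k κ := inferInstance
    let p := minpoly k (residue A z)
    have hsep : p.Separable := Algebra.IsSeparable.isSeparable k (residue A z)
    have hp : Polynomial.aeval z p ∈ maximalIdeal A := by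
      rw [← residue_eq_zero_iff]
      show algebraMap A κ (Polynomial.aeval z p) = 0
      rw [← Polynomial.aeval_algebraMap_apply]
      exact minpoly.aeval k _
    have hroot : Polynomial.aeval (φ z) p = 0 := by
      rw [Polynomial.aeval_algHom_apply]; exact hφ _ hp
    have hder : Polynomial.aeval (φ z) (Polynomial.derivative p) ≠ 0 := by
      intro h0
      obtain ⟨s, t, hst⟩ := hsep
      have := congrArg (Polynomial.aeval (φ z)) hst
      rw [map_add, map_mul, map_mul, map_one, hroot, h0, mul_zero, mul_zero, add_zero] at this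
      exact zero_ne_one this
    let w := ι z - al (φ z)
    let pB := p.map (algebraMap k B)
    obtain ⟨r, hr⟩ := Polynomial.binomExpansion pB (al (φ z)) w
    have hev : ∀ q : Polynomial k, (q.map (algebraMap k B)).eval (al (φ z)) = al (Polynomial.aeval (φ z) q) := fun q => by
      rw [Polynomial.eval_map_algebraMap, show al (φ z) = (IsScalarTower.toAlgHom k L B) (φ z) from rfl,
        Polynomial.aeval_algHom_apply]
      rfl
    rw [hev, hroot, map_zero, zero_add, add_sub_cancel, Polynomial.eval_map_algebraMap,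
      show Polynomial.aeval (ι z) p = ι (Polynomial.aeval z p) from Polynomial.aeval_algHom_apply ι z p,
      Polynomial.derivative_map, hev] at hr
    have hu : IsUnit (al (Polynomial.aeval (φ z) (Polynomial.derivative p)) + r * w) := by
      refine IsLocalRing.notMem_maximalIdeal.1 fun h => ?_
      have hw : w ∈ maximalIdeal B := by
        have := map_mem_max φ (z := (1 : L) ⊗ₜ[k] z - φ z ⊗ₜ[k] (1 : A)) (by simp)
        rw [map_sub] at this
        exact this
      exact (IsLocalRing.mem_maximalIdeal _).1 ((Submodule.add_mem_iff_left _ (Ideal.mul_mem_left _ r hw)).1 h)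
        ((Ne.isUnit hder).map al)
    refine (Ideal.unit_mul_mem_iff_mem I hu).1 ?_
    rw [show (al (Polynomial.aeval (φ z) (Polynomial.derivative p)) + r * w) * w = ι (Polynomial.aeval z p) by
      rw [hr]; ring]
    exact Ideal.mem_map_of_mem _ hp
  have hmB : maximalIdeal B = I := by
    refine le_antisymm ?_ (Ideal.map_le_iff_le_comap.2 fun z hz' => ?_)
    · rw [← IsLocalization.AtPrime.map_eq_maximalIdeal (geoPt φ).asIdeal B, Ideal.map_le_iff_le_comap]
      intro t ht
      have key : ∀ t : L ⊗[k] A, algebraMap _ B t - al (geoEv φ t) ∈ I := fun t => by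
        induction t using TensorProduct.induction_on with
        | zero => simp
        | tmul s z =>
          rw [geoEv_tmul, show s ⊗ₜ[k] z = algebraMap L (L ⊗[k] A) s * (1 ⊗ₜ z) by simp, map_mul, map_mul,
            ← IsScalarTower.algebraMap_apply, ← mul_sub]
          exact Ideal.mul_mem_left _ _ (hz z)
        | add u v hu hv => rw [map_add, map_add, map_add, add_sub_add_comm]; exact add_mem hu hv
      have := key t
      rwa [(mem_geoPt φ t).1 ht, map_zero, sub_zero] at this
    · exact map_mem_max φ (by simpa using hφ z hz')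
  exact ⟨hmB, fun z => hmB ▸ hz z⟩

/-- Maps out of the geometric local ring from maps out of `A`. -/
theorem exists_lift_GLoc {L : Type u} [Field L] [Algebra k L] (φ : A →ₐ[k] L) {S : Type u} [CommRing S]
    [Algebra L S] [Algebra k S] [IsScalarTower k L S] (f : A →ₐ[k] S) (ε : S →ₐ[L] L) (hfφ : ∀ z, ε (f z) = φ z)
    (hu : ∀ z : S, ε z ≠ 0 → IsUnit z) :
    ∃ θ : GLoc φ →+* S, ∀ z, θ (toLoc (k := k) (A := A) L (GLoc φ) z) = f z := by
  let F : L ⊗[k] A →ₐ[L] S := Algebra.TensorProduct.lift (Algebra.ofId L _) f (fun _ _ => Commute.all _ _)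
  have hF : ∀ t, ε (F t) = geoEv φ t := fun t => by
    induction t using TensorProduct.induction_on with
    | zero => simp
    | tmul s z => simp [F, hfφ]
    | add s t hs ht => rw [map_add, map_add, hs, ht, map_add]
  have hFu : ∀ s : (geoPt φ).asIdeal.primeCompl, IsUnit (F.toRingHom s) := fun s => hu _ fun h => s.2 (by
    rw [SetLike.mem_coe, mem_geoPt, ← hF]
    exact h)
  refine ⟨IsLocalization.lift (M := (geoPt φ).asIdeal.primeCompl) hFu, fun z => ?_⟩
  show IsLocalization.lift (M := (geoPt φ).asIdeal.primeCompl) hFu (algebraMap _ (GLoc φ) ((1 : L) ⊗ₜ[k] z)) = _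
  rw [IsLocalization.lift_eq]
  simp [F]

/-- The criterion in the geometric local ring, from a map to the split node. -/
theorem nodeCrit_GLoc [Algebra.IsSeparable k (ResidueField A)] {L : Type u} [Field L] [IsAlgClosed L] [Algebra k L]
    (φ : A →ₐ[k] L) (hφ : ∀ a ∈ maximalIdeal A, φ a = 0) (f : A →ₐ[k] R L)
    (hfm : haveI := isLocalRing_R L; (maximalIdeal A).map f.toRingHom = maximalIdeal (R L)) (ε : R L →ₐ[L] L)
    (hε : haveI := isLocalRing_R L; ∀ z, z - algebraMap L (R L) (ε z) ∈ maximalIdeal (R L))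
    (hfφ : ∀ z, ε (f z) = φ z) {x y a b c : A} (hm : maximalIdeal A = Ideal.span {x, y})
    (hd : IsUnit (4 * a * c - b ^ 2)) (hq : qf a b c x y ∈ maximalIdeal A ^ 3) : NodeCrit (GLoc φ) := by
  haveI := isLocalRing_R L
  let B := GLoc φ
  obtain ⟨hmB, hz'⟩ := map_max_GLoc φ hφ
  let ι : A →ₐ[k] B := toLoc (k := k) (A := A) L B
  let al := algebraMap L B
  let f₀ : A →+* R L := f.toRingHom
  let I := (maximalIdeal A).map ι.toRingHom
  have hxm : x ∈ maximalIdeal A := hm ▸ Ideal.subset_span (by simp)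
  have hym : y ∈ maximalIdeal A := hm ▸ Ideal.subset_span (by simp)
  have hxy : maximalIdeal B = Ideal.span {ι x, ι y} := by
    rw [hmB, congrArg (Ideal.map (toLoc (k := k) (A := A) L (GLoc φ)).toRingHom) hm, Ideal.map_span,
      Set.image_pair]
    rfl
  have hdφ : 4 * φ a * φ c - φ b ^ 2 ≠ 0 := by
    have := (hd.map φ).ne_zero
    simpa only [map_sub, map_mul, map_pow, map_ofNat] using this
  obtain ⟨r₁, s₁, r₂, s₂, e1, e2, e3, hdet⟩ := exists_factor (φ a) (φ b) (φ c) hdφ
  let u := al r₁ * ι x + al s₁ * ι y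
  let v := al r₂ * ι x + al s₂ * ι y
  have hxB : ι x ∈ maximalIdeal B := hxy ▸ Ideal.subset_span (by simp)
  have hyB : ι y ∈ maximalIdeal B := hxy ▸ Ideal.subset_span (by simp)
  have huv : maximalIdeal B = Ideal.span {u, v} := by
    refine le_antisymm ?_ (Ideal.span_le.2 (Set.pair_subset
      (add_mem (Ideal.mul_mem_left _ _ hxB) (Ideal.mul_mem_left _ _ hyB))
      (add_mem (Ideal.mul_mem_left _ _ hxB) (Ideal.mul_mem_left _ _ hyB))))
    have hu : IsUnit (al (r₁ * s₂ - r₂ * s₁)) := (Ne.isUnit hdet).map al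
    rw [hxy, Ideal.span_le, Set.pair_subset_iff]
    constructor
    · refine (Ideal.unit_mul_mem_iff_mem _ hu).1 (Ideal.mem_span_pair.2 ⟨al s₂, -al s₁, ?_⟩)
      simp only [u, v, map_sub, map_mul]; ring
    · refine (Ideal.unit_mul_mem_iff_mem _ hu).1 (Ideal.mem_span_pair.2 ⟨-al r₂, al r₁, ?_⟩)
      simp only [u, v, map_sub, map_mul]; ring
  have hprod : u * v ∈ maximalIdeal B ^ 3 := by
    rw [show u * v = ι (qf a b c x y) - ((ι a - al (φ a)) * (ι x * ι x) + (ι b - al (φ b)) * (ι x * ι y) +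
      (ι c - al (φ c)) * (ι y * ι y)) by
        rw [← e1, ← e2, ← e3]; simp only [u, v, qf, map_add, map_mul, map_pow]; ring]
    refine sub_mem ?_ ?_
    · rw [hmB, ← Ideal.map_pow]; exact Ideal.mem_map_of_mem _ hq
    · rw [pow_succ' (maximalIdeal B) 2, pow_two (maximalIdeal B)]
      exact add_mem (add_mem (Ideal.mul_mem_mul (hz' a) (Ideal.mul_mem_mul hxB hxB))
        (Ideal.mul_mem_mul (hz' b) (Ideal.mul_mem_mul hxB hyB)))
        (Ideal.mul_mem_mul (hz' c) (Ideal.mul_mem_mul hyB hyB))
  obtain ⟨θ, hθι⟩ := exists_lift_GLoc φ f ε hfφ (fun z hz => by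
    refine IsLocalRing.notMem_maximalIdeal.1 fun h => hz (const_eq_zero L ?_)
    rw [show algebraMap L (R L) (ε z) = z - (z - algebraMap L (R L) (ε z)) from (sub_sub_cancel _ _).symm]
    exact sub_mem h (hε _))
  have hθm : (maximalIdeal B).map θ = maximalIdeal (R L) := by
    rw [hmB, Ideal.map_map, show θ.comp ι.toRingHom = f.toRingHom from RingHom.ext hθι, hfm]
  refine ⟨u, v, huv, hprod, fun n => ?_⟩
  have key : ∀ p q : B, maximalIdeal B = Ideal.span {p, q} → p ^ n ∉ maximalIdeal B ^ (n + 1) := by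
    intro p q hpq hp
    rcases Nat.eq_zero_or_pos n with rfl | hn
    · exact (IsLocalRing.mem_maximalIdeal _).1 (by simpa using hp : (1 : B) ∈ maximalIdeal B) isUnit_one
    have hM : maximalIdeal (R L) = Ideal.span {θ p, θ q} := by
      rw [← hθm, hpq, Ideal.map_span, Set.image_pair]
    have h2 : θ p ∈ maximalIdeal (R L) ^ 2 := by
      refine mem_sq_of_pow_mem L hn (hM ▸ Ideal.subset_span (by simp)) ?_
      rw [← map_pow, ← hθm, ← Ideal.map_pow]
      exact Ideal.mem_map_of_mem _ hp
    refine not_principal_mod L (θ q) ((IsLocalRing.mem_maximalIdeal _).1 (hM ▸ Ideal.subset_span (by simp))) ?_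
    conv_lhs => rw [hM]
    exact Ideal.span_le.2 (Set.pair_subset (Ideal.mem_sup_right h2)
      (Ideal.mem_sup_left (Ideal.mem_span_singleton_self _)))
  exact ⟨key u v huv, key v u (by rw [huv, Ideal.span_pair_comm])⟩

/-- A quadratic node with separable residue field is a geometric node. -/
theorem isGeoNode_of_qnode [IsNoetherianRing A] [Algebra.IsSeparable k (ResidueField A)] (h : QNode A) :
    IsGeoNode k A := by
  let κ := ResidueField A
  haveI : Algebra.FormallyEtale k κ := Algebra.FormallyEtale.of_isSeparable k κ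
  obtain ⟨a₀, b₀, c₀, hd₀, e, he⟩ := exists_cpl_equiv k h
  let L := AlgebraicClosure κ
  haveI := isLocalRing_R L
  haveI := isLocalRing_Q a₀ b₀ c₀
  obtain ⟨η, hη, hηgen, -⟩ := exists_to_R hd₀ (algebraMap κ L)
  obtain ⟨x, y, a, b, c, hm, -, hd, hq, -⟩ := h
  obtain ⟨hCl, hCn, hCh, hCm, -⟩ := CohenLib.completion_facts A (maximalIdeal A) (maximalIdeal.isMaximal A).ne_top
  let f₀ : A →+* R L := (η.comp e.toRingHom).comp (algebraMap A (AdicCompletion (maximalIdeal A) A))
  let f : A →ₐ[k] R L :=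
    { f₀ with
      commutes' := fun t => by
        show η (e (algebraMap A _ (algebraMap k A t))) = _
        rw [he, IsScalarTower.algebraMap_apply k L (R L), IsScalarTower.algebraMap_apply k κ L,
          IsScalarTower.algebraMap_apply k A κ]
        exact hη _ }
  have hfm : (maximalIdeal A).map f₀ = maximalIdeal (R L) := by
    rw [← Ideal.map_map, hCm, ← Ideal.map_map, map_maximalIdeal_of_surjective e.toRingHom e.surjective,
      maximalIdeal_Q, Ideal.map_span, Set.image_pair, ← hηgen]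
  let ε : R L →ₐ[L] L :=
    { Ideal.Quotient.lift (Ideal.span {xy L}) (MvPowerSeries.constantCoeff (σ := Fin 2) (R := L)) (fun z hz => by
        obtain ⟨w, rfl⟩ := Ideal.mem_span_singleton.1 hz
        simp [xy]) with
      commutes' := fun t => by
        simp [algebraMap_R] }
  have hε : ∀ z, z - algebraMap L (R L) (ε z) ∈ maximalIdeal (R L) := fun z => by
    obtain ⟨Z, rfl⟩ := Ideal.Quotient.mk_surjective z
    show Ideal.Quotient.mk _ Z - algebraMap L (R L) (MvPowerSeries.constantCoeff Z) ∈ _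
    rw [algebraMap_R, ← map_sub, mk_mem_max_iff]; simp
  let φ : A →ₐ[k] L := (ε.restrictScalars k).comp f
  have hφ : ∀ z ∈ maximalIdeal A, φ z = 0 := fun z hz => by
    refine const_eq_zero L ?_
    have h1 : f z ∈ maximalIdeal (R L) := hfm.le (Ideal.mem_map_of_mem _ hz)
    rw [show algebraMap L (R L) (φ z) = f z - (f z - algebraMap L (R L) (ε (f z))) from (sub_sub_cancel _ _).symm]
    exact sub_mem h1 (hε _)
  rw [isGeoNode_iff φ hφ]
  let B := GLoc φ
  haveI := isNoetherianRing_GLoc φ
  refine isOrdDoublePt_of_crit (map_residue φ) ?_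
  exact nodeCrit_GLoc φ hφ f hfm ε hε (fun z => rfl) hm hd hq

/-- Geometric nodes are exactly the quadratic nodes with separable residue field. -/
theorem isGeoNode_iff_qnode [IsNoetherianRing A] :
    IsGeoNode k A ↔ Algebra.IsSeparable k (ResidueField A) ∧ QNode A := by
  refine ⟨fun h => ?_, fun ⟨h1, h2⟩ => haveI := h1; isGeoNode_of_qnode h2⟩
  obtain ⟨h1, h2, -⟩ := isGeoNode_facts h
  haveI := h1
  haveI : Algebra.EssFiniteType A (ResidueField A) := inferInstance
  haveI : Algebra.EssFiniteType k (ResidueField A) := Algebra.EssFiniteType.comp k A _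
  exact ⟨Algebra.FormallyUnramified.isSeparable k _, h2⟩

end NodalLib

end
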