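import Groth.Agent.NodalLib.GeoNode
import Groth.Agent.NodalLib.NodeFacts
import Groth.Agent.GeoPtLib.Basic
import Groth.Agent.GeomIrrLib.Basic
import Groth.Agent.FibDimLib.ClosureDim
import Groth.Agent.DimIneqLib.Dim
import Groth.Agent.MiscFlat6.ClosedPts
import Mathlib.RingTheory.KrullDimension.Regular

/-!
# Nodes are geometric nodes of the local ring
-/

set_option autoImplicit false
set_option linter.style.haveILetI false
set_option linter.unusedSectionVars false
set_option maxHeartbeats 1000000
set_option synthInstance.maxHeartbeats 100000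
set_option backward.isDefEq.respectTransparency false
set_option backward.isDefEq.respectTransparency.types false

universe u

open CategoryTheory CategoryTheory.Limits AlgebraicGeometry IsLocalRing TensorProduct GeomRedFieldLib

noncomputable section

namespace NodalLib

/-- The model of an ordinary double point has dimension one. -/
theorem ringKrullDim_R (L : Type u) [Field L] : ringKrullDim (R L) = 1 := by
  haveI := CohenLib.isRegularLocalRing_mvPowerSeries L 2
  haveI : IsNoetherianRing (MvPowerSeries (Fin 2) L) := CohenLib.isNoetherianRing_mvPowerSeries _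
  have hne : xy L ≠ 0 := mul_ne_zero
    (fun h => by simpa [MvPowerSeries.coeff_X] using congrArg (MvPowerSeries.coeff (Finsupp.single (0 : Fin 2) 1)) h)
    (fun h => by simpa [MvPowerSeries.coeff_X] using congrArg (MvPowerSeries.coeff (Finsupp.single (1 : Fin 2) 1)) h)
  have hm : xy L ∈ maximalIdeal (MvPowerSeries (Fin 2) L) := by
    rw [maximalIdeal_P]
    exact Ideal.mul_mem_right _ _ (Ideal.subset_span (by simp))
  have h := ringKrullDim_quotient_span_singleton_succ_eq_ringKrullDim_of_mem_jacobson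
    (IsLeftRegular.isSMulRegular (isRegular_of_ne_zero hne).left)
    (show xy L ∈ Ring.jacobson (MvPowerSeries (Fin 2) L) by
      rw [← Ideal.jacobson_bot, IsLocalRing.jacobson_eq_maximalIdeal _ bot_ne_top]; exact hm)
  rw [CohenLib.ringKrullDim_mvPowerSeries_field] at h
  have h2 : ringKrullDim (R L) + 1 = ((1 : ℕ) : WithBot ℕ∞) + 1 := by
    rw [h]; norm_num
  revert h2
  cases ringKrullDim (R L) with
  | bot => intro h2; exact absurd h2 (by decide)
  | coe v =>
    intro h2
    induction v with
    | top =>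
      exfalso
      have h3 : ((⊤ : ℕ∞) + 1 : ℕ∞) = ((1 + 1 : ℕ) : ℕ∞) := WithBot.coe_injective (by push_cast; exact h2)
      exact ENat.coe_ne_top _ (h3.symm.trans (top_add _))
    | coe n =>
      have h3 : ((n : ℕ∞) + 1 : ℕ∞) = ((1 + 1 : ℕ) : ℕ∞) := WithBot.coe_injective (by push_cast; exact h2)
      have h4 : n + 1 = 1 + 1 := by exact_mod_cast h3
      obtain rfl : n = 1 := by omega
      rfl

section Algebra

variable {k : Type u} [Field k] {A : Type u} [CommRing A] [Algebra k A] [IsLocalRing A] [IsNoetherianRing A]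
  [Algebra.EssFiniteType k A]

/-- The dimension is one below a point with ordinary double point. -/
theorem ringKrullDim_of_geoODP {Kb : Type u} [Field Kb] [Algebra k Kb] (φ : A →ₐ[k] Kb)
    (hφ : ∀ a ∈ maximalIdeal A, φ a = 0) (hodp : GeoODP φ) : ringKrullDim A = 1 := by
  let B := GLoc φ
  haveI := isNoetherianRing_GLoc φ
  have hP : (geoPt φ).asIdeal.comap (Algebra.TensorProduct.includeRight (R := k) (A := Kb) (B := A)).toRingHom =
      maximalIdeal A := by
    refine le_antisymm (le_maximalIdeal (Ideal.IsPrime.comap _).ne_top) fun a ha => ?_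
    rw [Ideal.mem_comap, mem_geoPt]
    show geoEv φ ((1 : Kb) ⊗ₜ[k] a) = 0
    rw [geoEv_tmul, hφ a ha, mul_zero]
  obtain ⟨-, hm⟩ := derIdeal_node Kb (geoPt φ) B hP hodp
  letI : Algebra A B := (toLoc (k := k) (A := A) Kb B).toRingHom.toAlgebra
  haveI : IsLocalHom (algebraMap A B) := ((IsLocalRing.local_hom_TFAE (algebraMap A B)).out 0 2).2 hm.le
  haveI : Module.Flat A B := by
    let eR : A →+* Kb ⊗[k] A := (Algebra.TensorProduct.includeRight (R := k) (A := Kb) (B := A)).toRingHom
    show (((algebraMap (Kb ⊗[k] A) B).comp eR)).Flat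
    refine RingHom.Flat.comp ?_ (RingHom.flat_algebraMap_iff.2 (IsLocalization.flat B (geoPt φ).asIdeal.primeCompl))
    let ec := Algebra.TensorProduct.comm k A Kb
    have : eR = ec.toRingEquiv.toRingHom.comp (algebraMap A (A ⊗[k] Kb)) := by
      apply RingHom.ext
      intro a
      simp [eR, ec]
    rw [this]
    exact RingHom.Flat.comp (RingHom.flat_algebraMap_iff.2 inferInstance) (RingHom.Flat.of_bijective ec.bijective)
  obtain ⟨e, -⟩ := hodp
  rw [← CohenLib.ringKrullDim_eq_of_flat_unramified A B hm,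
    ← CohenLib.ringKrullDim_adicCompletion B (maximalIdeal B) (maximalIdeal.isMaximal B).ne_top,
    ringKrullDim_eq_of_ringEquiv e]
  exact ringKrullDim_R Kb

/-- A geometric node has dimension one. -/
theorem IsGeoNode.ringKrullDim_eq (h : IsGeoNode k A) : ringKrullDim A = 1 := by
  obtain ⟨φ, hφ, hodp⟩ := h
  exact ringKrullDim_of_geoODP φ hφ hodp

end Algebra

variable (k : Type u) [Field k] {X : Scheme.{u}} [X.Over (Spec (CommRingCat.of k))]

/-- Every prime of `k̄ ⊗ O_{X,x}` over the maximal ideal is a point of `X_{k̄}` over `x`, with the same local ring. -/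
theorem exists_point (x : X) :
    letI := Curv2.stalkAlgebra k X x
    ∀ (P : PrimeSpectrum (AlgebraicClosure k ⊗[k] X.presheaf.stalk x)),
      P.asIdeal.comap (Algebra.TensorProduct.includeRight (R := k) (A := AlgebraicClosure k)
        (B := X.presheaf.stalk x)).toRingHom = maximalIdeal (X.presheaf.stalk x) →
    letI : (Curv2.bc k X (AlgebraicClosure k)).Over (Spec (CommRingCat.of (AlgebraicClosure k))) :=
      ⟨Curv2.bcSnd k X (AlgebraicClosure k)⟩
    ∃ xb : Curv2.bc k X (AlgebraicClosure k), Curv2.bcFst k X (AlgebraicClosure k) xb = x ∧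
      ∃ E : (Curv2.bc k X (AlgebraicClosure k)).presheaf.stalk xb ≃+* Localization.AtPrime P.asIdeal,
        ∀ c, E (Curv2.stalkMap (AlgebraicClosure k) (Curv2.bc k X (AlgebraicClosure k)) xb c) =
          algebraMap (AlgebraicClosure k) _ c := by
  letI := Curv2.stalkAlgebra k X x
  intro P hP
  letI : (Curv2.bc k X (AlgebraicClosure k)).Over (Spec (CommRingCat.of (AlgebraicClosure k))) :=
    ⟨Curv2.bcSnd k X (AlgebraicClosure k)⟩
  let Kb := AlgebraicClosure k
  let A := X.presheaf.stalk x
  have hR : X.fromSpecStalk x ≫ (X ↘ Spec (CommRingCat.of k)) = str k A := fromSpecStalk_comp_over X x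
  haveI := AlgSpLib.flat_fromSpecStalk x
  let m : pullback (str k A) (str k Kb) ⟶ Curv2.bc k X Kb :=
    pullback.map _ _ _ _ (X.fromSpecStalk x) (𝟙 _) (𝟙 _) (by simp [hR, A]) (by simp [Kb])
  have sq : IsPullback m (pullback.fst (str k A) (str k Kb)) (Curv2.bcFst k X Kb) (X.fromSpecStalk x) := by
    refine (IsPullback.of_bot (v₂₁ := Curv2.bcSnd k X Kb) (h₃₁ := str k Kb)
      (v₂₂ := X ↘ Spec (CommRingCat.of k)) ?_
      (pullback.lift_fst _ _ _).symm (IsPullback.of_hasPullback _ _)).flip
    rw [show m ≫ Curv2.bcSnd k X Kb = pullback.snd (str k A) (str k Kb) from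
      (pullback.lift_snd _ _ _).trans (Category.comp_id _), hR]
    exact IsPullback.of_hasPullback _ _
  haveI : Flat m := MorphismProperty.of_isPullback sq.flip ‹_›
  haveI : IsPreimmersion m := MorphismProperty.of_isPullback sq.flip inferInstance
  let e : Spec (CommRingCat.of (Kb ⊗[k] A)) ≅ pullback (str k A) (str k Kb) :=
    (pullbackSpecIso k Kb A).symm ≪≫ pullbackSymmetry _ _
  let j : Spec (CommRingCat.of (Kb ⊗[k] A)) ⟶ Curv2.bc k X Kb := e.hom ≫ m
  have hj1 : j ≫ Curv2.bcFst k X Kb =
      Spec.map (CommRingCat.ofHom (Algebra.TensorProduct.includeRight (R := k) (A := Kb) (B := A)).toRingHom) ≫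
        X.fromSpecStalk x := by
    simp only [j, Category.assoc, sq.w, e, Iso.trans_hom, Iso.symm_hom, pullbackSymmetry_hom_comp_fst_assoc,
      pullbackSpecIso_inv_snd_assoc]
    rfl
  have hj2 : j ≫ Curv2.bcSnd k X Kb = str Kb (Kb ⊗[k] A) := by
    simp only [j, Category.assoc, m, pullback.map, pullback.lift_snd, Category.comp_id, e, Iso.trans_hom,
      Iso.symm_hom, pullbackSymmetry_hom_comp_snd, pullbackSpecIso_inv_fst]
    rfl
  refine ⟨j P, ?_, ?_⟩
  · have h1 : (Spec.map (CommRingCat.ofHom
        (Algebra.TensorProduct.includeRight (R := k) (A := Kb) (B := A)).toRingHom) P) = closedPoint A :=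
      PrimeSpectrum.ext hP
    refine ((congrArg (fun t : Spec (CommRingCat.of (Kb ⊗[k] A)) ⟶ X => t P) hj1).trans ?_)
    exact (congrArg (X.fromSpecStalk x) h1).trans Scheme.fromSpecStalk_closedPoint
  · letI := Curv2.stalkAlgebra Kb (Curv2.bc k X Kb) (j P)
    obtain ⟨E⟩ := nonempty_algEquiv_stalk' (k := Kb) (Curv2.bcSnd k X Kb) j hj2 P
      (SweepSix.FieldsRed.isIso_stalkMap j P) (fromSpecStalk_comp_over (k := Kb) (Curv2.bc k X Kb) (j P))
    exact ⟨E.toRingEquiv, fun c => E.commutes c⟩

variable [LocallyOfFiniteType (X ↘ Spec (CommRingCat.of k))]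

/-- A node is a closed point which is a geometric node. -/
theorem isNode_iff (x : X) :
    letI := Curv2.stalkAlgebra k X x
    Curv2.IsNode k X x ↔ IsClosed ({x} : Set X) ∧ IsGeoNode k (X.presheaf.stalk x) := by
  letI := Curv2.stalkAlgebra k X x
  haveI := essFiniteType_stalk k x
  letI : (Curv2.bc k X (AlgebraicClosure k)).Over (Spec (CommRingCat.of (AlgebraicClosure k))) :=
    ⟨Curv2.bcSnd k X (AlgebraicClosure k)⟩
  suffices H : IsClosed ({x} : Set X) →
      (Curv2.IsNode k X x ↔ IsGeoNode k (X.presheaf.stalk x)) from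
    ⟨fun h => ⟨h.1, (H h.1).1 h⟩, fun h => (H h.1).2 h.2⟩
  intro hx
  obtain ⟨φ, hφ⟩ : ∃ φ : X.presheaf.stalk x →ₐ[k] AlgebraicClosure k,
      ∀ a ∈ maximalIdeal (X.presheaf.stalk x), φ a = 0 := by
    letI := Curv2.resAlgebra k X x
    haveI : Module.Finite k (X.residueField x) := by
      have h1 := GeoPtLib.finite_residueField (X ↘ Spec (CommRingCat.of k)) hx
      convert h1 using 2
    let ρ : X.residueField x →ₐ[k] AlgebraicClosure k := IsAlgClosed.lift
    refine ⟨{ ρ.toRingHom.comp (X.residue x).hom with commutes' := fun r => ρ.commutes r }, fun a ha => ?_⟩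
    show ρ ((X.residue x).hom a) = 0
    rw [show (X.residue x).hom a = 0 from (residue_eq_zero_iff a).2 ha, map_zero]
  have hP : (geoPt φ).asIdeal.comap (Algebra.TensorProduct.includeRight (R := k) (A := AlgebraicClosure k)
      (B := X.presheaf.stalk x)).toRingHom = maximalIdeal (X.presheaf.stalk x) := by
    refine le_antisymm (le_maximalIdeal (Ideal.IsPrime.comap _).ne_top) fun a ha => ?_
    rw [Ideal.mem_comap, mem_geoPt]
    simpa using hφ a ha
  obtain ⟨xb, hxb, E, hE⟩ := exists_point k x (geoPt φ) hP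
  letI := Curv2.stalkAlgebra (AlgebraicClosure k) (Curv2.bc k X (AlgebraicClosure k)) xb
  rw [isGeoNode_iff φ hφ]
  constructor
  · rintro ⟨-, y, hy, hodp⟩
    exact isOrdDoublePt_semilinear E (RingEquiv.refl _) hE
      (isOrdDoublePt_of_eq k y xb (hy.trans hxb.symm) hodp)
  · intro h
    exact ⟨hx, xb, hxb, isOrdDoublePt_semilinear E.symm (RingEquiv.refl _)
      (fun c => (E.symm_apply_eq).2 (hE c).symm) h⟩

/-- Geometric nodes of a scheme of dimension at most one are closed. -/
theorem isClosed_of_isGeoNode (hdim : topologicalKrullDim X ≤ 1) (x : X)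
    (h : letI := Curv2.stalkAlgebra k X x; IsGeoNode k (X.presheaf.stalk x)) : IsClosed ({x} : Set X) := by
  letI := Curv2.stalkAlgebra k X x
  haveI := essFiniteType_stalk k x
  haveI : IsLocallyNoetherian X := LocallyOfFiniteType.isLocallyNoetherian (X ↘ Spec (CommRingCat.of k))
  obtain ⟨y, hy, hxy⟩ := MiscFlat6.exists_closed_specializes x
  by_contra hx
  have hne : x ≠ y := fun e => hx (e ▸ hy)
  have h1 := FibDimLib.ringKrullDim_stalk_lt hxy hne
  rw [IsGeoNode.ringKrullDim_eq h] at h1
  exact absurd ((DimIneqLib.stalk_dim_le_dim y).trans hdim) (not_le_of_gt h1)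

end NodalLib

end
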