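import Mathlib
import Groth.Agent.GorLib.Polynomial
import Groth.Agent.GorLib.FlatLocal
import Groth.Agent.GorLib.Fibres
import Groth.Agent.CohenLib.FlatUnramified
import Groth.Agent.CohenLib.FSRegular
import Groth.Agent.QFDualLib.BaseChange

/-!
# The algebra of an ordinary double point
-/

set_option autoImplicit false
set_option linter.unusedSectionVars false
universe u

open IsLocalRing

noncomputable section

namespace NodalLib

variable (K : Type u) [Field K]

/-- the equation of an ordinary double point -/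
abbrev xy : MvPowerSeries (Fin 2) K := MvPowerSeries.X 0 * MvPowerSeries.X 1

theorem X_dvd_iff_kill (i : Fin 2) (f : MvPowerSeries (Fin 2) K) :
    (MvPowerSeries.X i : MvPowerSeries (Fin 2) K) ∣ f ↔
      MvPowerSeries.killCompl (R := K) (⟨fun _ => i.rev, fun a b _ => Subsingleton.elim a b⟩ : Fin 1 ↪ Fin 2) f = 0 := by
  let e : Fin 1 ↪ Fin 2 := ⟨fun _ => i.rev, fun a b _ => Subsingleton.elim a b⟩
  have hir : i.rev ≠ i := by fin_cases i <;> decide
  rw [MvPowerSeries.X_dvd_iff]
  refine ⟨fun h => ?_, fun h m hm => ?_⟩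
  · ext x
    rw [MvPowerSeries.coeff_killCompl, map_zero]
    refine h _ ?_
    rw [Finsupp.embDomain_notin_range]
    rintro ⟨a, ha⟩
    exact hir ha
  · have hx : Finsupp.embDomain e (Finsupp.single 0 (m i.rev)) = m := by
      ext j
      rw [Finsupp.embDomain_single]
      by_cases hj : j = i.rev
      · subst hj; simp [e]
      · have : j = i := by fin_cases i <;> fin_cases j <;> simp_all
        subst this
        rw [Finsupp.single_eq_of_ne (by simpa [e] using hj), hm]
    have h2 := congrArg (MvPowerSeries.coeff (Finsupp.single (0 : Fin 1) (m i.rev))) h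
    rw [MvPowerSeries.coeff_killCompl, map_zero, hx] at h2
    exact h2

theorem X_dvd_mul {i : Fin 2} {f g : MvPowerSeries (Fin 2) K}
    (h : (MvPowerSeries.X i : MvPowerSeries (Fin 2) K) ∣ f * g) :
    (MvPowerSeries.X i : MvPowerSeries (Fin 2) K) ∣ f ∨ (MvPowerSeries.X i : MvPowerSeries (Fin 2) K) ∣ g := by
  simp only [X_dvd_iff_kill, map_mul] at h ⊢
  exact mul_eq_zero.mp h

theorem xy_dvd_iff (f : MvPowerSeries (Fin 2) K) :
    xy K ∣ f ↔ (MvPowerSeries.X 0 : MvPowerSeries (Fin 2) K) ∣ f ∧ (MvPowerSeries.X 1 : MvPowerSeries (Fin 2) K) ∣ f := by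
  refine ⟨fun h => ⟨dvd_of_mul_right_dvd h, dvd_of_mul_left_dvd h⟩, ?_⟩
  rintro ⟨⟨g, rfl⟩, h⟩
  have h' : (MvPowerSeries.X 1 : MvPowerSeries (Fin 2) K) ∣ g := by
    refine (X_dvd_mul K h).resolve_left fun h2 => ?_
    have h3 := (MvPowerSeries.X_dvd_iff.mp h2) (Finsupp.single 0 1) (by simp)
    simp [MvPowerSeries.coeff_X] at h3
  exact mul_dvd_mul_left _ h'

/-- the ring of an ordinary double point -/
abbrev R : Type u := MvPowerSeries (Fin 2) K ⧸ Ideal.span {xy K}

theorem isReduced_R : IsReduced (R K) := by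
  refine ⟨fun a ⟨n, hn⟩ => ?_⟩
  obtain ⟨f, rfl⟩ := Ideal.Quotient.mk_surjective a
  rw [← map_pow, Ideal.Quotient.eq_zero_iff_mem, Ideal.mem_span_singleton, xy_dvd_iff] at hn
  rw [Ideal.Quotient.eq_zero_iff_mem, Ideal.mem_span_singleton, xy_dvd_iff]
  have key : ∀ (i : Fin 2) (m : ℕ), (MvPowerSeries.X i : MvPowerSeries (Fin 2) K) ∣ f ^ m →
      (MvPowerSeries.X i : MvPowerSeries (Fin 2) K) ∣ f := fun i m => by
    rw [X_dvd_iff_kill, X_dvd_iff_kill, map_pow]
    exact eq_zero_of_pow_eq_zero
  exact ⟨key 0 n hn.1, key 1 n hn.2⟩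

theorem maximalIdeal_P : maximalIdeal (MvPowerSeries (Fin 2) K) =
    Ideal.span {MvPowerSeries.X 0, MvPowerSeries.X 1} := by
  rw [CohenLib.maximalIdeal_mvPowerSeries_field]
  refine congrArg Ideal.span ?_
  ext f
  simp [Set.mem_range, Fin.exists_fin_two, eq_comm]

theorem isLocalRing_R : IsLocalRing (R K) :=
  GorLib.isLocalRing_quotient (fun h => by
    have h1 := (Ideal.eq_top_iff_one _).mp h
    rw [Ideal.mem_span_singleton] at h1
    have h2 := isUnit_of_dvd_one h1
    rw [MvPowerSeries.isUnit_iff_constantCoeff] at h2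
    simp at h2)

theorem gorenstein_R : @LocCoh.IsGorensteinLocalRing (R K) _ := by
  haveI := CohenLib.isRegularLocalRing_mvPowerSeries K 2
  haveI : IsNoetherianRing (MvPowerSeries (Fin 2) K) := CohenLib.isNoetherianRing_mvPowerSeries _
  haveI := isLocalRing_R K
  have hm : xy K ∈ maximalIdeal (MvPowerSeries (Fin 2) K) := by
    rw [maximalIdeal_P]
    exact Ideal.mul_mem_right _ _ (Ideal.subset_span (by simp))
  have hne : xy K ≠ 0 := mul_ne_zero
    (fun h => by simpa [MvPowerSeries.coeff_X] using congrArg (MvPowerSeries.coeff (Finsupp.single (0 : Fin 2) 1)) h)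
    (fun h => by simpa [MvPowerSeries.coeff_X] using congrArg (MvPowerSeries.coeff (Finsupp.single (1 : Fin 2) 1)) h)
  exact (GorLib.gorenstein_quotient_iff (IsLeftRegular.isSMulRegular (isRegular_of_ne_zero hne).left) hm).1
    (Groth.Agent.S0342.result _)

variable {K}

/-- Two branches of an ordinary double point meet in the reduced point. -/
theorem branches_R {B : Type u} [CommRing B] [IsLocalRing B] (φ : MvPowerSeries (Fin 2) K →+* B)
    (hφ : Function.Surjective φ) (hk : RingHom.ker φ = Ideal.span {xy K}) (I J : Ideal B) (hI : I ≠ ⊥) (hJ : J ≠ ⊥)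
    (hIJ : Submodule.annihilator J = I) (hJI : Submodule.annihilator I = J) : I ⊔ J = maximalIdeal B := by
  have hmul : ∀ a b, φ a ∈ I → φ b ∈ J → xy K ∣ a * b := fun a b ha hb => by
    rw [← Ideal.mem_span_singleton, ← hk, RingHom.mem_ker, map_mul]
    exact Submodule.mem_annihilator.mp (hIJ.ge ha) _ hb
  have hz : ∀ f, φ f = 0 ↔ xy K ∣ f := fun f => by
    rw [← RingHom.mem_ker, hk, Ideal.mem_span_singleton]
  obtain ⟨b, hb, hb0⟩ := Submodule.exists_mem_ne_zero_of_ne_bot hJ
  obtain ⟨g, rfl⟩ := hφ b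
  rw [ne_eq, hz, xy_dvd_iff] at hb0
  obtain ⟨a, ha, ha0⟩ := Submodule.exists_mem_ne_zero_of_ne_bot hI
  obtain ⟨f, rfl⟩ := hφ a
  rw [ne_eq, hz, xy_dvd_iff] at ha0
  have hfin : ∀ i j : Fin 2, i ≠ j → ¬ (MvPowerSeries.X i : MvPowerSeries (Fin 2) K) ∣ g →
      I ⊔ J = maximalIdeal B := by
    intro i j hij hg
    have hxy : ∀ F : MvPowerSeries (Fin 2) K, xy K ∣ F ↔
        (MvPowerSeries.X i : MvPowerSeries (Fin 2) K) ∣ F ∧ (MvPowerSeries.X j : MvPowerSeries (Fin 2) K) ∣ F := by
      intro F
      rw [xy_dvd_iff]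
      fin_cases i <;> fin_cases j <;> first | exact absurd rfl hij | exact Iff.rfl | exact and_comm
    have hIi : ∀ F, φ F ∈ I → (MvPowerSeries.X i : MvPowerSeries (Fin 2) K) ∣ F := fun F hF =>
      ((X_dvd_mul K ((hxy _).mp (hmul F g hF hb)).1)).resolve_right hg
    have hf : ¬ (MvPowerSeries.X j : MvPowerSeries (Fin 2) K) ∣ f := fun h => by
      exact ha0 ((xy_dvd_iff K f).mp ((hxy f).mpr ⟨hIi f ha, h⟩))
    have hJj : ∀ G, φ G ∈ J → (MvPowerSeries.X j : MvPowerSeries (Fin 2) K) ∣ G := fun G hG =>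
      ((X_dvd_mul K ((hxy _).mp (hmul f G ha hG)).2)).resolve_left hf
    have hiI : φ (MvPowerSeries.X i) ∈ I := hIJ.le (Submodule.mem_annihilator.mpr fun c hc => by
      obtain ⟨G, rfl⟩ := hφ c
      rw [smul_eq_mul, ← map_mul, hz, hxy]
      exact ⟨dvd_mul_right _ _, dvd_mul_of_dvd_right (hJj G hc) _⟩)
    have hjJ : φ (MvPowerSeries.X j) ∈ J := hJI.le (Submodule.mem_annihilator.mpr fun c hc => by
      obtain ⟨F, rfl⟩ := hφ c
      rw [smul_eq_mul, ← map_mul, hz, hxy]
      exact ⟨dvd_mul_of_dvd_right (hIi F hc) _, dvd_mul_right _ _⟩)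
    have htop : ∀ L M : Ideal B, L ≠ ⊥ → Submodule.annihilator L = M → M ≠ ⊤ := fun L M hL h ht => hL (by
      rw [ht, Submodule.annihilator_eq_top_iff] at h
      exact h)
    refine le_antisymm (sup_le (le_maximalIdeal (htop J I hJ hIJ)) (le_maximalIdeal (htop I J hI hJI))) ?_
    have hm : maximalIdeal B ≤ (maximalIdeal (MvPowerSeries (Fin 2) K)).map φ := fun c hc => by
      obtain ⟨F, rfl⟩ := hφ c
      refine Ideal.mem_map_of_mem _ ((IsLocalRing.mem_maximalIdeal _).mpr fun hu => ?_)
      exact (IsLocalRing.mem_maximalIdeal _).mp hc (hu.map φ)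
    refine hm.trans ?_
    rw [maximalIdeal_P, Ideal.map_span, Ideal.span_le]
    rintro _ ⟨F, hF, rfl⟩
    rcases hF with rfl | rfl <;> fin_cases i <;> fin_cases j <;>
      first
      | exact absurd rfl hij
      | exact Submodule.mem_sup_left hiI
      | exact Submodule.mem_sup_right hjJ
  by_cases h0 : (MvPowerSeries.X 0 : MvPowerSeries (Fin 2) K) ∣ g
  · exact hfin 1 0 (by decide) fun h1 => hb0 ⟨h0, h1⟩
  · exact hfin 0 1 (by decide) h0

section Local

variable {A : Type u} [CommRing A] [IsLocalRing A] [IsNoetherianRing A]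
  (e : AdicCompletion (maximalIdeal A) A ≃+* R K)

theorem injective_completion : Function.Injective (algebraMap A (AdicCompletion (maximalIdeal A) A)) :=
  AdicCompletion.of_injective (maximalIdeal A) A

include e

/-- An ordinary double point is reduced. -/
theorem isReduced_of_node : IsReduced A := by
  haveI := isReduced_R K
  exact isReduced_of_injective (e.toRingHom.comp (algebraMap A (AdicCompletion (maximalIdeal A) A)))
    (e.injective.comp injective_completion)

/-- An ordinary double point is Gorenstein. -/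
theorem gorenstein_of_node : LocCoh.IsGorensteinLocalRing A := by
  obtain ⟨hBl, hBn, hBh, hmax, -⟩ := CohenLib.completion_facts A (maximalIdeal A) (maximalIdeal.isMaximal A).ne_top
  haveI : Module.Flat A (AdicCompletion (maximalIdeal A) A) := AdicCompletion.flat_of_isNoetherian _
  haveI := isLocalRing_R K
  haveI : IsNoetherianRing (MvPowerSeries (Fin 2) K) := CohenLib.isNoetherianRing_mvPowerSeries _
  have hB : LocCoh.IsGorensteinLocalRing (AdicCompletion (maximalIdeal A) A) :=
    (GorLib.gorenstein_congr e).2 (gorenstein_R K)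
  exact ((GorLib.gorenstein_flat_iff A (AdicCompletion (maximalIdeal A) A)).1 hB).1

/-- Complementary ideals at an ordinary double point add up to the maximal ideal. -/
theorem branches_of_node (P Q : Ideal A) (hP : P ≠ ⊥) (hQ : Q ≠ ⊥) (hPQ : Submodule.annihilator Q = P)
    (hQP : Submodule.annihilator P = Q) : P ⊔ Q = maximalIdeal A := by
  obtain ⟨hBl, hBn, hBh, hmax, -⟩ := CohenLib.completion_facts A (maximalIdeal A) (maximalIdeal.isMaximal A).ne_top
  haveI : Module.Flat A (AdicCompletion (maximalIdeal A) A) := AdicCompletion.flat_of_isNoetherian _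
  haveI : Module.FaithfullyFlat A (AdicCompletion (maximalIdeal A) A) :=
    Module.FaithfullyFlat.of_flat_of_isLocalHom
  let ι := algebraMap A (AdicCompletion (maximalIdeal A) A)
  have hne : ∀ L : Ideal A, L ≠ ⊥ → L.map ι ≠ ⊥ := fun L hL h =>
    hL (eq_bot_iff.mpr fun x hx => injective_completion (by
      rw [map_zero]
      exact (Ideal.mem_bot.mp (h ▸ Ideal.mem_map_of_mem ι hx))))
  have h := branches_R (B := AdicCompletion (maximalIdeal A) A) (e.symm.toRingHom.comp (Ideal.Quotient.mk _))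
    (e.symm.surjective.comp Ideal.Quotient.mk_surjective)
    (by rw [RingHom.ker_comp_of_injective _ e.symm.injective, Ideal.mk_ker])
    (P.map ι) (Q.map ι) (hne P hP) (hne Q hQ)
    (by rw [QFDualLib.annihilator_map_of_flat (IsNoetherian.noetherian Q), hPQ])
    (by rw [QFDualLib.annihilator_map_of_flat (IsNoetherian.noetherian P), hQP])
  rw [← Ideal.map_sup, ← hmax] at h
  have h2 := congrArg (Ideal.comap ι) h
  rwa [Ideal.comap_map_eq_self_of_faithfullyFlat, Ideal.comap_map_eq_self_of_faithfullyFlat] at h2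

end Local

end NodalLib

end
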