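import Groth.Agent.NodalLib.DerIdeal
import Groth.Agent.NodeCplLib.Surj
import Mathlib.FieldTheory.IsAlgClosed.Basic

/-!
# A criterion for ordinary double points

Over an algebraically closed residue field a Noetherian local ring is an ordinary double point iff its maximal ideal has
two generators with product in its cube, none of whose powers lies deeper than expected. The criterion can be carried
up and down along faithfully flat unramified extensions.
-/

set_option autoImplicit false
set_option linter.style.haveILetI false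
set_option linter.unusedSectionVars false
set_option maxHeartbeats 1000000
set_option synthInstance.maxHeartbeats 100000

universe u

open IsLocalRing MvPowerSeries Finsupp

noncomputable section

namespace NodalLib

section Model

variable (L : Type u) [Field L]

local notation "Xb" => Ideal.Quotient.mk (Ideal.span {xy L}) (X 0)
local notation "Yb" => Ideal.Quotient.mk (Ideal.span {xy L}) (X 1)

theorem algebraMap_R (c : L) : algebraMap L (R L) c = Ideal.Quotient.mk _ (C c) := rfl

theorem Xb_mul_Yb : Xb * Yb = 0 := by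
  rw [← map_mul, Ideal.Quotient.eq_zero_iff_mem]
  exact Ideal.mem_span_singleton_self _

theorem Xb_mem : haveI := isLocalRing_R L; Xb ∈ maximalIdeal (R L) :=
  (mk_mem_max_iff L _).2 (constantCoeff_X 0)

theorem Yb_mem : haveI := isLocalRing_R L; Yb ∈ maximalIdeal (R L) :=
  (mk_mem_max_iff L _).2 (constantCoeff_X 1)

/-- Linear coordinates on the cotangent space of the model. -/
theorem exists_coords (r : R L) (hr : haveI := isLocalRing_R L; r ∈ maximalIdeal (R L)) :
    haveI := isLocalRing_R L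
    ∃ α β : L, r - (algebraMap L (R L) α * Xb + algebraMap L (R L) β * Yb) ∈ maximalIdeal (R L) ^ 2 := by
  haveI := isLocalRing_R L
  rw [maximalIdeal_R] at hr
  obtain ⟨f, g, rfl⟩ := Ideal.mem_span_pair.1 hr
  obtain ⟨F, rfl⟩ := Ideal.Quotient.mk_surjective f
  obtain ⟨G, rfl⟩ := Ideal.Quotient.mk_surjective g
  refine ⟨constantCoeff F, constantCoeff G, ?_⟩
  have h : ∀ H : MvPowerSeries (Fin 2) L,
      Ideal.Quotient.mk _ H - algebraMap L (R L) (constantCoeff H) ∈ maximalIdeal (R L) := fun H => by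
    rw [algebraMap_R, ← map_sub, mk_mem_max_iff]; simp
  rw [pow_two, show Ideal.Quotient.mk _ F * Xb + Ideal.Quotient.mk _ G * Yb -
    (algebraMap L (R L) (constantCoeff F) * Xb + algebraMap L (R L) (constantCoeff G) * Yb) =
      (Ideal.Quotient.mk _ F - algebraMap L (R L) (constantCoeff F)) * Xb +
      (Ideal.Quotient.mk _ G - algebraMap L (R L) (constantCoeff G)) * Yb by ring]
  exact add_mem (Ideal.mul_mem_mul (h F) (Xb_mem L)) (Ideal.mul_mem_mul (h G) (Yb_mem L))

/-- The two parameters are linearly independent modulo the square. -/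
theorem coords_eq_zero {α β : L} (h : haveI := isLocalRing_R L
    algebraMap L (R L) α * Xb + algebraMap L (R L) β * Yb ∈ maximalIdeal (R L) ^ 2) : α = 0 ∧ β = 0 := by
  haveI := isLocalRing_R L
  have key : ∀ c : L, algebraMap L (R L) c ∈ maximalIdeal (R L) → c = 0 := fun c hc => by
    rw [algebraMap_R, mk_mem_max_iff] at hc; simpa using hc
  obtain ⟨h1, h2⟩ := mem_max_of_mul_add L (algebraMap L (R L) α) (algebraMap L (R L) β) (by
    rwa [mul_comm Xb, mul_comm Yb])
  exact ⟨key α h1, key β h2⟩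

/-- Scalar multiples of one element do not fill the cotangent space. -/
theorem not_principal_mod (r : R L) : haveI := isLocalRing_R L
    ¬ IsUnit r → ¬ maximalIdeal (R L) ≤ Ideal.span {r} ⊔ maximalIdeal (R L) ^ 2 := by
  haveI := isLocalRing_R L
  intro hnu h
  by_cases hr : r ∈ maximalIdeal (R L)
  swap
  · have hr' : IsUnit r := not_not.1 fun hh => hr ((IsLocalRing.mem_maximalIdeal _).2 hh)
    exact hnu hr'
  obtain ⟨α, β, hab⟩ := exists_coords L r hr
  have key : ∀ z ∈ maximalIdeal (R L), ∃ c : L,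
      z - algebraMap L (R L) c * (algebraMap L (R L) α * Xb + algebraMap L (R L) β * Yb) ∈
        maximalIdeal (R L) ^ 2 := fun z hz => by
    obtain ⟨u, hu, v, hv, rfl⟩ := Submodule.mem_sup.1 (h hz)
    obtain ⟨s, rfl⟩ := Ideal.mem_span_singleton'.1 hu
    obtain ⟨S, rfl⟩ := Ideal.Quotient.mk_surjective s
    refine ⟨constantCoeff S, ?_⟩
    have hS : Ideal.Quotient.mk (Ideal.span {xy L}) S - algebraMap L (R L) (constantCoeff S) ∈ maximalIdeal (R L) := by
      rw [algebraMap_R, ← map_sub, mk_mem_max_iff]; simp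
    rw [show Ideal.Quotient.mk _ S * r + v - algebraMap L (R L) (constantCoeff S) *
        (algebraMap L (R L) α * Xb + algebraMap L (R L) β * Yb) =
      (Ideal.Quotient.mk _ S - algebraMap L (R L) (constantCoeff S)) * r + v +
        algebraMap L (R L) (constantCoeff S) * (r - (algebraMap L (R L) α * Xb + algebraMap L (R L) β * Yb)) by ring]
    refine add_mem (add_mem ?_ hv) (Ideal.mul_mem_left _ _ hab)
    rw [pow_two]; exact Ideal.mul_mem_mul hS hr
  obtain ⟨c, hc⟩ := key _ (Xb_mem L)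
  obtain ⟨d, hd⟩ := key _ (Yb_mem L)
  obtain ⟨h1, h2⟩ := coords_eq_zero L (α := 1 - c * α) (β := -(c * β)) (by
    convert hc using 1
    simp only [map_sub, map_one, map_neg, map_mul]
    ring)
  obtain ⟨h3, h4⟩ := coords_eq_zero L (α := -(d * α)) (β := 1 - d * β) (by
    convert hd using 1
    simp only [map_sub, map_one, map_neg, map_mul]
    ring)
  rw [sub_eq_zero] at h1 h4
  rw [neg_eq_zero] at h2 h3
  have : (c * α) * (d * β) = (c * β) * (d * α) := by ring
  rw [← h1, ← h4, h2, zero_mul, one_mul] at this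
  exact one_ne_zero this

/-- A power of a cotangent vector is as deep as expected. -/
theorem mem_sq_of_pow_mem {r : R L} {n : ℕ} (hn : 1 ≤ n) (hr : haveI := isLocalRing_R L; r ∈ maximalIdeal (R L))
    (h : haveI := isLocalRing_R L; r ^ n ∈ maximalIdeal (R L) ^ (n + 1)) :
    haveI := isLocalRing_R L
    r ∈ maximalIdeal (R L) ^ 2 := by
  haveI := isLocalRing_R L
  obtain ⟨α, β, hab⟩ := exists_coords L r hr
  let e : Fin 2 → Fin 1 ↪ Fin 2 := fun i => ⟨fun _ => i, fun a b _ => Subsingleton.elim a b⟩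
  have main : ∀ i : Fin 2, ![α, β] i = 0 := fun i => by
    let θ : R L →+* MvPowerSeries (Fin 1) L := Ideal.Quotient.lift _
      (MvPowerSeries.killCompl (R := L) (e i)).toRingHom (fun f hf => by
        obtain ⟨g, rfl⟩ := Ideal.mem_span_singleton'.1 hf
        show MvPowerSeries.killCompl (R := L) (e i) (g * xy L) = 0
        rw [map_mul]
        have h1 : MvPowerSeries.killCompl (R := L) (e i) (xy L) = 0 := by
          fin_cases i
          · exact (X_dvd_iff_kill L 1 _).1 (dvd_mul_left _ _)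
          · exact (X_dvd_iff_kill L 0 _).1 (dvd_mul_right _ _)
        rw [h1, mul_zero])
    have hθ : ∀ f, θ (Ideal.Quotient.mk _ f) = MvPowerSeries.killCompl (R := L) (e i) f := fun f => rfl
    have hT : ∀ z ∈ maximalIdeal (R L), (X 0 : MvPowerSeries (Fin 1) L) ∣ θ z := fun z hz => by
      obtain ⟨Z, rfl⟩ := Ideal.Quotient.mk_surjective z
      rw [mk_mem_max_iff] at hz
      rw [hθ, X_dvd_iff]
      intro m hm
      have : m = 0 := Finsupp.ext fun j => by rw [Subsingleton.elim j 0, hm]; rfl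
      rw [this, coeff_killCompl, Finsupp.embDomain_zero, coeff_zero_eq_constantCoeff, hz]
    have hTpow : ∀ (m : ℕ), ∀ z ∈ maximalIdeal (R L) ^ m, (X 0 : MvPowerSeries (Fin 1) L) ^ m ∣ θ z := fun m z hz => by
      have h1 := Ideal.mem_map_of_mem θ hz
      rw [Ideal.map_pow] at h1
      rw [← Ideal.mem_span_singleton, ← Ideal.span_singleton_pow]
      have hle : (maximalIdeal (R L)).map θ ≤ Ideal.span {(X 0 : MvPowerSeries (Fin 1) L)} := by
        rw [Ideal.map_le_iff_le_comap]
        intro z hz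
        exact Ideal.mem_span_singleton.2 (hT z hz)
      exact Ideal.pow_right_mono hle m h1
    have hlin : θ (algebraMap L (R L) α * Xb + algebraMap L (R L) β * Yb) = C (![α, β] i) * X 0 := by
      have hXe : ∀ j : Fin 2, MvPowerSeries.killCompl (R := L) (e j) (X j) = X 0 := fun j =>
        MvPowerSeries.killCompl_X (e := e j) 0
      have hX0 : ∀ j l : Fin 2, l ≠ j → MvPowerSeries.killCompl (R := L) (e j) (X l) = 0 := fun j l hl =>
        MvPowerSeries.killCompl_X_eq_zero (by rintro ⟨_, h⟩; exact hl h.symm)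
      rw [algebraMap_R, algebraMap_R, map_add, map_mul, map_mul, hθ, hθ, hθ, hθ, MvPowerSeries.killCompl_C,
        MvPowerSeries.killCompl_C]
      fin_cases i
      · show C α * killCompl (e 0) (X 0) + C β * killCompl (e 0) (X 1) = C α * X 0
        rw [hXe, hX0 0 1 (by decide), mul_zero, add_zero]
      · show C α * killCompl (e 1) (X 0) + C β * killCompl (e 1) (X 1) = C β * X 0
        rw [hXe, hX0 1 0 (by decide), mul_zero, zero_add]
    obtain ⟨q, hq⟩ := hTpow 2 _ hab
    obtain ⟨p, hp⟩ := hTpow (n + 1) _ h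
    rw [map_sub, hlin, sub_eq_iff_eq_add] at hq
    have hX : (X 0 : MvPowerSeries (Fin 1) L) ≠ 0 := fun h0 => by
      simpa [coeff_X] using congrArg (coeff (single (0 : Fin 1) 1)) h0
    have h2 : (C (![α, β] i) + X 0 * q) ^ n = X 0 * p := by
      refine mul_left_cancel₀ (pow_ne_zero n hX) ?_
      rw [← mul_assoc, ← pow_succ, ← hp, map_pow, hq, ← mul_pow]
      ring
    have h3 := congrArg constantCoeff h2
    simp at h3
    exact h3.1
  have hα : α = 0 := main 0
  have hβ : β = 0 := main 1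
  simpa [hα, hβ] using hab

end Model

/-- The criterion for an ordinary double point. -/
def NodeCrit (B : Type u) [CommRing B] [IsLocalRing B] : Prop :=
  ∃ a b : B, maximalIdeal B = Ideal.span {a, b} ∧ a * b ∈ maximalIdeal B ^ 3 ∧
    ∀ n : ℕ, a ^ n ∉ maximalIdeal B ^ (n + 1) ∧ b ^ n ∉ maximalIdeal B ^ (n + 1)

/-- The criterion goes up faithfully flat unramified extensions. -/
theorem NodeCrit.map {B B' : Type u} [CommRing B] [IsLocalRing B] [CommRing B'] [IsLocalRing B'] [Algebra B B']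
    [Module.FaithfullyFlat B B'] (hm : (maximalIdeal B).map (algebraMap B B') = maximalIdeal B') (h : NodeCrit B) :
    NodeCrit B' := by
  obtain ⟨a, b, hab, hp, hn⟩ := h
  have hc : ∀ (n : ℕ) (x : B), algebraMap B B' x ∈ maximalIdeal B' ^ n → x ∈ maximalIdeal B ^ n := fun n x hx => by
    rw [← hm, ← Ideal.map_pow] at hx
    rwa [← Ideal.comap_map_eq_self_of_faithfullyFlat (B := B') (maximalIdeal B ^ n), Ideal.mem_comap]
  refine ⟨algebraMap B B' a, algebraMap B B' b, ?_, ?_, fun n => ⟨fun h => (hn n).1 (hc _ _ ?_), fun h => (hn n).2 (hc _ _ ?_)⟩⟩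
  · rw [← hm, hab, Ideal.map_span, Set.image_pair]
  · rw [← hm, ← Ideal.map_pow, ← map_mul]
    exact Ideal.mem_map_of_mem _ hp
  · rwa [map_pow]
  · rwa [map_pow]

/-- A local ring with algebraically closed residue field having an unramified faithfully flat extension to the model
satisfies the criterion. -/
theorem nodeCrit_of_flat {K B L : Type u} [Field K] [IsAlgClosed K] [CommRing B] [IsLocalRing B] [IsNoetherianRing B]
    [Algebra K B] (hK : ∀ z : B, ∃ c : K, z - algebraMap K B c ∈ maximalIdeal B) [Field L] [Algebra B (R L)]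
    [Module.FaithfullyFlat B (R L)]
    (hm : haveI := isLocalRing_R L; (maximalIdeal B).map (algebraMap B (R L)) = maximalIdeal (R L)) :
    NodeCrit B := by
  haveI := isLocalRing_R L
  let ι := algebraMap B (R L)
  let M := maximalIdeal (R L)
  have hι : ∀ z ∈ maximalIdeal B, ι z ∈ M := fun z hz => hm.le (Ideal.mem_map_of_mem _ hz)
  have hMpow : ∀ n, (maximalIdeal B ^ n).map ι = M ^ n := fun n => by rw [Ideal.map_pow, hm]
  have hc : ∀ (I : Ideal B) (z : B), ι z ∈ I.map ι → z ∈ I := fun I z hz => by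
    rwa [← Ideal.comap_map_eq_self_of_faithfullyFlat (B := R L) I, Ideal.mem_comap]
  have lin : ∀ (z : R L), ∃ c : L, z - algebraMap L (R L) c ∈ M := fun z => by
    obtain ⟨Z, rfl⟩ := Ideal.Quotient.mk_surjective z
    exact ⟨constantCoeff Z, by rw [algebraMap_R, ← map_sub, mk_mem_max_iff]; simp⟩
  -- a generating pair
  obtain ⟨x, hx, hx2⟩ : ∃ x ∈ maximalIdeal B, ι x ∉ M ^ 2 := by
    by_contra hcon
    push Not at hcon
    exact not_principal_mod L 0 not_isUnit_zero
      ((hm.ge.trans (Ideal.map_le_iff_le_comap.2 (show maximalIdeal B ≤ (M ^ 2).comap ι from hcon))).trans le_sup_right)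
  obtain ⟨y, hy, hy2⟩ : ∃ y ∈ maximalIdeal B, ι y ∉ Ideal.span {ι x} ⊔ M ^ 2 := by
    by_contra hcon
    push Not at hcon
    exact not_principal_mod L (ι x) ((IsLocalRing.mem_maximalIdeal _).1 (hι x hx))
      (hm.ge.trans (Ideal.map_le_iff_le_comap.2 (show maximalIdeal B ≤ (Ideal.span {ι x} ⊔ M ^ 2).comap ι from hcon)))
  obtain ⟨α, β, hxc⟩ := exists_coords L (ι x) (hι x hx)
  obtain ⟨γ, δ, hyc⟩ := exists_coords L (ι y) (hι y hy)
  let a := algebraMap L (R L)
  let Xb := Ideal.Quotient.mk (Ideal.span {xy L}) (X 0)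
  let Yb := Ideal.Quotient.mk (Ideal.span {xy L}) (X 1)
  have hdet : α * δ - β * γ ≠ 0 := by
    intro h0
    obtain ⟨s, hs1, hs2⟩ : ∃ s : L, γ = s * α ∧ δ = s * β := by
      by_cases hα : α = 0
      · have hβ : β ≠ 0 := fun hβ => hx2 (by simpa [hα, hβ, M] using hxc)
        refine ⟨δ / β, ?_, (div_mul_cancel₀ _ hβ).symm⟩
        rw [hα] at h0 ⊢
        simpa [hβ] using h0
      · refine ⟨γ / α, (div_mul_cancel₀ _ hα).symm, ?_⟩
        field_simp
        linear_combination h0
    refine hy2 ?_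
    rw [show ι y = a s * ι x + ((ι y - (a γ * Xb + a δ * Yb)) - a s * (ι x - (a α * Xb + a β * Yb))) by
      simp only [hs1, hs2, a, map_mul]; ring]
    exact Submodule.add_mem_sup (Ideal.mul_mem_left _ _ (Ideal.mem_span_singleton_self _))
      (sub_mem hyc (Ideal.mul_mem_left _ _ hxc))
  have hgen : maximalIdeal B = Ideal.span {x, y} := by
    refine le_antisymm (Submodule.le_of_le_smul_of_le_jacobson_bot (IsNoetherian.noetherian _)
      (maximalIdeal_le_jacobson _) fun z hz => ?_) (Ideal.span_le.2 (Set.pair_subset hx hy))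
    rw [smul_eq_mul, ← pow_two]
    apply hc
    rw [Ideal.map_sup, Ideal.map_span, Set.image_pair, hMpow]
    obtain ⟨p, q, hzc⟩ := exists_coords L (ι z) (hι z hz)
    obtain ⟨s, t, e1, e2⟩ : ∃ s t : L, s * α + t * γ = p ∧ s * β + t * δ = q := by
      refine ⟨(p * δ - q * γ) / (α * δ - β * γ), (q * α - p * β) / (α * δ - β * γ), ?_, ?_⟩ <;>
        rw [div_mul_eq_mul_div, div_mul_eq_mul_div, ← add_div, div_eq_iff hdet] <;> ring
    subst e1 e2
    rw [show ι z = (a s * ι x + a t * ι y) + ((ι z - (a (s * α + t * γ) * Xb + a (s * β + t * δ) * Yb)) -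
        a s * (ι x - (a α * Xb + a β * Yb)) - a t * (ι y - (a γ * Xb + a δ * Yb))) by
      simp only [a, map_add, map_mul]
      ring]
    exact Submodule.add_mem_sup (add_mem (Ideal.mul_mem_left _ _ (Ideal.subset_span (by simp)))
      (Ideal.mul_mem_left _ _ (Ideal.subset_span (by simp))))
      (sub_mem (sub_mem hzc (Ideal.mul_mem_left _ _ hxc)) (Ideal.mul_mem_left _ _ hyc))
  -- products modulo the cube
  have hquad : ∀ u v u₁ u₂ v₁ v₂, u ∈ M → v ∈ M → u - (a u₁ * Xb + a u₂ * Yb) ∈ M ^ 2 →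
      v - (a v₁ * Xb + a v₂ * Yb) ∈ M ^ 2 →
      u * v - (a (u₁ * v₁) * Xb ^ 2 + a (u₂ * v₂) * Yb ^ 2) ∈ M ^ 3 := by
    intro u v u₁ u₂ v₁ v₂ hu hv h1 h2
    rw [show u * v - (a (u₁ * v₁) * Xb ^ 2 + a (u₂ * v₂) * Yb ^ 2) = (u - (a u₁ * Xb + a u₂ * Yb)) * v +
      (a u₁ * Xb + a u₂ * Yb) * (v - (a v₁ * Xb + a v₂ * Yb)) +
      (a u₁ * a v₂ + a u₂ * a v₁) * (Xb * Yb) by simp only [a, map_mul]; ring]
    refine add_mem (add_mem (pow_succ M 2 ▸ Ideal.mul_mem_mul h1 hv) ?_) ?_
    · rw [pow_succ']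
      exact Ideal.mul_mem_mul (add_mem (Ideal.mul_mem_left _ _ (Xb_mem L)) (Ideal.mul_mem_left _ _ (Yb_mem L))) h2
    · show _ * (Ideal.Quotient.mk _ (X 0) * Ideal.Quotient.mk _ (X 1)) ∈ _
      rw [Xb_mul_Yb, mul_zero]
      exact zero_mem _
  have hxx := hquad _ _ _ _ _ _ (hι x hx) (hι x hx) hxc hxc
  have hxy := hquad _ _ _ _ _ _ (hι x hx) (hι y hy) hxc hyc
  have hyy := hquad _ _ _ _ _ _ (hι y hy) (hι y hy) hyc hyc
  have lift : ∀ (u v w : B) (s t : L), ι w - (a s * ι u + a t * ι v) ∈ M ^ 3 →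
      ∃ p q : K, w - (algebraMap K B p * u + algebraMap K B q * v) ∈ Ideal.span {u, v} * maximalIdeal B ⊔
        maximalIdeal B ^ 3 := by
    intro u v w s t h
    have hw : w ∈ Ideal.span {u, v} ⊔ maximalIdeal B ^ 3 := hc _ _ (by
      rw [Ideal.map_sup, Ideal.map_span, Set.image_pair, hMpow,
        show ι w = (a s * ι u + a t * ι v) + (ι w - (a s * ι u + a t * ι v)) by ring]
      exact Submodule.add_mem_sup (add_mem (Ideal.mul_mem_left _ _ (Ideal.subset_span (by simp)))
        (Ideal.mul_mem_left _ _ (Ideal.subset_span (by simp)))) h)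
    obtain ⟨w₁, hw₁, w₂, hw₂, rfl⟩ := Submodule.mem_sup.1 hw
    obtain ⟨f, g, rfl⟩ := Ideal.mem_span_pair.1 hw₁
    obtain ⟨p, hp⟩ := hK f
    obtain ⟨q, hq⟩ := hK g
    refine ⟨p, q, ?_⟩
    rw [show f * u + g * v + w₂ - (algebraMap K B p * u + algebraMap K B q * v) =
      (u * (f - algebraMap K B p) + v * (g - algebraMap K B q)) + w₂ by ring]
    exact Submodule.add_mem_sup (add_mem (Ideal.mul_mem_mul (Ideal.subset_span (by simp)) hp)
      (Ideal.mul_mem_mul (Ideal.subset_span (by simp)) hq)) hw₂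
  have hsq : ∀ u ∈ maximalIdeal B, ∀ v ∈ maximalIdeal B, u * v ∈ maximalIdeal B ^ 2 := fun u hu v hv => by
    rw [pow_two]; exact Ideal.mul_mem_mul hu hv
  -- generators are never deep
  have hdeep : ∀ u v : B, maximalIdeal B = Ideal.span {u, v} → ∀ n : ℕ, u ^ n ∉ maximalIdeal B ^ (n + 1) := by
    intro u v huv n h
    rcases Nat.eq_zero_or_pos n with rfl | hn
    · rw [pow_zero, zero_add, pow_one] at h
      exact (maximalIdeal.isMaximal B).ne_top ((Ideal.eq_top_iff_one _).2 h)
    have hu : u ∈ maximalIdeal B := huv ▸ Ideal.subset_span (by simp)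
    have h1 : ι u ∈ M ^ 2 := mem_sq_of_pow_mem L hn (hι u hu) (by
      rw [← map_pow, ← hMpow]; exact Ideal.mem_map_of_mem _ h)
    refine not_principal_mod L (ι v) ((IsLocalRing.mem_maximalIdeal _).1 (hι v (huv.ge (Ideal.subset_span (by simp))))) ?_
    conv_lhs => rw [← hm, huv]
    rw [Ideal.map_span, Set.image_pair, Ideal.span_le, Set.pair_subset_iff]
    exact ⟨Ideal.mem_sup_right h1, Ideal.mem_sup_left (Ideal.mem_span_singleton_self _)⟩
  -- factor a quadratic relation
  have factor : ∀ (u v : B) (c₂ c₁ c₀ : K), maximalIdeal B = Ideal.span {u, v} → c₂ ≠ 0 →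
      algebraMap K B c₂ * u ^ 2 + algebraMap K B c₁ * (u * v) + algebraMap K B c₀ * v ^ 2 ∈ maximalIdeal B ^ 3 →
      NodeCrit B := by
    intro u v c₂ c₁ c₀ huv hc₂ h
    have hu : u ∈ maximalIdeal B := huv ▸ Ideal.subset_span (by simp)
    have hv : v ∈ maximalIdeal B := huv ▸ Ideal.subset_span (by simp)
    obtain ⟨r, hr⟩ := IsAlgClosed.exists_root
      (Polynomial.C c₂ * Polynomial.X ^ 2 + Polynomial.C c₁ * Polynomial.X + Polynomial.C c₀)
      (by rw [Polynomial.degree_quadratic hc₂]; decide)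
    simp [Polynomial.IsRoot] at hr
    let f := algebraMap K B
    let u' := u - f r * v
    let v' := f c₂ * u + f (c₁ + c₂ * r) * v
    have hprod : u' * v' = f c₂ * u ^ 2 + f c₁ * (u * v) + f c₀ * v ^ 2 := by
      rw [show c₀ = -(c₂ * r ^ 2 + c₁ * r) by linear_combination hr]
      simp only [u', v', f, map_add, map_mul, map_neg, map_pow]
      ring
    have hne : c₁ + 2 * c₂ * r ≠ 0 := by
      intro h0
      have hv' : v' = f c₂ * u' := by
        rw [show v' = f c₂ * u + f (c₁ + c₂ * r) * v from rfl, show c₁ + c₂ * r = -(c₂ * r) by linear_combination h0]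
        simp only [u', f, map_neg, map_mul]
        ring
      have h2 : u' ^ 2 ∈ maximalIdeal B ^ (2 + 1) := by
        rw [pow_two]
        refine (Ideal.unit_mul_mem_iff_mem _ ((isUnit_iff_ne_zero.2 hc₂).map f)).1 ?_
        rw [show f c₂ * (u' * u') = u' * v' by rw [hv']; ring, hprod]
        exact h
      refine hdeep u' v ?_ 2 h2
      rw [huv]
      refine le_antisymm (Ideal.span_le.2 (Set.pair_subset ?_ (Ideal.subset_span (by simp))))
        (Ideal.span_le.2 (Set.pair_subset ?_ (Ideal.subset_span (by simp))))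
      · exact Ideal.mem_span_pair.2 ⟨1, f r, by simp only [u']; ring⟩
      · exact Ideal.mem_span_pair.2 ⟨1, -f r, by simp only [u']; ring⟩
    have hspan : maximalIdeal B = Ideal.span {u', v'} := by
      refine le_antisymm ?_ (Ideal.span_le.2 (Set.pair_subset (sub_mem hu (Ideal.mul_mem_left _ _ hv))
        (add_mem (Ideal.mul_mem_left _ _ hu) (Ideal.mul_mem_left _ _ hv))))
      rw [huv, Ideal.span_le, Set.pair_subset_iff]
      have e : f (c₁ + 2 * c₂ * r)⁻¹ * f (c₁ + 2 * c₂ * r) = 1 := by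
        rw [← map_mul, inv_mul_cancel₀ hne, map_one]
      have hvm : v ∈ Ideal.span {u', v'} := Ideal.mem_span_pair.2
        ⟨-(f (c₁ + 2 * c₂ * r)⁻¹ * f c₂), f (c₁ + 2 * c₂ * r)⁻¹, by
          calc _ = f (c₁ + 2 * c₂ * r)⁻¹ * f (c₁ + 2 * c₂ * r) * v := by
                simp only [u', v', f, map_add, map_mul, map_ofNat]; ring
            _ = v := by rw [e, one_mul]⟩
      refine ⟨?_, hvm⟩
      rw [show u = u' + f r * v by simp only [u']; ring]
      exact add_mem (Ideal.subset_span (by simp)) (Ideal.mul_mem_left _ _ hvm)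
    exact ⟨u', v', hspan, hprod ▸ h, fun n => ⟨hdeep u' v' hspan n, hdeep v' u' (Set.pair_comm v' u' ▸ hspan) n⟩⟩
  have hcube : ∀ u ∈ maximalIdeal B ^ 2, ∀ v ∈ maximalIdeal B ^ 2,
      Ideal.span {u, v} * maximalIdeal B ⊔ maximalIdeal B ^ 3 ≤ maximalIdeal B ^ 3 := fun u hu v hv => by
    refine sup_le ?_ le_rfl
    rw [pow_succ]
    exact Ideal.mul_mono_left (Ideal.span_le.2 (Set.pair_subset hu hv))
  by_cases hD : α ^ 2 * δ ^ 2 - β ^ 2 * γ ^ 2 = 0
  · -- then `y²` is a multiple of `x²`
    have hplus : α * δ = -(β * γ) := by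
      have : (α * δ - β * γ) * (α * δ + β * γ) = 0 := by linear_combination hD
      linear_combination (mul_eq_zero.1 this).resolve_left hdet
    have hαβ : α * β ≠ 0 := by
      intro h0
      rcases mul_eq_zero.1 h0 with rfl | rfl
      · exact hdet (by linear_combination -(hplus))
      · exact hdet (by linear_combination hplus)
    have e1 : γ * γ = (-(γ * δ) / (α * β)) * (α * α) := by
      rw [div_mul_eq_mul_div, eq_div_iff hαβ]; linear_combination γ * α * hplus
    have e2 : δ * δ = (-(γ * δ) / (α * β)) * (β * β) := by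
      rw [div_mul_eq_mul_div, eq_div_iff hαβ]; linear_combination δ * β * hplus
    obtain ⟨p, q, hpq⟩ := lift (x * x) (x * x) (y * y) (-(γ * δ) / (α * β)) 0 (by
      simp only [a, map_zero, zero_mul, add_zero, map_mul]
      rw [show ι y * ι y - algebraMap L (R L) (-(γ * δ) / (α * β)) * (ι x * ι x) =
        (ι y * ι y - (a (γ * γ) * Xb ^ 2 + a (δ * δ) * Yb ^ 2)) - algebraMap L (R L) (-(γ * δ) / (α * β)) *
          (ι x * ι x - (a (α * α) * Xb ^ 2 + a (β * β) * Yb ^ 2)) by
          rw [e1, e2]; simp only [a, map_mul]; ring]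
      exact sub_mem hyy (Ideal.mul_mem_left _ _ hxx))
    refine factor y x 1 0 (-(p + q)) (Set.pair_comm x y ▸ hgen) one_ne_zero ?_
    have := hcube _ (hsq x hx x hx) _ (hsq x hx x hx) hpq
    simp only [map_zero, map_one, map_neg, map_add] at this ⊢
    convert this using 1
    ring
  · have e1 : α * γ = (γ * δ * (α * δ - β * γ) / (α ^ 2 * δ ^ 2 - β ^ 2 * γ ^ 2)) * (α * α) +
        (α * β * (α * δ - β * γ) / (α ^ 2 * δ ^ 2 - β ^ 2 * γ ^ 2)) * (γ * γ) := by
      rw [div_mul_eq_mul_div, div_mul_eq_mul_div, ← add_div, eq_div_iff hD]; ring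
    have e2 : β * δ = (γ * δ * (α * δ - β * γ) / (α ^ 2 * δ ^ 2 - β ^ 2 * γ ^ 2)) * (β * β) +
        (α * β * (α * δ - β * γ) / (α ^ 2 * δ ^ 2 - β ^ 2 * γ ^ 2)) * (δ * δ) := by
      rw [div_mul_eq_mul_div, div_mul_eq_mul_div, ← add_div, eq_div_iff hD]; ring
    obtain ⟨p, q, hpq⟩ := lift (x * x) (y * y) (x * y) (γ * δ * (α * δ - β * γ) / (α ^ 2 * δ ^ 2 - β ^ 2 * γ ^ 2))
      (α * β * (α * δ - β * γ) / (α ^ 2 * δ ^ 2 - β ^ 2 * γ ^ 2)) (by
      simp only [map_mul]
      rw [show ι x * ι y - (a (γ * δ * (α * δ - β * γ) / (α ^ 2 * δ ^ 2 - β ^ 2 * γ ^ 2)) * (ι x * ι x) +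
          a (α * β * (α * δ - β * γ) / (α ^ 2 * δ ^ 2 - β ^ 2 * γ ^ 2)) * (ι y * ι y)) =
        (ι x * ι y - (a (α * γ) * Xb ^ 2 + a (β * δ) * Yb ^ 2)) -
          a (γ * δ * (α * δ - β * γ) / (α ^ 2 * δ ^ 2 - β ^ 2 * γ ^ 2)) *
            (ι x * ι x - (a (α * α) * Xb ^ 2 + a (β * β) * Yb ^ 2)) -
          a (α * β * (α * δ - β * γ) / (α ^ 2 * δ ^ 2 - β ^ 2 * γ ^ 2)) *
            (ι y * ι y - (a (γ * γ) * Xb ^ 2 + a (δ * δ) * Yb ^ 2)) by
          rw [show a (α * γ) = a _ from congrArg a e1, show a (β * δ) = a _ from congrArg a e2]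
          simp only [a, map_mul, map_add]; ring]
      exact sub_mem (sub_mem hxy (Ideal.mul_mem_left _ _ hxx)) (Ideal.mul_mem_left _ _ hyy))
    have h := hcube _ (hsq x hx x hx) _ (hsq y hy y hy) hpq
    by_cases hp : p = 0
    · by_cases hq : q = 0
      · exact ⟨x, y, hgen, by simpa [hp, hq] using h,
          fun n => ⟨hdeep x y hgen n, hdeep y x (Set.pair_comm x y ▸ hgen) n⟩⟩
      · refine factor y x (-q) 1 (-p) (Set.pair_comm x y ▸ hgen) (neg_ne_zero.2 hq) ?_
        simp only [map_one, map_neg] at h ⊢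
        convert h using 1
        ring
    · refine factor x y (-p) 1 (-q) hgen (neg_ne_zero.2 hp) ?_
      simp only [map_one, map_neg] at h ⊢
      convert h using 1
      ring

/-- A series not divisible by `Y` is a power of `X` times a unit, modulo `Y`. -/
theorem exists_normal_form {L : Type u} [Field L] (i j : Fin 2) (hij : i ≠ j) (d : ℕ) :
    ∀ F : MvPowerSeries (Fin 2) L, coeff (single i d) F ≠ 0 →
      ∃ (m : ℕ) (U V : MvPowerSeries (Fin 2) L), IsUnit U ∧ F = X i ^ m * U + X j * V := by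
  have h0 : ∀ F : MvPowerSeries (Fin 2) L, constantCoeff F ≠ 0 →
      ∃ (m : ℕ) (U V : MvPowerSeries (Fin 2) L), IsUnit U ∧ F = X i ^ m * U + X j * V := fun F hF =>
    ⟨0, F, 0, by rw [MvPowerSeries.isUnit_iff_constantCoeff, isUnit_iff_ne_zero]; exact hF, by simp⟩
  induction d with
  | zero => exact fun F hF => h0 F (by simpa [coeff_zero_eq_constantCoeff] using hF)
  | succ d ih =>
    intro F hF
    by_cases hc : constantCoeff F = 0
    swap
    · exact h0 F hc
    have hFm : F ∈ Ideal.span ({X i, X j} : Set (MvPowerSeries (Fin 2) L)) := by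
      have he : ({X i, X j} : Set (MvPowerSeries (Fin 2) L)) = {X 0, X 1} := by
        fin_cases i <;> fin_cases j <;> first | exact absurd rfl hij | rfl | exact Set.pair_comm _ _
      rw [he, ← maximalIdeal_P, IsLocalRing.mem_maximalIdeal, mem_nonunits_iff,
        MvPowerSeries.isUnit_iff_constantCoeff, hc]
      exact not_isUnit_zero
    obtain ⟨G, H, rfl⟩ := Ideal.mem_span_pair.1 hFm
    have h1 : coeff (single i (d + 1)) (H * X j) = 0 :=
      X_dvd_iff.1 (dvd_mul_left _ _) _ (Finsupp.single_eq_of_ne hij.symm)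
    have h2 : coeff (single i (d + 1)) (G * X i) = coeff (single i d) G := by
      rw [mul_comm, X_def, show (single i (d + 1) : Fin 2 →₀ ℕ) = single i 1 + single i d by
        rw [← Finsupp.single_add, add_comm 1 d], coeff_add_monomial_mul, one_mul]
    rw [map_add, h1, add_zero, h2] at hF
    obtain ⟨m, U, V, hU, rfl⟩ := ih G hF
    exact ⟨m + 1, U, V * X i + H, hU, by ring⟩

/-- The criterion gives an ordinary double point. -/
theorem isOrdDoublePt_of_crit {K B : Type u} [Field K] [CommRing B] [IsLocalRing B] [IsNoetherianRing B]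
    [Algebra K B] (hK : ∀ z : B, ∃ c : K, z - algebraMap K B c ∈ maximalIdeal B) (h : NodeCrit B) :
    Curv2.IsOrdDoublePt K B := by
  obtain ⟨hCl, hCn, hCh, hCm, hCr⟩ :=
    CohenLib.completion_facts B (maximalIdeal B) (maximalIdeal.isMaximal B).ne_top
  let C' := AdicCompletion (maximalIdeal B) B
  haveI : Module.Flat B C' := AdicCompletion.flat_of_isNoetherian _
  haveI : Module.FaithfullyFlat B C' := Module.FaithfullyFlat.of_flat_of_isLocalHom
  haveI : IsAdicComplete (maximalIdeal C') C' := by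
    rw [← hCm]
    exact AdicCompletion.isAdicComplete_self _ (IsNoetherian.noetherian _)
  obtain ⟨a, b, hab, hp, hn⟩ := h.map (B' := C') hCm
  let M := maximalIdeal C'
  have ha : a ∈ M := hab.ge (Ideal.subset_span (by simp))
  have hb : b ∈ M := hab.ge (Ideal.subset_span (by simp))
  have key : ∀ (x y : C'), Ideal.span {x, y} = M → ∀ n : ℕ, M ^ (n + 2) ≤
      Ideal.span {x ^ (n + 2), y ^ (n + 2)} ⊔ Ideal.span {x * y} * M ^ n := by
    intro x y hxy n
    have hmul : ∀ {I : Ideal C'} {p q : C'} {J : Ideal C'}, p * x ∈ J → p * y ∈ J → q ∈ M → I = Ideal.span {p} →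
        p * q ∈ J := fun {I p q J} h1 h2 hq _ => by
      obtain ⟨s, t, rfl⟩ := Ideal.mem_span_pair.1 (hxy.symm ▸ hq : q ∈ Ideal.span {x, y})
      rw [show p * (s * x + t * y) = s * (p * x) + t * (p * y) by ring]
      exact add_mem (Ideal.mul_mem_left _ _ h1) (Ideal.mul_mem_left _ _ h2)
    induction n with
    | zero =>
      rw [pow_zero, Ideal.one_eq_top, Ideal.mul_top, zero_add, pow_two]
      conv_lhs => rw [← hxy, Ideal.span_mul_span']
      rw [Ideal.span_le]
      rintro _ ⟨p, hp, q, hq, rfl⟩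
      rcases hp with rfl | rfl <;> rcases hq with rfl | rfl
      · exact Ideal.mem_sup_left (Ideal.subset_span (Or.inl (pow_two _).symm))
      · exact Ideal.mem_sup_right (Ideal.mem_span_singleton_self _)
      · exact Ideal.mem_sup_right (mul_comm _ p ▸ Ideal.mem_span_singleton_self _)
      · exact Ideal.mem_sup_left (Ideal.subset_span (Or.inr (pow_two _).symm))
    | succ n ih =>
      rw [show n + 1 + 2 = (n + 2) + 1 by ring, pow_succ M]
      refine (Ideal.mul_mono_left ih).trans ?_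
      rw [Ideal.sup_mul, mul_assoc, ← pow_succ M n]
      refine sup_le ?_ le_sup_right
      refine Ideal.mul_le.2 fun r hr q hq => ?_
      obtain ⟨s, t, rfl⟩ := Ideal.mem_span_pair.1 hr
      rw [add_mul, mul_assoc, mul_assoc]
      have hxM : x ∈ M := hxy ▸ Ideal.subset_span (by simp)
      have hyM : y ∈ M := hxy ▸ Ideal.subset_span (by simp)
      refine add_mem (Ideal.mul_mem_left _ _ (hmul (I := Ideal.span {x ^ (n + 2)}) ?_ ?_ hq rfl))
        (Ideal.mul_mem_left _ _ (hmul (I := Ideal.span {y ^ (n + 2)}) ?_ ?_ hq rfl))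
      · exact Ideal.mem_sup_left (Ideal.subset_span (Or.inl (pow_succ x _).symm))
      · refine Ideal.mem_sup_right ?_
        rw [show x ^ (n + 2) * y = (x * y) * x ^ (n + 1) by ring]
        exact Ideal.mul_mem_mul (Ideal.mem_span_singleton_self _) (Ideal.pow_mem_pow hxM _)
      · refine Ideal.mem_sup_right ?_
        rw [show y ^ (n + 2) * x = (x * y) * y ^ (n + 1) by ring]
        exact Ideal.mul_mem_mul (Ideal.mem_span_singleton_self _) (Ideal.pow_mem_pow hyM _)
      · exact Ideal.mem_sup_left (Ideal.subset_span (Or.inr (pow_succ y _).symm))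
  have hspan : ∀ x y : C', x - a ∈ M ^ 2 → y - b ∈ M ^ 2 → Ideal.span {x, y} = M := by
    intro x y h1 h2
    refine le_antisymm (Ideal.span_le.2 (Set.pair_subset ?_ ?_)) ?_
    · rw [← sub_add_cancel x a]; exact add_mem (Ideal.pow_le_self two_ne_zero h1) ha
    · rw [← sub_add_cancel y b]; exact add_mem (Ideal.pow_le_self two_ne_zero h2) hb
    · refine Submodule.le_of_le_smul_of_le_jacobson_bot (IsNoetherian.noetherian _) (maximalIdeal_le_jacobson _) ?_
      conv_lhs => rw [show M = Ideal.span {a, b} from hab]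
      rw [Ideal.span_le, Set.pair_subset_iff, smul_eq_mul, ← pow_two]
      constructor
      · rw [← sub_sub_cancel x a]
        exact sub_mem (Ideal.mem_sup_left (Ideal.subset_span (by simp))) (Ideal.mem_sup_right h1)
      · rw [← sub_sub_cancel y b]
        exact sub_mem (Ideal.mem_sup_left (Ideal.subset_span (by simp))) (Ideal.mem_sup_right h2)
  let P : ℕ → C' × C' → Prop := fun n s => s.1 - a ∈ M ^ 2 ∧ s.2 - b ∈ M ^ 2 ∧ s.1 * s.2 ∈ M ^ (n + 3)
  have step : ∀ n s, P n s → ∃ t, P (n + 1) t ∧ t.1 - s.1 ∈ M ^ (n + 1) ∧ t.2 - s.2 ∈ M ^ (n + 1) := by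
    rintro n ⟨x, y⟩ ⟨h1, h2, h3⟩
    have hxy := hspan x y h1 h2
    have hxM : x ∈ M := hxy ▸ Ideal.subset_span (by simp)
    have hyM : y ∈ M := hxy ▸ Ideal.subset_span (by simp)
    obtain ⟨u, hu, w, hw, huw⟩ := Submodule.mem_sup.1 (key x y hxy (n + 1) h3)
    obtain ⟨α, β, rfl⟩ := Ideal.mem_span_pair.1 hu
    have hinc : β * y ^ (n + 2) ∈ M ^ (n + 2) ∧ α * x ^ (n + 2) ∈ M ^ (n + 2) :=
      ⟨Ideal.mul_mem_left _ _ (Ideal.pow_mem_pow hyM _), Ideal.mul_mem_left _ _ (Ideal.pow_mem_pow hxM _)⟩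
    refine ⟨(x - β * y ^ (n + 2), y - α * x ^ (n + 2)), ⟨?_, ?_, ?_⟩, ?_, ?_⟩
    · show x - β * y ^ (n + 2) - a ∈ _
      rw [sub_right_comm]; exact sub_mem h1 (Ideal.pow_le_pow_right (by omega) hinc.1)
    · show y - α * x ^ (n + 2) - b ∈ _
      rw [sub_right_comm]; exact sub_mem h2 (Ideal.pow_le_pow_right (by omega) hinc.2)
    · show (x - β * y ^ (n + 2)) * (y - α * x ^ (n + 2)) ∈ _
      rw [show (x - β * y ^ (n + 2)) * (y - α * x ^ (n + 2)) = (x * y - (α * x ^ (n + 1 + 2) + β * y ^ (n + 1 + 2))) +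
        (β * y ^ (n + 2)) * (α * x ^ (n + 2)) by ring]
      refine add_mem ?_ ?_
      · rw [show x * y - (α * x ^ (n + 1 + 2) + β * y ^ (n + 1 + 2)) = w by rw [← huw]; ring]
        refine Ideal.pow_le_pow_right (show n + 1 + 3 ≤ (n + 3) + (n + 1) by omega) ?_
        rw [pow_add]
        exact Ideal.mul_mono_left ((Ideal.span_singleton_le_iff_mem _).2 h3) hw
      · refine Ideal.pow_le_pow_right (show n + 1 + 3 ≤ (n + 2) + (n + 2) by omega) ?_
        rw [pow_add]
        exact Ideal.mul_mem_mul hinc.1 hinc.2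
    · show x - β * y ^ (n + 2) - x ∈ _
      simpa using neg_mem (Ideal.pow_le_pow_right (show n + 1 ≤ n + 2 by omega) hinc.1)
    · show y - α * x ^ (n + 2) - y ∈ _
      simpa using neg_mem (Ideal.pow_le_pow_right (show n + 1 ≤ n + 2 by omega) hinc.2)
  choose next hnext using step
  let seq : ∀ n, { s : C' × C' // P n s } := fun n => Nat.rec
    ⟨(a, b), by simp, by simp, hp⟩ (fun m s => ⟨next m s.1 s.2, (hnext m s.1 s.2).1⟩) n
  obtain ⟨x, hx, -⟩ := NodeCplLib.exists_limit M le_rfl (fun n => (seq n).1.1)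
    fun n => (hnext n (seq n).1 (seq n).2).2.1
  obtain ⟨y, hy, -⟩ := NodeCplLib.exists_limit M le_rfl (fun n => (seq n).1.2)
    fun n => (hnext n (seq n).1 (seq n).2).2.2
  have hxa : x - a ∈ M ^ 2 := by
    rw [show x - a = (x - (seq 2).1.1) + ((seq 2).1.1 - a) by ring]; exact add_mem (hx 2) (seq 2).2.1
  have hyb : y - b ∈ M ^ 2 := by
    rw [show y - b = (y - (seq 2).1.2) + ((seq 2).1.2 - b) by ring]; exact add_mem (hy 2) (seq 2).2.2.1
  have hxy := hspan x y hxa hyb
  have hrel : x * y = 0 := by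
    refine IsHausdorff.haus (I := M) inferInstance _ fun n => ?_
    rw [SModEq.zero, smul_eq_mul, Ideal.mul_top,
      show x * y = (x - (seq n).1.1) * y + (seq n).1.1 * (y - (seq n).1.2) + (seq n).1.1 * (seq n).1.2 by ring]
    exact add_mem (add_mem (Ideal.mul_mem_right _ _ (hx n)) (Ideal.mul_mem_left _ _ (hy n)))
      (Ideal.pow_le_pow_right (by omega) (seq n).2.2.2)
  have hM : ∀ i, ![x, y] i ∈ M := by
    intro i; fin_cases i <;> exact hxy ▸ Ideal.subset_span (by simp)
  let g : K →+* C' := (algebraMap B C').comp (algebraMap K B)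
  let Φ := CohenLib.psHom M g ![x, y] hM
  have hX : ∀ i, Φ (X i) = ![x, y] i := CohenLib.psHom_X _ _ _ _
  have hC : ∀ c, Φ (MvPowerSeries.C c) = g c := CohenLib.psHom_C _ _ _ _
  haveI := CohenLib.isAdicComplete_varsIdeal (Λ := K) (n := 2)
  have hI : (CohenLib.varsIdeal K 2).map Φ = M := by
    rw [← CohenLib.maximalIdeal_mvPowerSeries_field, maximalIdeal_P, Ideal.map_span, Set.image_pair, hX, hX]
    exact hxy
  have hsurj : Function.Surjective Φ := CohenLib.surjective_of_complete M (CohenLib.varsIdeal K 2) Φ hI fun r => by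
    obtain ⟨z, hz⟩ := hCr r
    obtain ⟨c, hc⟩ := hK z
    refine ⟨MvPowerSeries.C c, ?_⟩
    rw [hC, show r - g c = (r - algebraMap B C' z) + algebraMap B C' (z - algebraMap K B c) by
      simp only [g, RingHom.comp_apply, map_sub]; ring]
    exact add_mem hz (hCm.le (Ideal.mem_map_of_mem _ hc))
  have hker : ∀ F, Φ F = 0 → F ∈ Ideal.span {xy K} := by
    intro F hF
    rw [Ideal.mem_span_singleton, xy_dvd_iff]
    have main : ∀ i j : Fin 2, i ≠ j → (X j : MvPowerSeries (Fin 2) K) ∣ F := by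
      intro i j hij
      by_contra hnd
      rw [X_dvd_iff] at hnd
      push Not at hnd
      obtain ⟨e, hej, he⟩ := hnd
      have : e = single i (e i) := by
        ext l
        by_cases hl : l = i
        · subst hl; simp
        · have : l = j := by fin_cases i <;> fin_cases j <;> fin_cases l <;> simp_all
          subst this
          rw [hej, Finsupp.single_eq_of_ne hl]
      rw [this] at he
      obtain ⟨m, U, V, hU, rfl⟩ := exists_normal_form i j hij _ F he
      have h1 : ![x, y] i ^ (m + 1) * Φ U = 0 := by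
        have h2 : ![x, y] i * Φ (X i ^ m * U + X j * V) = 0 := by rw [hF, mul_zero]
        rw [map_add, map_mul, map_mul, map_pow, hX, hX] at h2
        have h3 : ![x, y] i * ![x, y] j = 0 := by
          fin_cases i <;> fin_cases j <;> first | exact absurd rfl hij | exact hrel | exact (mul_comm y x).trans hrel
        rw [← h2, pow_succ', mul_add, ← mul_assoc (![x, y] i) (![x, y] j), h3, zero_mul, add_zero, mul_assoc]
      have h4 : ![x, y] i ^ (m + 1) = 0 := (hU.map Φ).mul_left_eq_zero.1 h1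
      have h5 : ∀ p q : C', p - q ∈ M ^ 2 → q ∈ M → p ^ (m + 1) = 0 → q ^ (m + 1) ∈ M ^ (m + 1 + 1) := by
        intro p q hpq hq hp0
        have hp' : p ∈ M := by rw [← sub_add_cancel p q]; exact add_mem (Ideal.pow_le_self two_ne_zero hpq) hq
        have : ∀ l : ℕ, p ^ (l + 1) - q ^ (l + 1) ∈ M ^ (l + 2) := by
          intro l
          induction l with
          | zero => simpa using hpq
          | succ l ih =>
            rw [show p ^ (l + 1 + 1) - q ^ (l + 1 + 1) = (p ^ (l + 1) - q ^ (l + 1)) * p + q ^ (l + 1) * (p - q) by ring]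
            refine add_mem ?_ ?_
            · rw [show l + 1 + 2 = (l + 2) + 1 by ring, pow_succ M]
              exact Ideal.mul_mem_mul ih hp'
            · rw [show l + 1 + 2 = (l + 1) + 2 by ring, pow_add]
              exact Ideal.mul_mem_mul (Ideal.pow_mem_pow hq _) hpq
        have := this m
        rwa [hp0, zero_sub, neg_mem_iff] at this
      fin_cases i
      · exact (hn (m + 1)).1 (h5 x a hxa ha h4)
      · exact (hn (m + 1)).2 (h5 y b hyb hb h4)
    exact ⟨main 1 0 (by decide), main 0 1 (by decide)⟩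
  let φ : R K →+* C' := Ideal.Quotient.lift _ Φ fun F hF => by
    obtain ⟨t, rfl⟩ := Ideal.mem_span_singleton.1 hF
    rw [map_mul, map_mul, hX, hX]
    show x * y * _ = 0
    rw [hrel, zero_mul]
  have hbij : Function.Bijective φ := by
    refine ⟨(injective_iff_map_eq_zero φ).2 fun r hr => ?_, fun r => ?_⟩
    · obtain ⟨F, rfl⟩ := Ideal.Quotient.mk_surjective r
      exact Ideal.Quotient.eq_zero_iff_mem.2 (hker F hr)
    · obtain ⟨F, hF⟩ := hsurj r
      exact ⟨Ideal.Quotient.mk _ F, hF⟩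
  refine ⟨(RingEquiv.ofBijective φ hbij).symm, fun c => ?_⟩
  rw [RingEquiv.symm_apply_eq]
  exact (hC c).symm

end NodalLib

end
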