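import Groth.Agent.NodalLib.NodalPt
import Groth.Agent.RichLib.LimitDescentFlat

/-!
# Nodal families descend along affine limits
-/

set_option autoImplicit false
set_option linter.style.haveILetI false
set_option linter.unusedSectionVars false
set_option maxHeartbeats 1000000
set_option synthInstance.maxHeartbeats 100000
set_option backward.isDefEq.respectTransparency false
set_option backward.isDefEq.respectTransparency.types false

universe u

open CategoryTheory CategoryTheory.Limits AlgebraicGeometry RichLib.LimBC

noncomputable section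

namespace NodalLib

/-- Nodal families as a property of morphisms. -/
def NodalMor : MorphismProperty Scheme.{u} := fun _ _ f => Curv2.IsNodalFamily f

instance : (NodalMor.{u}).RespectsIso := by
  have aux : ∀ {X Y : Scheme.{u}} (f : X ⟶ Y), Curv2.IsNodalFamily f → ∀ {P Q : Scheme.{u}} (a : P ⟶ X)
      (b : P ⟶ Q) (e : Q ⟶ Y), IsPullback a b f e → LocallyOfFinitePresentation f → Curv2.IsNodalFamily b := by
    intro X Y f hf P Q a b e h _
    obtain ⟨h1, h2, h3⟩ := (isNodalFamily_iff_pt f).1 hf
    exact (isNodalFamily_iff_pt b).2 ⟨MorphismProperty.of_isPullback h h1, MorphismProperty.of_isPullback h h2,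
      fun p => (nodalPt_baseChange f h p).2 (h3 _)⟩
  refine MorphismProperty.RespectsIso.mk _ (fun e f hf => ?_) (fun e f hf => ?_)
  · haveI := hf.2.1
    exact aux f hf e.hom (e.hom ≫ f) (𝟙 _) (IsPullback.of_horiz_isIso ⟨(Category.comp_id _).symm⟩) inferInstance
  · haveI := hf.2.1
    exact aux f hf (𝟙 _) (f ≫ e.hom) e.inv
      (IsPullback.of_horiz_isIso ⟨by rw [Category.id_comp, Category.assoc, e.hom_inv_id, Category.comp_id]⟩) inferInstance

theorem exists_at_nodal {I : Type u} [SmallCategory I] [IsCofiltered I] {S : Scheme.{u}} (A : Sys I S)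
    [CompactSpace S] {W : Scheme.{u}} (g : W ⟶ S) [CompactSpace W] [QuasiCompact g]
    [LocallyOfFinitePresentation g] (h : AtLim A g NodalMor) : ∃ i, At A g NodalMor i := by
  obtain ⟨hfl, -, hpt⟩ := (isNodalFamily_iff_pt _).1 h
  obtain ⟨i, hi⟩ := exists_at_flat A g hfl
  haveI : Flat (pullback.snd g (A.t i)) := hi
  let B := pb A g
  haveI : ∀ {k l : I} (a : k ⟶ l), IsAffineHom (B.D.map a) := fun a => B.affine_map a
  haveI : CompactSpace (B.D.obj i) := B.compactSpace_obj i
  let U : (B.D.obj i).Opens := ⟨_, isOpen_nodalPt (pullback.snd g (A.t i))⟩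
  obtain ⟨j, a, hj⟩ := exists_map_preimage_le_map_preimage B.D B.c B.hc (i := i) (U := ⊤) (V := U)
    isCompact_univ (fun w _ => (nodalPt_baseChange _ (isPullback_cone A g i) w).1 (hpt w))
  refine ⟨j, (isNodalFamily_iff_pt _).2 ⟨MorphismProperty.of_isPullback (isPullback_map A g a) hi, inferInstance,
    fun w => (nodalPt_baseChange _ (isPullback_map A g a) w).2 (hj (Set.mem_univ _))⟩⟩

end NodalLib

end
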