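import Groth.Agent.NodalLib.GeoQuad
import Groth.Agent.FittLib.Props
import Groth.Agent.CohenLib.SmoothPoint
import Mathlib.Algebra.MvPolynomial.PDeriv
import Mathlib.RingTheory.Kaehler.Basic

/-!
# The first Fitting ideal of differentials at a node

For a local algebra of a curve with separable residue field, the first Fitting ideal of the differentials is the maximal
ideal exactly at quadratic nodes.
-/

set_option autoImplicit false
set_option linter.style.haveILetI false
set_option linter.unusedSectionVars false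
set_option maxHeartbeats 1000000
set_option synthInstance.maxHeartbeats 100000

universe u

open IsLocalRing TensorProduct

noncomputable section

namespace NodalLib

variable {k : Type u} [Field k] {A : Type u} [CommRing A] [IsLocalRing A] [Algebra k A]

/-- With two generators, the first Fitting ideal is the ideal of coefficients of relations. -/
theorem fit_two_le_iff {M : Type u} [AddCommGroup M] [Module A M] (x : Fin 2 → M)
    (hx : Submodule.span A (Set.range x) = ⊤) (I : Ideal A) :
    Fitt.ideal A M 1 ≤ I ↔ ∀ z : Fin 2 → A, ∑ i, z i • x i = 0 → ∀ i, z i ∈ I := by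
  rw [FittLib.ideal_eq x hx, FittLib.J_le_iff]
  constructor
  · intro h z hz i
    have := h (fun _ => z) (fun _ => i) (fun _ => hz)
    simpa [FittLib.minor] using this
  · intro h z e hz
    rw [FittLib.minor, Matrix.det_fin_one]
    exact h _ (hz 0) _

/-- With more generators and no unit coefficients in relations, it lies in the square of the maximal ideal. -/
theorem fit_le_sq {M : Type u} [AddCommGroup M] [Module A M] {n : ℕ} (x : Fin n → M)
    (hx : Submodule.span A (Set.range x) = ⊤) (hn : 3 ≤ n)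
    (h : ∀ z : Fin n → A, ∑ i, z i • x i = 0 → ∀ i, z i ∈ maximalIdeal A) :
    Fitt.ideal A M 1 ≤ maximalIdeal A ^ 2 := by
  rw [FittLib.ideal_eq x hx, FittLib.J_le_iff]
  intro z e hz
  rw [FittLib.minor, Matrix.det_apply]
  refine Ideal.sum_mem _ fun σ _ => ?_
  refine zsmul_mem (Ideal.pow_le_pow_right (show 2 ≤ n - 1 by omega) ?_) _
  have h2 := Ideal.prod_mem_prod (s := Finset.univ) (I := fun _ : Fin (n - 1) => maximalIdeal A)
    (x := fun i => Matrix.of (fun a b => z b (e a)) (σ i) i) fun i _ => h _ (hz i) _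
  rwa [Finset.prod_const, Finset.card_univ, Fintype.card_fin] at h2

/-- Generators of the maximal ideal have differentials generating, for unramified residue field. -/
theorem span_dGen [Algebra.FormallyUnramified k (ResidueField A)] [Algebra.EssFiniteType k A] {ι : Type*} (x : ι → A)
    (hx : maximalIdeal A = Ideal.span (Set.range x)) :
    Submodule.span A (Set.range fun i => KaehlerDifferential.D k A (x i)) = ⊤ := by
  haveI : Module.Finite A Ω[A⁄k] := inferInstance
  let N := Submodule.span A (Set.range fun i => KaehlerDifferential.D k A (x i))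
  rw [← IsLocalRing.map_tensorProduct_mk_eq_top]
  refine eq_top_iff.2 fun w _ => ?_
  obtain ⟨c, rfl⟩ := (KaehlerDifferential.exact_kerCotangentToTensor_mapBaseChange k A (ResidueField A)
    residue_surjective w).1 (Subsingleton.elim _ _)
  obtain ⟨⟨z, hz⟩, rfl⟩ := Ideal.toCotangent_surjective _ c
  rw [KaehlerDifferential.kerCotangentToTensor_toCotangent]
  have hzm : z ∈ Ideal.span (Set.range x) := hx ▸ (show z ∈ maximalIdeal A from (residue_eq_zero_iff z).1 hz)
  suffices ∀ u ∈ Ideal.span (Set.range x), (1 : ResidueField A) ⊗ₜ[A] KaehlerDifferential.D k A u ∈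
      Submodule.map (TensorProduct.mk A (ResidueField A) Ω[A⁄k] 1)
        (Submodule.span A (Set.range fun i => KaehlerDifferential.D k A (x i))) from this z hzm
  intro z hzm
  refine Submodule.span_induction ?_ ⟨0, zero_mem _, by simp⟩ (fun u v _ _ hu hv => by
    rw [map_add, TensorProduct.tmul_add]; exact add_mem hu hv) ?_ hzm
  · rintro _ ⟨i, rfl⟩
    exact ⟨_, Submodule.subset_span ⟨i, rfl⟩, rfl⟩
  · intro a v hv hvN
    rw [smul_eq_mul, Derivation.leibniz, TensorProduct.tmul_add, TensorProduct.tmul_smul, TensorProduct.tmul_smul]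
    refine add_mem (Submodule.smul_mem _ a hvN) ?_
    have hv0 : residue A v = 0 := (residue_eq_zero_iff v).2 (hx ▸ hv)
    rw [TensorProduct.smul_tmul', Algebra.smul_def, show algebraMap A (ResidueField A) v = 0 from hv0, zero_mul,
      TensorProduct.zero_tmul]
    exact zero_mem _

/-- Sections of the residue field in the truncations. -/
theorem exists_section [Algebra.FormallySmooth k (ResidueField A)] {n : ℕ} (hn : n ≠ 0) :
    ∃ s : ResidueField A →ₐ[k] A ⧸ maximalIdeal A ^ n, ∀ a : A,
      Ideal.Quotient.mk _ a - s (residue A a) ∈ (maximalIdeal A).map (Ideal.Quotient.mk (maximalIdeal A ^ n)) := by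
  let I := (maximalIdeal A).map (Ideal.Quotient.mk (maximalIdeal A ^ n))
  have hI : IsNilpotent I := ⟨n, by
    rw [show I ^ n = (maximalIdeal A ^ n).map (Ideal.Quotient.mk (maximalIdeal A ^ n)) from (Ideal.map_pow _ _ n).symm,
      Ideal.map_quotient_self]
    rfl⟩
  let j : ResidueField A →ₐ[k] (A ⧸ maximalIdeal A ^ n) ⧸ I :=
    Ideal.Quotient.liftₐ (maximalIdeal A)
      ((Ideal.Quotient.mkₐ k I).comp (Ideal.Quotient.mkₐ k (maximalIdeal A ^ n))) fun a ha => by
        show Ideal.Quotient.mk I (Ideal.Quotient.mk _ a) = 0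
        rw [Ideal.Quotient.eq_zero_iff_mem]
        exact Ideal.mem_map_of_mem _ ha
  obtain ⟨s, hs⟩ := Algebra.FormallySmooth.exists_lift I hI j
  refine ⟨s, fun a => ?_⟩
  rw [← Ideal.Quotient.eq_zero_iff_mem, map_sub, sub_eq_zero]
  exact (AlgHom.congr_fun hs (residue A a)).symm

/-- Relations among differentials of independent parameters have non-unit coefficients. -/
theorem coeff_mem_max [Algebra.FormallySmooth k (ResidueField A)] {n : ℕ} (x : Fin n → A)
    (hx : ∀ i, x i ∈ maximalIdeal A)
    (hind : ∀ c : Fin n → A, ∑ i, c i * x i ∈ maximalIdeal A ^ 2 → ∀ i, c i ∈ maximalIdeal A)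
    (z : Fin n → A) (hz : ∑ i, z i • KaehlerDifferential.D k A (x i) = 0) (i : Fin n) : z i ∈ maximalIdeal A := by
  obtain ⟨s, hs⟩ := exists_section (k := k) (A := A) two_ne_zero
  let mk := Ideal.Quotient.mk (maximalIdeal A ^ 2)
  let w : A →ₗ[k] A ⧸ maximalIdeal A ^ 2 :=
    (Ideal.Quotient.mkₐ k _).toLinearMap - s.toLinearMap ∘ₗ (IsScalarTower.toAlgHom k A (ResidueField A)).toLinearMap
  have hw : ∀ a, w a = mk a - s (residue A a) := fun a => rfl
  let D : Derivation k A (A ⧸ maximalIdeal A ^ 2) := Derivation.mk' w fun a b => by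
    rw [hw, hw, hw, map_mul, map_mul, map_mul, Algebra.smul_def, Algebra.smul_def, Ideal.Quotient.algebraMap_eq]
    have h0 : (mk a - s (residue A a)) * (mk b - s (residue A b)) = 0 := by
      have h1 := Ideal.mul_mem_mul (hs a) (hs b)
      rw [← Ideal.map_mul, ← pow_two, Ideal.map_quotient_self, Ideal.mem_bot] at h1
      exact h1
    linear_combination (-1 : A ⧸ maximalIdeal A ^ 2) * h0
  have hD : ∀ j, D.liftKaehlerDifferential (KaehlerDifferential.D k A (x j)) = mk (x j) := fun j => by
    rw [Derivation.liftKaehlerDifferential_comp_D]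
    show w (x j) = _
    rw [hw, (residue_eq_zero_iff _).2 (hx j), map_zero, sub_zero]
  refine hind z ?_ i
  rw [← Ideal.Quotient.eq_zero_iff_mem, map_sum]
  have h2 := congrArg D.liftKaehlerDifferential hz
  rw [map_zero, map_sum] at h2
  rw [← h2]
  refine Finset.sum_congr rfl fun j _ => ?_
  rw [map_smul, hD, Algebra.smul_def, map_mul]
  rfl

/-- The two parameters of a quadratic node as a vector. -/
theorem pair_facts {x y : A} (hm : maximalIdeal A = Ideal.span {x, y})
    (hind : ∀ p r : A, p * x + r * y ∈ maximalIdeal A ^ 2 → p ∈ maximalIdeal A ∧ r ∈ maximalIdeal A) :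
    maximalIdeal A = Ideal.span (Set.range ![x, y]) ∧ (∀ i, ![x, y] i ∈ maximalIdeal A) ∧
      ∀ c : Fin 2 → A, ∑ i, c i * ![x, y] i ∈ maximalIdeal A ^ 2 → ∀ i, c i ∈ maximalIdeal A := by
  refine ⟨?_, ?_, ?_⟩
  · rw [hm]
    simp [Set.pair_comm]
  · intro i
    fin_cases i <;> exact hm ▸ Ideal.subset_span (by simp)
  · intro c h
    rw [Fin.sum_univ_two] at h
    obtain ⟨h1, h2⟩ := hind _ _ h
    intro i
    fin_cases i
    exacts [h1, h2]

/-- At a quadratic node the first Fitting ideal of differentials is the maximal ideal. -/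
theorem fit_qnode [IsNoetherianRing A] [Algebra.EssFiniteType k A] [Algebra.FormallyEtale k (ResidueField A)]
    (h : QNode A) : Fitt.ideal A Ω[A⁄k] 1 = maximalIdeal A := by
  obtain ⟨x, y, a, b, c, hm, hind, hd, hq, -⟩ := h
  obtain ⟨hspan, hmem, hind'⟩ := pair_facts hm hind
  let dx : Fin 2 → Ω[A⁄k] := fun i => KaehlerDifferential.D k A (![x, y] i)
  have hdx : Submodule.span A (Set.range dx) = ⊤ := span_dGen _ hspan
  refine le_antisymm ((fit_two_le_iff dx hdx _).2 fun z hz i => coeff_mem_max _ hmem hind' z hz i) ?_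
  let J := Fitt.ideal A Ω[A⁄k] 1
  let D := KaehlerDifferential.D k A
  have hx : x ∈ maximalIdeal A := hmem 0
  have hy : y ∈ maximalIdeal A := hmem 1
  -- differentials of the cube of the maximal ideal
  have hsq : ∀ u ∈ maximalIdeal A ^ 2, D u ∈ maximalIdeal A • (⊤ : Submodule A Ω[A⁄k]) := fun u hu => by
    rw [pow_two] at hu
    refine Submodule.mul_induction_on hu (fun p hp q hq => ?_) fun p q hp hq => by rw [map_add]; exact add_mem hp hq
    rw [Derivation.leibniz]
    exact add_mem (Submodule.smul_mem_smul hp Submodule.mem_top) (Submodule.smul_mem_smul hq Submodule.mem_top)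
  have hcube : ∀ u ∈ maximalIdeal A ^ 3, D u ∈ (maximalIdeal A ^ 2) • (⊤ : Submodule A Ω[A⁄k]) := fun u hu => by
    rw [pow_succ] at hu
    refine Submodule.mul_induction_on hu (fun p hp q hq => ?_) fun p q hp hq => by rw [map_add]; exact add_mem hp hq
    rw [Derivation.leibniz]
    refine add_mem (Submodule.smul_mem_smul hp Submodule.mem_top) ?_
    rw [pow_two, Submodule.mul_smul]
    exact Submodule.smul_mem_smul hq (hsq p hp)
  have hrel : (2 * a * x + b * y) • dx 0 + (b * x + 2 * c * y) • dx 1 ∈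
      (maximalIdeal A ^ 2) • (⊤ : Submodule A Ω[A⁄k]) := by
    have hrest : (x * x) • D a + (x * y) • D b + (y * y) • D c ∈ (maximalIdeal A ^ 2) • (⊤ : Submodule A Ω[A⁄k]) :=
      add_mem (add_mem (Submodule.smul_mem_smul (pow_two (maximalIdeal A) ▸ Ideal.mul_mem_mul hx hx) Submodule.mem_top)
        (Submodule.smul_mem_smul (pow_two (maximalIdeal A) ▸ Ideal.mul_mem_mul hx hy) Submodule.mem_top))
        (Submodule.smul_mem_smul (pow_two (maximalIdeal A) ▸ Ideal.mul_mem_mul hy hy) Submodule.mem_top)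
    have hdq : D (qf a b c x y) = (2 * a * x + b * y) • dx 0 + (b * x + 2 * c * y) • dx 1 +
        ((x * x) • D a + (x * y) • D b + (y * y) • D c) := by
      simp only [qf, pow_two, map_add, Derivation.leibniz, dx, D, smul_smul, smul_add, add_smul, Matrix.cons_val_zero,
        Matrix.cons_val_one]
      module
    have := hcube _ hq
    rw [hdq] at this
    exact (Submodule.add_mem_iff_left _ hrest).1 this
  obtain ⟨μ, hμ, hμ'⟩ : ∃ μ : Fin 2 → A, (∀ i, μ i ∈ maximalIdeal A ^ 2) ∧
      ∑ i, μ i • dx i = (2 * a * x + b * y) • dx 0 + (b * x + 2 * c * y) • dx 1 := by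
    rw [← hdx, Submodule.mem_ideal_smul_span_iff_exists_sum] at hrel
    obtain ⟨μ, hμ, hμ'⟩ := hrel
    refine ⟨μ, hμ, ?_⟩
    rw [← hμ', Finsupp.sum_fintype]
    simp
  have hz := (fit_two_le_iff dx hdx J).1 le_rfl ![(2 * a * x + b * y) - μ 0, (b * x + 2 * c * y) - μ 1] (by
    rw [Fin.sum_univ_two] at hμ' ⊢
    simp only [Matrix.cons_val_zero, Matrix.cons_val_one, sub_smul]
    rw [sub_add_sub_comm, ← hμ', sub_self])
  refine Submodule.le_of_le_smul_of_le_jacobson_bot (IsNoetherian.noetherian _) (maximalIdeal_le_jacobson _) ?_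
  rw [smul_eq_mul, ← pow_two]
  have h1 : 2 * a * x + b * y ∈ J ⊔ maximalIdeal A ^ 2 := by
    rw [← sub_add_cancel (2 * a * x + b * y) (μ 0)]
    exact Submodule.add_mem_sup (hz 0) (hμ 0)
  have h2 : b * x + 2 * c * y ∈ J ⊔ maximalIdeal A ^ 2 := by
    rw [← sub_add_cancel (b * x + 2 * c * y) (μ 1)]
    exact Submodule.add_mem_sup (hz 1) (hμ 1)
  conv_lhs => rw [hm]
  rw [Ideal.span_le, Set.pair_subset_iff]
  constructor
  · refine (Ideal.unit_mul_mem_iff_mem _ hd).1 ?_
    rw [show (4 * a * c - b ^ 2) * x = (2 * c) * (2 * a * x + b * y) - b * (b * x + 2 * c * y) by ring]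
    exact sub_mem (Ideal.mul_mem_left _ _ h1) (Ideal.mul_mem_left _ _ h2)
  · refine (Ideal.unit_mul_mem_iff_mem _ hd).1 ?_
    rw [show (4 * a * c - b ^ 2) * y = (2 * a) * (b * x + 2 * c * y) - b * (2 * a * x + b * y) by ring]
    exact sub_mem (Ideal.mul_mem_left _ _ h2) (Ideal.mul_mem_left _ _ h1)

/-- Polynomials in two variables modulo the cube of the variables. -/
theorem exists_quadratic {κ : Type*} [CommRing κ] (p : MvPolynomial (Fin 2) κ) :
    ∃ c α β e f g : κ, p - (MvPolynomial.C c + (MvPolynomial.C α * MvPolynomial.X 0 + MvPolynomial.C β * MvPolynomial.X 1) +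
      qf (MvPolynomial.C e) (MvPolynomial.C f) (MvPolynomial.C g) (MvPolynomial.X 0) (MvPolynomial.X 1)) ∈
        Ideal.span {(MvPolynomial.X 0 : MvPolynomial (Fin 2) κ), MvPolynomial.X 1} ^ 3 := by
  induction p using MvPolynomial.induction_on with
  | C c => exact ⟨c, 0, 0, 0, 0, 0, by simp [qf]⟩
  | add p q hp hq =>
    obtain ⟨c, α, β, e, f, g, h⟩ := hp
    obtain ⟨c', α', β', e', f', g', h'⟩ := hq
    refine ⟨c + c', α + α', β + β', e + e', f + f', g + g', ?_⟩
    convert add_mem h h' using 1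
    simp only [qf, map_add]
    ring
  | mul_X p i hp =>
    obtain ⟨c, α, β, e, f, g, h⟩ := hp
    let M := Ideal.span {(MvPolynomial.X 0 : MvPolynomial (Fin 2) κ), MvPolynomial.X 1}
    have hX : ∀ j : Fin 2, (MvPolynomial.X j : MvPolynomial (Fin 2) κ) ∈ M := fun j => by
      fin_cases j <;> exact Ideal.subset_span (by simp)
    let q : MvPolynomial (Fin 2) κ := qf (MvPolynomial.C e) (MvPolynomial.C f) (MvPolynomial.C g) (MvPolynomial.X 0) (MvPolynomial.X 1)
    have hq : q ∈ M ^ 2 := by
      simp only [q, qf, pow_two, mul_assoc]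
      exact add_mem (add_mem (Ideal.mul_mem_left _ _ (Ideal.mul_mem_mul (hX 0) (hX 0)))
        (Ideal.mul_mem_left _ _ (Ideal.mul_mem_mul (hX 0) (hX 1)))) (Ideal.mul_mem_left _ _ (Ideal.mul_mem_mul (hX 1) (hX 1)))
    have hrest : (p - (MvPolynomial.C c + (MvPolynomial.C α * MvPolynomial.X 0 + MvPolynomial.C β * MvPolynomial.X 1) + q)) *
        MvPolynomial.X i + q * MvPolynomial.X i ∈ M ^ 3 :=
      add_mem (Ideal.mul_mem_right _ _ h) (pow_succ M 2 ▸ Ideal.mul_mem_mul hq (hX i))
    fin_cases i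
    · refine ⟨0, c, 0, α, β, 0, ?_⟩
      convert hrest using 1
      simp only [qf, q, map_zero, Fin.zero_eta, Fin.isValue]
      ring
    · refine ⟨0, 0, c, 0, α, β, ?_⟩
      convert hrest using 1
      simp only [qf, q, map_zero, Fin.mk_one, Fin.isValue]
      ring

/-- If the gradients of all quadratic relations lie in an ideal, so do the coefficients of relations of differentials. -/
theorem coeff_mem_of_gradients [Algebra.FormallySmooth k (ResidueField A)] {x y : A}
    (hm : maximalIdeal A = Ideal.span {x, y})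
    (hind : ∀ p r : A, p * x + r * y ∈ maximalIdeal A ^ 2 → p ∈ maximalIdeal A ∧ r ∈ maximalIdeal A)
    (L : Ideal A) (hL : maximalIdeal A ^ 2 ≤ L)
    (hgrad : ∀ a b c : A, qf a b c x y ∈ maximalIdeal A ^ 3 → 2 * a * x + b * y ∈ L ∧ b * x + 2 * c * y ∈ L)
    (z : Fin 2 → A) (hz : ∑ i, z i • KaehlerDifferential.D k A (![x, y] i) = 0) (i : Fin 2) : z i ∈ L := by
  obtain ⟨-, hmem, -⟩ := pair_facts hm hind
  let κ := ResidueField A
  obtain ⟨s, hs⟩ := exists_section (k := k) (A := A) (three_ne_zero)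
  let T := A ⧸ maximalIdeal A ^ 3
  let mk : A →+* T := Ideal.Quotient.mk _
  let P := MvPolynomial (Fin 2) κ
  let φ : P →+* T := MvPolynomial.eval₂Hom s.toRingHom ![mk x, mk y]
  have hφX : ∀ j, φ (MvPolynomial.X j) = mk (![x, y] j) := fun j => by
    rw [MvPolynomial.eval₂Hom_X']
    fin_cases j <;> rfl
  have hφC : ∀ t, φ (MvPolynomial.C t) = s t := MvPolynomial.eval₂Hom_C _ _
  let M := Ideal.span {(MvPolynomial.X 0 : P), MvPolynomial.X 1}
  have hM : M.map φ = (maximalIdeal A).map mk := by
    rw [Ideal.map_span, Set.image_pair, hφX, hφX, congrArg (Ideal.map mk) hm, Ideal.map_span, Set.image_pair]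
    rfl
  have hTm : ∀ (n : ℕ) (u : A), n ≤ 3 → mk u ∈ ((maximalIdeal A).map mk) ^ n → u ∈ maximalIdeal A ^ n := by
    intro n u hn hu
    rw [← Ideal.map_pow, Ideal.mem_quotient_iff_mem (Ideal.pow_le_pow_right hn)] at hu
    exact hu
  have hres : ∀ a : A, mk a - φ (MvPolynomial.C (residue A a)) ∈ M.map φ := fun a => by rw [hφC, hM]; exact hs a
  have hsurj : Function.Surjective φ := fun t => by
    have step : ∀ n, n ≤ 3 → ∀ t : T, ∃ p : P, t - φ p ∈ (M.map φ) ^ n := by
      intro n
      induction n with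
      | zero => exact fun _ t => ⟨0, by simp⟩
      | succ n ih =>
        intro hn t
        obtain ⟨p, hp⟩ := ih (by omega) t
        rw [← Ideal.map_pow, Ideal.map] at hp
        obtain ⟨p', hp'⟩ : ∃ p', (t - φ p) - φ p' ∈ (M.map φ) ^ (n + 1) := by
          refine Submodule.span_induction ?_ ⟨0, by simp⟩ ?_ ?_ hp
          · rintro _ ⟨q, -, rfl⟩
            exact ⟨q, by simp⟩
          · rintro u v - - ⟨q, hq⟩ ⟨q', hq'⟩
            exact ⟨q + q', by rw [map_add, add_sub_add_comm]; exact add_mem hq hq'⟩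
          · rintro r u hu ⟨q, hq⟩
            obtain ⟨a, rfl⟩ := Ideal.Quotient.mk_surjective r
            refine ⟨MvPolynomial.C (residue A a) * q, ?_⟩
            have hu' : u ∈ (M.map φ) ^ n := by rw [← Ideal.map_pow, Ideal.map]; exact hu
            rw [smul_eq_mul, map_mul, show mk a * u - φ (MvPolynomial.C (residue A a)) * φ q =
              (mk a - φ (MvPolynomial.C (residue A a))) * u + φ (MvPolynomial.C (residue A a)) * (u - φ q) by ring]
            exact add_mem (pow_succ' (M.map φ) n ▸ Ideal.mul_mem_mul (hres a) hu') (Ideal.mul_mem_left _ _ hq)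
        exact ⟨p + p', by rw [map_add, ← sub_sub]; exact hp'⟩
    obtain ⟨p, hp⟩ := step 3 le_rfl t
    refine ⟨p, (sub_eq_zero.1 ?_).symm⟩
    rw [hM, ← Ideal.map_pow, Ideal.map_quotient_self, Ideal.mem_bot] at hp
    exact hp
  let B := A ⧸ L
  let π : T →+* B := Ideal.Quotient.factor ((Ideal.pow_le_pow_right (by norm_num : 2 ≤ 3)).trans hL)
  have hπ : ∀ a, π (mk a) = Ideal.Quotient.mk L a := fun a => Ideal.Quotient.factor_mk _ a
  let ψ : P →+* B := π.comp φ
  -- the partial derivatives vanish on the kernel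
  have hker : ∀ p : P, φ p = 0 → ∀ j, ψ (MvPolynomial.pderiv j p) = 0 := by
    intro p hp j
    obtain ⟨c, α, β, e, f, g, h⟩ := exists_quadratic p
    obtain ⟨α₀, hα⟩ := residue_surjective α
    obtain ⟨β₀, hβ⟩ := residue_surjective β
    obtain ⟨e₀, he⟩ := residue_surjective e
    obtain ⟨f₀, hf⟩ := residue_surjective f
    obtain ⟨g₀, hg⟩ := residue_surjective g
    subst hα hβ he hf hg
    let Mm := (maximalIdeal A).map mk
    have hxT : mk x ∈ Mm := Ideal.mem_map_of_mem _ (hmem 0)
    have hyT : mk y ∈ Mm := Ideal.mem_map_of_mem _ (hmem 1)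
    have h0 := Ideal.mem_map_of_mem φ h
    rw [Ideal.map_pow, hM, map_sub, hp, zero_sub, neg_mem_iff, map_add, map_add, map_add, map_mul, map_mul, map_qf,
      hφX, hφX, hφC, hφC, hφC, hφC, hφC, hφC] at h0
    simp only [Matrix.cons_val_zero, Matrix.cons_val_one] at h0
    let Q : T := qf (s (residue A e₀)) (s (residue A f₀)) (s (residue A g₀)) (mk x) (mk y)
    have hQ : Q ∈ Mm ^ 2 := by
      simp only [Q, qf, pow_two, mul_assoc]
      exact add_mem (add_mem (Ideal.mul_mem_left _ _ (Ideal.mul_mem_mul hxT hxT))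
        (Ideal.mul_mem_left _ _ (Ideal.mul_mem_mul hxT hyT))) (Ideal.mul_mem_left _ _ (Ideal.mul_mem_mul hyT hyT))
    have hLin : s (residue A α₀) * mk x + s (residue A β₀) * mk y ∈ Mm :=
      add_mem (Ideal.mul_mem_left _ _ hxT) (Ideal.mul_mem_left _ _ hyT)
    have hc : c = 0 := by
      by_contra hc
      have h1 : s c ∈ Mm := by
        rw [show s c = (s c + (s (residue A α₀) * mk x + s (residue A β₀) * mk y) + Q) -
          ((s (residue A α₀) * mk x + s (residue A β₀) * mk y) + Q) by ring]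
        exact sub_mem (Ideal.pow_le_self three_ne_zero h0) (add_mem hLin (Ideal.pow_le_self two_ne_zero hQ))
      have hne : Mm ≠ ⊤ := fun htop => by
        have := hTm 1 1 (by norm_num) (by rw [pow_one, show (maximalIdeal A).map mk = ⊤ from htop]; trivial)
        exact (IsLocalRing.mem_maximalIdeal _).1 (pow_one (maximalIdeal A) ▸ this) isUnit_one
      exact hne (Ideal.eq_top_of_isUnit_mem _ h1 ((Ne.isUnit hc).map s))
    subst hc
    rw [map_zero, zero_add] at h0
    have hαβ : α₀ ∈ maximalIdeal A ∧ β₀ ∈ maximalIdeal A := by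
      refine hind α₀ β₀ (hTm 2 _ (by norm_num) ?_)
      rw [map_add, map_mul, map_mul, show mk α₀ * mk x + mk β₀ * mk y =
        ((s (residue A α₀) * mk x + s (residue A β₀) * mk y) + Q) - Q +
          ((mk α₀ - s (residue A α₀)) * mk x + (mk β₀ - s (residue A β₀)) * mk y) by ring]
      refine add_mem (sub_mem (Ideal.pow_le_pow_right (by norm_num) h0) hQ) ?_
      rw [pow_two]
      exact add_mem (Ideal.mul_mem_mul (hs α₀) hxT) (Ideal.mul_mem_mul (hs β₀) hyT)
    rw [(residue_eq_zero_iff _).2 hαβ.1, (residue_eq_zero_iff _).2 hαβ.2, map_zero, zero_mul, zero_mul, zero_add,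
      zero_add] at h0
    have hq : qf e₀ f₀ g₀ x y ∈ maximalIdeal A ^ 3 := by
      refine hTm 3 _ le_rfl ?_
      rw [map_qf, show qf (mk e₀) (mk f₀) (mk g₀) (mk x) (mk y) = Q + ((mk e₀ - s (residue A e₀)) * (mk x * mk x) +
        (mk f₀ - s (residue A f₀)) * (mk x * mk y) + (mk g₀ - s (residue A g₀)) * (mk y * mk y)) by
          simp only [Q, qf]; ring]
      refine add_mem h0 ?_
      rw [pow_succ' ((maximalIdeal A).map mk) 2, pow_two ((maximalIdeal A).map mk)]
      exact add_mem (add_mem (Ideal.mul_mem_mul (hs e₀) (Ideal.mul_mem_mul hxT hxT))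
        (Ideal.mul_mem_mul (hs f₀) (Ideal.mul_mem_mul hxT hyT))) (Ideal.mul_mem_mul (hs g₀) (Ideal.mul_mem_mul hyT hyT))
    obtain ⟨g1, g2⟩ := hgrad _ _ _ hq
    have hcoef : ∀ (u : A) (w : A), w ∈ maximalIdeal A →
        ψ (MvPolynomial.C (residue A u)) * Ideal.Quotient.mk L w = Ideal.Quotient.mk L (u * w) := by
      intro u w hw
      show π (φ _) * _ = _
      rw [hφC, map_mul, ← hπ w, ← hπ u, ← map_mul, ← map_mul, ← sub_eq_zero, ← map_sub, ← sub_mul]
      obtain ⟨v, hv⟩ := Ideal.Quotient.mk_surjective ((s (residue A u) - mk u) * mk w)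
      rw [← hv, hπ, Ideal.Quotient.eq_zero_iff_mem]
      refine hL (hTm 2 v (by norm_num) ?_)
      show mk v ∈ _
      rw [hv, pow_two]
      exact Ideal.mul_mem_mul (neg_sub (mk u) (s (residue A u)) ▸ neg_mem (hs u)) (Ideal.mem_map_of_mem _ hw)
    have hψX : ∀ l, ψ (MvPolynomial.X l) = Ideal.Quotient.mk L (![x, y] l) := fun l => by
      show π (φ _) = _
      rw [hφX, hπ]
    have hd3 : ∀ u ∈ M ^ 3, MvPolynomial.pderiv j u ∈ M ^ 2 := fun u hu => by
      have hd2 : ∀ v ∈ M ^ 2, MvPolynomial.pderiv j v ∈ M := fun v hv => by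
        rw [pow_two] at hv
        refine Submodule.mul_induction_on hv (fun p hp q hq => ?_) fun p q hp hq => by rw [map_add]; exact add_mem hp hq
        rw [Derivation.leibniz, smul_eq_mul, smul_eq_mul]
        exact add_mem (Ideal.mul_mem_right _ _ hp) (Ideal.mul_mem_right _ _ hq)
      rw [pow_succ] at hu
      refine Submodule.mul_induction_on hu (fun p hp q hq => ?_) fun p q hp hq => by rw [map_add]; exact add_mem hp hq
      rw [Derivation.leibniz, smul_eq_mul, smul_eq_mul]
      exact add_mem (Ideal.mul_mem_right _ _ hp) (pow_two M ▸ Ideal.mul_mem_mul hq (hd2 p hp))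
    have hψ2 : ∀ u ∈ M ^ 2, ψ u = 0 := fun u hu => by
      have h1 := Ideal.mem_map_of_mem φ hu
      rw [Ideal.map_pow, hM] at h1
      obtain ⟨v, hv⟩ := Ideal.Quotient.mk_surjective (φ u)
      show π (φ u) = 0
      rw [← hv, hπ, Ideal.Quotient.eq_zero_iff_mem]
      exact hL (hTm 2 v (by norm_num) (show mk v ∈ _ from hv.symm ▸ h1))
    have h3 := hψ2 _ (hd3 _ h)
    rw [map_sub, map_sub, sub_eq_zero] at h3
    rw [h3, (residue_eq_zero_iff _).2 hαβ.1, (residue_eq_zero_iff _).2 hαβ.2]
    simp only [qf, map_zero, zero_mul, add_zero, zero_add, pow_two, map_add, Derivation.leibniz, smul_eq_mul,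
      MvPolynomial.pderiv_C, mul_zero, map_mul]
    fin_cases j
    · simp only [Fin.zero_eta, Fin.isValue, MvPolynomial.pderiv_X_self,
        MvPolynomial.pderiv_X_of_ne (show (1 : Fin 2) ≠ 0 by decide), map_one, map_zero, mul_one, mul_zero, add_zero,
        zero_add, hψX, Matrix.cons_val_zero, Matrix.cons_val_one]
      have G : 2 * Ideal.Quotient.mk L (e₀ * x) + Ideal.Quotient.mk L (f₀ * y) = 0 := by
        rw [← map_ofNat (Ideal.Quotient.mk L) 2, ← map_mul, ← map_add, Ideal.Quotient.eq_zero_iff_mem]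
        convert g1 using 1
        ring
      linear_combination G + 2 * hcoef e₀ x (hmem 0) + hcoef f₀ y (hmem 1)
    · simp only [Fin.mk_one, Fin.isValue, MvPolynomial.pderiv_X_self,
        MvPolynomial.pderiv_X_of_ne (show (0 : Fin 2) ≠ 1 by decide), map_one, map_zero, mul_one, mul_zero, add_zero,
        zero_add, hψX, Matrix.cons_val_zero, Matrix.cons_val_one]
      have G : Ideal.Quotient.mk L (f₀ * x) + 2 * Ideal.Quotient.mk L (g₀ * y) = 0 := by
        rw [← map_ofNat (Ideal.Quotient.mk L) 2, ← map_mul, ← map_add, Ideal.Quotient.eq_zero_iff_mem]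
        convert g2 using 1
        ring
      linear_combination G + hcoef f₀ x (hmem 0) + 2 * hcoef g₀ y (hmem 1)
  -- the induced derivations of `A`
  have hpd : ∀ (j : Fin 2) (p p' : P), φ p = φ p' → ψ (MvPolynomial.pderiv j p) = ψ (MvPolynomial.pderiv j p') :=
    fun j p p' h => sub_eq_zero.1 (by rw [← map_sub, ← map_sub]; exact hker _ (by rw [map_sub, h, sub_self]) j)
  choose sec hsec using hsurj
  let Dl : Fin 2 → A →ₗ[k] B := fun j =>
    { toFun := fun a => ψ (MvPolynomial.pderiv j (sec (mk a)))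
      map_add' := fun a b => by
        rw [← map_add, ← map_add]
        exact hpd j _ _ (by rw [hsec, map_add φ, hsec, hsec, map_add])
      map_smul' := fun r a => by
        rw [RingHom.id_apply]
        have h1 : φ (sec (mk (r • a))) = φ (MvPolynomial.C (algebraMap k κ r) * sec (mk a)) := by
          rw [hsec, map_mul φ, hφC, hsec, AlgHom.commutes, Algebra.smul_def, map_mul]
          rfl
        rw [hpd j _ _ h1, Derivation.leibniz, MvPolynomial.pderiv_C, smul_zero, add_zero, smul_eq_mul, map_mul,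
          Algebra.smul_def]
        congr 1
        show π (φ _) = _
        rw [hφC, AlgHom.commutes]
        rfl }
  let Dv : Fin 2 → Derivation k A B := fun j => Derivation.mk' (Dl j) fun a b => by
    show ψ (MvPolynomial.pderiv j (sec (mk (a * b)))) = a • ψ (MvPolynomial.pderiv j (sec (mk b))) + b • ψ (MvPolynomial.pderiv j (sec (mk a)))
    have h1 : φ (sec (mk (a * b))) = φ (sec (mk a) * sec (mk b)) := by rw [hsec, map_mul φ, hsec, hsec, map_mul]
    rw [hpd j _ _ h1, Derivation.leibniz, map_add, smul_eq_mul, smul_eq_mul, map_mul, map_mul, Algebra.smul_def,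
      Algebra.smul_def, Ideal.Quotient.algebraMap_eq, show ψ (sec (mk a)) = Ideal.Quotient.mk L a from
        (congrArg π (hsec _)).trans (hπ a), show ψ (sec (mk b)) = Ideal.Quotient.mk L b from
        (congrArg π (hsec _)).trans (hπ b)]
  have hval : ∀ j l, (Dv j).liftKaehlerDifferential (KaehlerDifferential.D k A (![x, y] l)) =
      if j = l then 1 else 0 := fun j l => by
    rw [Derivation.liftKaehlerDifferential_comp_D]
    show ψ (MvPolynomial.pderiv j (sec (mk (![x, y] l)))) = _
    rw [hpd j _ (MvPolynomial.X l) (by rw [hsec, hφX]), MvPolynomial.pderiv_X]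
    by_cases hjl : j = l
    · subst hjl; simp
    · simp [Ne.symm hjl, hjl]
  have := congrArg (Dv i).liftKaehlerDifferential hz
  rw [map_zero, map_sum] at this
  rw [← Ideal.Quotient.eq_zero_iff_mem, ← this]
  simp only [map_smul, hval, Algebra.smul_def, mul_ite, mul_one, mul_zero]
  rw [Finset.sum_ite_eq Finset.univ i]
  simp
  rfl

/-- Degenerate binary quadratic forms spanning a space have parallel gradients. -/
theorem degenerate_parallel {F : Type*} [Field F] {a b c a' b' c' : F} (h : b ^ 2 = 4 * a * c)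
    (h' : b' ^ 2 = 4 * a' * c') (hs : (b + b') ^ 2 = 4 * (a + a') * (c + c')) :
    2 * a * b' - 2 * a' * b = 0 ∧ 4 * a * c' - b * b' = 0 ∧ b * b' - 4 * a' * c = 0 ∧
      2 * b * c' - 2 * b' * c = 0 := by
  refine ⟨(pow_eq_zero_iff two_ne_zero).1 ?_, (pow_eq_zero_iff two_ne_zero).1 ?_, (pow_eq_zero_iff two_ne_zero).1 ?_,
    (pow_eq_zero_iff two_ne_zero).1 ?_⟩
  · linear_combination (4 * a' ^ 2 + 4 * a * a') * h + (4 * a ^ 2 + 4 * a * a') * h' - (4 * a * a') * hs
  · linear_combination (b' ^ 2 + 4 * a * c') * h + (4 * a * c + 4 * a * c') * h' - (4 * a * c') * hs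
  · linear_combination (b' ^ 2 + 4 * a' * c) * h + (4 * a * c + 4 * a' * c) * h' - (4 * a' * c) * hs
  · linear_combination (4 * c' ^ 2 + 4 * c * c') * h + (4 * c ^ 2 + 4 * c * c') * h' - (4 * c * c') * hs

/-- A non-smooth one-dimensional local algebra of depth one whose first Fitting ideal of differentials is maximal is a
quadratic node. -/
theorem qnode_of_fit [IsNoetherianRing A] [Algebra.EssFiniteType k A] [Algebra.IsSeparable k (ResidueField A)]
    (hdim : ringKrullDim A = 1) (hdepth : ∃ t ∈ maximalIdeal A, t ∈ nonZeroDivisors A)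
    (hns : ¬ Algebra.FormallySmooth k A) (hJ : Fitt.ideal A Ω[A⁄k] 1 = maximalIdeal A) : QNode A := by
  haveI : Algebra.FormallyEtale k (ResidueField A) := Algebra.FormallyEtale.of_isSeparable k _
  haveI : Algebra.IsGeometricallyReduced k (ResidueField A) := CohenLib.isGeometricallyReduced_of_formallySmooth
  haveI : Module.Finite A (maximalIdeal A) := Module.Finite.of_fg (IsNoetherian.noetherian _)
  let V := CotangentSpace A
  let n := Module.finrank (ResidueField A) V
  let bV := Module.finBasis (ResidueField A) V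
  choose X hX using fun i => (maximalIdeal A).toCotangent_surjective (bV i)
  let x : Fin n → A := fun i => (X i : A)
  have hxm : ∀ i, x i ∈ maximalIdeal A := fun i => (X i).2
  have hspan : maximalIdeal A = Ideal.span (Set.range x) := by
    refine le_antisymm (Submodule.le_of_le_smul_of_le_jacobson_bot (IsNoetherian.noetherian _)
      (maximalIdeal_le_jacobson _) fun w hw => ?_) (Ideal.span_le.2 (Set.range_subset_iff.2 hxm))
    let cs : Fin n → A := fun i => Function.surjInv residue_surjective (bV.repr ((maximalIdeal A).toCotangent ⟨w, hw⟩) i)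
    have hcs : (maximalIdeal A).toCotangent (∑ i, cs i • X i) = (maximalIdeal A).toCotangent ⟨w, hw⟩ := by
      rw [map_sum]
      conv_rhs => rw [← bV.sum_repr ((maximalIdeal A).toCotangent ⟨w, hw⟩)]
      refine Finset.sum_congr rfl fun i _ => ?_
      rw [map_smul, hX, ← IsScalarTower.algebraMap_smul (ResidueField A) (cs i)]
      congr 1
      exact Function.surjInv_eq residue_surjective _
    have h1 : ∑ i, cs i * x i - w ∈ maximalIdeal A ^ 2 := by
      have := (Ideal.toCotangent_eq _).1 hcs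
      simpa [x] using this
    rw [smul_eq_mul, ← pow_two, show w = ∑ i, cs i * x i - (∑ i, cs i * x i - w) from (sub_sub_cancel _ _).symm]
    exact sub_mem (Ideal.mem_sup_left (Ideal.sum_mem _ fun i _ => Ideal.mul_mem_left _ _ (Ideal.subset_span ⟨i, rfl⟩)))
      (Ideal.mem_sup_right h1)
  have hindep : ∀ c : Fin n → A, ∑ i, c i * x i ∈ maximalIdeal A ^ 2 → ∀ i, c i ∈ maximalIdeal A := by
    intro c hc i
    rw [← residue_eq_zero_iff]
    refine Fintype.linearIndependent_iff.1 bV.linearIndependent (fun j => residue A (c j)) ?_ i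
    have h0 : (maximalIdeal A).toCotangent (∑ j, c j • X j) = 0 := by
      rw [Ideal.toCotangent_eq_zero]
      simpa [x] using hc
    rw [← h0, map_sum]
    refine Finset.sum_congr rfl fun j _ => ?_
    rw [map_smul, hX, ← IsScalarTower.algebraMap_smul (ResidueField A) (c j)]
    rfl
  have hreg : n ≤ 1 → False := fun hn => hns (by
    haveI : IsRegularLocalRing A := IsRegularLocalRing.of_spanFinrank_maximalIdeal_le A (by
      rw [spanFinrank_maximalIdeal_eq_finrank_cotangentSpace, hdim]
      exact_mod_cast hn)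
    exact CohenLib.formallySmooth_of_regular (k := k))
  have h2 : n = 2 := by
    rcases Nat.lt_trichotomy n 2 with h | h | h
    · exact absurd (hreg (by omega)) id
    · exact h
    · exfalso
      have hle := fit_le_sq (fun i => KaehlerDifferential.D k A (x i)) (span_dGen x hspan) h
        fun z hz i => coeff_mem_max x hxm hindep z hz i
      rw [hJ] at hle
      have h0 : maximalIdeal A = ⊥ := Submodule.eq_bot_of_le_smul_of_le_jacobson_bot _ _ (IsNoetherian.noetherian _)
        (by rw [smul_eq_mul, ← pow_two]; exact hle) (maximalIdeal_le_jacobson _)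
      have := ringKrullDim_eq_zero_of_isField ((IsLocalRing.isField_iff_maximalIdeal_eq).2 h0)
      rw [hdim] at this
      exact one_ne_zero this
  obtain ⟨u, v, hm, hind⟩ : ∃ u v : A, maximalIdeal A = Ideal.span {u, v} ∧
      ∀ p r : A, p * u + r * v ∈ maximalIdeal A ^ 2 → p ∈ maximalIdeal A ∧ r ∈ maximalIdeal A := by
    let e : Fin 2 ≃ Fin n := finCongr h2.symm
    refine ⟨x (e 0), x (e 1), ?_, fun p r h => ?_⟩
    · rw [hspan]
      congr 1
      ext w
      constructor
      · rintro ⟨i, rfl⟩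
        obtain ⟨j, rfl⟩ := e.surjective i
        fin_cases j
        · exact Or.inl rfl
        · exact Or.inr rfl
      · rintro (rfl | rfl)
        exacts [⟨_, rfl⟩, ⟨_, rfl⟩]
    · have := hindep (fun i => ![p, r] (e.symm i)) (by
        rw [← Equiv.sum_comp e]
        simpa [Fin.sum_univ_two] using h)
      exact ⟨by simpa using this (e 0), by simpa using this (e 1)⟩
  obtain ⟨hspan2, hmem, -⟩ := pair_facts hm hind
  suffices ∃ a b c : A, qf a b c u v ∈ maximalIdeal A ^ 3 ∧ IsUnit (4 * a * c - b ^ 2) by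
    obtain ⟨a, b, c, h1, h2⟩ := this
    exact ⟨u, v, a, b, c, hm, hind, h2, h1, hdepth⟩
  by_contra hcon
  have hdeg : ∀ a b c : A, qf a b c u v ∈ maximalIdeal A ^ 3 → residue A b ^ 2 = 4 * residue A a * residue A c := by
    intro a b c hq
    have : residue A (4 * a * c - b ^ 2) = 0 := (residue_eq_zero_iff _).2 ((IsLocalRing.mem_maximalIdeal _).2
      fun hu => hcon ⟨a, b, c, hq, hu⟩)
    simp only [map_sub, map_mul, map_pow, map_ofNat] at this
    linear_combination -this
  -- all gradients are parallel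
  let G : Set (A × A) := {g | ∃ a b c : A, qf a b c u v ∈ maximalIdeal A ^ 3 ∧ (g = (2 * a, b) ∨ g = (b, 2 * c))}
  have hpar : ∀ g ∈ G, ∀ g' ∈ G, g.1 * g'.2 - g.2 * g'.1 ∈ maximalIdeal A := by
    rintro g ⟨a, b, c, hq, hg⟩ g' ⟨a', b', c', hq', hg'⟩
    obtain ⟨d1, d2, d3, d4⟩ := degenerate_parallel (hdeg a b c hq) (hdeg a' b' c' hq') (by
      have := hdeg (a + a') (b + b') (c + c') (by
        rw [show qf (a + a') (b + b') (c + c') u v = qf a b c u v + qf a' b' c' u v by simp only [qf]; ring]
        exact add_mem hq hq')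
      simpa only [map_add] using this)
    rw [← residue_eq_zero_iff]
    rcases hg with rfl | rfl <;> rcases hg' with rfl | rfl <;> simp only [map_sub, map_mul, map_ofNat]
    · linear_combination d1
    · linear_combination d2
    · linear_combination d3
    · linear_combination d4
  obtain ⟨l, hl, hlG⟩ : ∃ l ∈ maximalIdeal A, ∀ g ∈ G, g.1 * u + g.2 * v ∈ Ideal.span {l} ⊔ maximalIdeal A ^ 2 := by
    by_cases hall : ∀ g ∈ G, g.1 * u + g.2 * v ∈ maximalIdeal A ^ 2
    · exact ⟨0, zero_mem _, fun g hg => Ideal.mem_sup_right (hall g hg)⟩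
    push Not at hall
    obtain ⟨⟨g₁, g₂⟩, hg, hgne⟩ := hall
    refine ⟨g₁ * u + g₂ * v, add_mem (Ideal.mul_mem_left _ _ (hmem 0)) (Ideal.mul_mem_left _ _ (hmem 1)), ?_⟩
    rintro ⟨p₁, p₂⟩ hp
    have hd := hpar _ hg _ hp
    have hu' : IsUnit g₁ ∨ IsUnit g₂ := by
      by_contra hh
      push Not at hh
      refine hgne ?_
      rw [pow_two]
      exact add_mem (Ideal.mul_mem_mul ((IsLocalRing.mem_maximalIdeal _).2 hh.1) (hmem 0))
        (Ideal.mul_mem_mul ((IsLocalRing.mem_maximalIdeal _).2 hh.2) (hmem 1))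
    rcases hu' with hu' | hu' <;> obtain ⟨i, hi⟩ := hu'.exists_left_inv
    · rw [show p₁ * u + p₂ * v = (i * p₁) * (g₁ * u + g₂ * v) + i * ((g₁ * p₂ - g₂ * p₁) * v) by
        linear_combination (-(p₁ * u + p₂ * v)) * hi]
      exact Submodule.add_mem_sup (Ideal.mul_mem_left _ _ (Ideal.mem_span_singleton_self _))
        (Ideal.mul_mem_left _ _ (pow_two (maximalIdeal A) ▸ Ideal.mul_mem_mul hd (hmem 1)))
    · rw [show p₁ * u + p₂ * v = (i * p₂) * (g₁ * u + g₂ * v) + -(i * ((g₁ * p₂ - g₂ * p₁) * u)) by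
        linear_combination (-(p₁ * u + p₂ * v)) * hi]
      exact Submodule.add_mem_sup (Ideal.mul_mem_left _ _ (Ideal.mem_span_singleton_self _))
        (neg_mem (Ideal.mul_mem_left _ _ (pow_two (maximalIdeal A) ▸ Ideal.mul_mem_mul hd (hmem 0))))
  let L := Ideal.span {l} ⊔ maximalIdeal A ^ 2
  have hle : Fitt.ideal A Ω[A⁄k] 1 ≤ L :=
    (fit_two_le_iff (fun i => KaehlerDifferential.D k A (![u, v] i)) (span_dGen _ hspan2) L).2 fun z hz i =>
      coeff_mem_of_gradients hm hind L le_sup_right
        (fun a b c hq => ⟨hlG (2 * a, b) ⟨a, b, c, hq, Or.inl rfl⟩, hlG (b, 2 * c) ⟨a, b, c, hq, Or.inr rfl⟩⟩) z hz i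
  rw [hJ] at hle
  obtain ⟨s, t, hst⟩ := Ideal.mem_span_pair.1 (hm ▸ hl : l ∈ Ideal.span {u, v})
  have key : ∀ w ∈ maximalIdeal A, ∃ p, w - p * l ∈ maximalIdeal A ^ 2 := fun w hw => by
    obtain ⟨w₁, hw₁, w₂, hw₂, rfl⟩ := Submodule.mem_sup.1 (hle hw)
    obtain ⟨p, rfl⟩ := Ideal.mem_span_singleton'.1 hw₁
    exact ⟨p, by simpa using hw₂⟩
  obtain ⟨p, hp⟩ := key u (hmem 0)
  obtain ⟨r, hr⟩ := key v (hmem 1)
  obtain ⟨h1, h2'⟩ := hind (1 - p * s) (-(p * t)) (by
    rw [show (1 - p * s) * u + -(p * t) * v = u - p * (s * u + t * v) by ring, hst]; exact hp)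
  obtain ⟨h3, h4⟩ := hind (-(r * s)) (1 - r * t) (by
    rw [show -(r * s) * u + (1 - r * t) * v = v - r * (s * u + t * v) by ring, hst]; exact hr)
  rw [← residue_eq_zero_iff, map_sub, map_one, map_mul, sub_eq_zero] at h1 h4
  rw [← residue_eq_zero_iff, map_neg, map_mul, neg_eq_zero] at h2' h3
  have : (residue A p * residue A s) * (residue A r * residue A t) =
      (residue A p * residue A t) * (residue A r * residue A s) := by ring
  rw [← h1, ← h4, h2', zero_mul, one_mul] at this
  exact one_ne_zero this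

end NodalLib

end
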