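import Groth.Agent.NodalLib.FitNode
import Groth.Agent.NodalLib.StalkSmooth
import Groth.Agent.FittLib.OmegaFitt
import Groth.Agent.SDivLib.Stalk
import Groth.Agent.FComplLib.Modules
import Mathlib.RingTheory.RingHom.Unramified

/-!
# Stalks of Fitting ideal sheaves of differentials over a field
-/

set_option autoImplicit false
set_option linter.style.haveILetI false
set_option linter.unusedSectionVars false
set_option maxHeartbeats 1000000
set_option synthInstance.maxHeartbeats 100000
set_option backward.isDefEq.respectTransparency false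
set_option backward.isDefEq.respectTransparency.types false

universe u

open CategoryTheory CategoryTheory.Limits AlgebraicGeometry IsLocalRing

noncomputable section

namespace NodalLib

variable (k : Type u) [Field k] {X : Scheme.{u}} [X.Over (Spec (CommRingCat.of k))]
  [LocallyOfFiniteType (X ↘ Spec (CommRingCat.of k))]

/-- The stalk of a Fitting ideal sheaf of differentials is the Fitting ideal of the differentials of the local ring. -/
theorem stalkIdeal_fit {Ω' : X.Modules} {d : OmegaSh.Der (X ↘ Spec (CommRingCat.of k)) Ω'}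
    (hd : OmegaSh.IsUniversal d) (r : ℕ) (x : X) :
    letI := Curv2.stalkAlgebra k X x
    IntMult.stalkIdeal (Fitt.sheafIdeal Ω' r) x = Fitt.ideal (X.presheaf.stalk x) (Ω[(X.presheaf.stalk x)⁄k]) r := by
  let f := X ↘ Spec (CommRingCat.of k)
  letI := Curv2.stalkAlgebra k X x
  obtain ⟨U, hU, hxU, -⟩ := exists_isAffineOpen_mem_and_subset (x := x) (U := ⊤) trivial
  have hft : CohB1.IsFT Ω' := OmegaAffLib.isFT_of_isUniversal hd
  haveI : Coh.IsQCoh Ω' := OmegaAffLib.isQCoh_of_isUniversal hd
  rw [SDivLib.stalkIdeal_eq _ ⟨U, hU⟩ hxU, FittLib.sheafIdeal_ideal Ω' hft r ⟨U, hU⟩]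
  let R := Γ(Spec (CommRingCat.of k), ⊤)
  let B := Γ(X, U)
  have e₁ : U ≤ f ⁻¹ᵁ ⊤ := le_top
  letI algB : Algebra R B := (f.appLE ⊤ U e₁).hom.toAlgebra
  obtain ⟨e, -⟩ := OmegaAffLib.exists_equiv_alg hd (isAffineOpen_top _) hU e₁ (alg := algB) rfl
  haveI : Module.Finite Γ(X, U) Γ(Ω', U) := QCohLib.finite_of_isFT hft hU
  haveI : Module.Finite B Ω[B⁄R] := Module.Finite.equiv e.symm
  rw [← FittLib.ideal_congr e r]
  letI : Algebra B (X.presheaf.stalk x) := X.presheaf.algebra_section_stalk (⟨x, hxU⟩ : U)
  haveI : IsLocalization.AtPrime (X.presheaf.stalk x) (hU.primeIdealOf ⟨x, hxU⟩).asIdeal :=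
    hU.isLocalization_stalk ⟨x, hxU⟩
  letI : Algebra R k := (Scheme.ΓSpecIso (CommRingCat.of k)).hom.hom.toAlgebra
  letI : Algebra R (X.presheaf.stalk x) := ((algebraMap B (X.presheaf.stalk x)).comp (algebraMap R B)).toAlgebra
  haveI : IsScalarTower R B (X.presheaf.stalk x) := IsScalarTower.of_algebraMap_eq' rfl
  haveI : IsScalarTower R k (X.presheaf.stalk x) := IsScalarTower.of_algebraMap_eq fun t => by
    show (X.presheaf.germ U x hxU).hom ((f.appLE ⊤ U e₁).hom t) =
      (X.presheaf.germ ⊤ x trivial).hom ((f.appTop).hom ((Scheme.ΓSpecIso (CommRingCat.of k)).inv.hom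
        ((Scheme.ΓSpecIso (CommRingCat.of k)).hom.hom t)))
    rw [Iso.hom_inv_id_apply, Scheme.Hom.appLE, CommRingCat.comp_apply, X.presheaf.germ_res_apply]
    rfl
  haveI : Algebra.FormallyUnramified R k := Algebra.FormallyUnramified.of_surjective (Algebra.ofId R k)
    fun c => ⟨(Scheme.ΓSpecIso (CommRingCat.of k)).inv.hom c, by
      show (Scheme.ΓSpecIso (CommRingCat.of k)).hom.hom ((Scheme.ΓSpecIso (CommRingCat.of k)).inv.hom c) = c
      rw [Iso.inv_hom_id_apply]⟩
  haveI : Algebra.FormallyEtale B (X.presheaf.stalk x) :=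
    Algebra.FormallyEtale.of_isLocalization (hU.primeIdealOf ⟨x, hxU⟩).asIdeal.primeCompl
  rw [FittLib.ideal_isBaseChange (OmegaAffLib.isBaseChange_map_of_etale R B k (X.presheaf.stalk x)) r]
  rfl

/-- A morphism to a field is formally unramified iff it is so at every local algebra. -/
theorem formallyUnramified_iff_stalk :
    FormallyUnramified (X ↘ Spec (CommRingCat.of k)) ↔
      ∀ x : X, letI := Curv2.stalkAlgebra k X x; Algebra.FormallyUnramified k (X.presheaf.stalk x) := by
  let f := X ↘ Spec (CommRingCat.of k)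
  have key : ∀ x : X, (f.stalkMap x).hom.FormallyUnramified ↔
      (Curv2.stalkMap k X x).FormallyUnramified := by
    intro x
    let γ : k →+* (Spec (CommRingCat.of k)).presheaf.stalk (f x) :=
      ((Spec (CommRingCat.of k)).presheaf.germ ⊤ (f x) trivial).hom.comp (Scheme.ΓSpecIso (CommRingCat.of k)).inv.hom
    have hγ : Function.Surjective γ := by
      intro z
      let S := Spec (CommRingCat.of k)
      let φ := (Scheme.ΓSpecIso (CommRingCat.of k)).commRingCatIsoToRingEquiv
      letI := S.presheaf.algebra_section_stalk (⟨f x, trivial⟩ : (⊤ : S.Opens))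
      haveI : IsLocalization.AtPrime (S.presheaf.stalk (f x))
          ((isAffineOpen_top S).primeIdealOf ⟨f x, trivial⟩).asIdeal :=
        (isAffineOpen_top S).isLocalization_stalk ⟨f x, trivial⟩
      obtain ⟨⟨a, s⟩, hs⟩ := IsLocalization.surj
        ((isAffineOpen_top S).primeIdealOf ⟨f x, trivial⟩).asIdeal.primeCompl z
      have hs0 : φ s.1 ≠ 0 := fun h0 => s.2 (by
        rw [show s.1 = 0 from φ.injective (h0.trans (map_zero φ).symm)]
        exact zero_mem _)
      refine ⟨φ a / φ s.1, ?_⟩
      show algebraMap Γ(S, ⊤) (S.presheaf.stalk (f x)) (φ.symm (φ a / φ s.1)) = z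
      refine (IsLocalization.map_units (S.presheaf.stalk (f x)) s).mul_left_inj.1 ?_
      rw [hs, ← map_mul]
      congr 1
      apply φ.injective
      rw [map_mul, φ.apply_symm_apply, div_mul_cancel₀ _ hs0]
    have hcomp : (f.stalkMap x).hom.comp γ = Curv2.stalkMap k X x := RingHom.ext fun c =>
      Scheme.Hom.germ_stalkMap_apply f ⊤ x trivial _
    rw [← hcomp]
    exact ⟨fun h => RingHom.FormallyUnramified.stableUnderComposition _ _
      (RingHom.FormallyUnramified.of_surjective hγ) h, fun h => RingHom.FormallyUnramified.of_comp h⟩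
  constructor
  · intro h x
    exact (key x).1 (AlgebraicGeometry.FormallyUnramified.stalkMap f x)
  · intro h
    exact HasRingHomProperty.of_stalkMap RingHom.FormallyUnramified.ofLocalizationPrime fun x => (key x).2 (h x)

end NodalLib

end
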