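import Groth.Agent.NodalLib.GeoNode
import Mathlib.RingTheory.Unramified.Finite
import Mathlib.RingTheory.Unramified.Field
import Mathlib.RingTheory.Localization.Away.Basic

/-!
# Geometric nodes and change of the base field
-/

set_option autoImplicit false
set_option linter.style.haveILetI false
set_option linter.unusedSectionVars false
set_option maxHeartbeats 1000000
set_option synthInstance.maxHeartbeats 100000

universe u

open IsLocalRing TensorProduct

noncomputable section

namespace NodalLib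

/-- Tensoring a flat homomorphism stays flat. -/
theorem flat_map_id {k : Type u} [Field k] {C D Ω : Type u} [CommRing C] [CommRing D] [CommRing Ω] [Algebra k C]
    [Algebra k D] [Algebra k Ω] (f : C →ₐ[k] D) (hf : f.toRingHom.Flat) :
    (Algebra.TensorProduct.map (AlgHom.id Ω Ω) f).toRingHom.Flat := by
  letI : Algebra C D := f.toRingHom.toAlgebra
  haveI : IsScalarTower k C D := IsScalarTower.of_algebraMap_eq fun c => (f.commutes c).symm
  haveI : Module.Flat C D := hf
  let e := (Algebra.TensorProduct.comm k D Ω).toRingEquiv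
  let c := Algebra.TensorProduct.cancelBaseChange k C C D Ω
  have : (Algebra.TensorProduct.map (AlgHom.id Ω Ω) f).toRingHom = (e.toRingHom.comp
      ((c.toRingEquiv.toRingHom.comp (Algebra.TensorProduct.includeRight (R := C) (A := D) (B := C ⊗[k] Ω)).toRingHom).comp
        (Algebra.TensorProduct.comm k Ω C).toRingEquiv.toRingHom)) := by
    apply RingHom.ext
    intro z
    induction z using TensorProduct.induction_on with
    | zero => simp
    | tmul b a => simp [e, c, Algebra.smul_def, RingHom.algebraMap_toAlgebra]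
    | add v w hv hw => rw [map_add, map_add, hv, hw]
  rw [this]
  refine RingHom.Flat.comp (RingHom.Flat.comp (RingHom.Flat.of_bijective
    (Algebra.TensorProduct.comm k Ω C).bijective) (RingHom.Flat.comp ?_ (RingHom.Flat.of_bijective c.bijective)))
    (RingHom.Flat.of_bijective e.bijective)
  let ec := Algebra.TensorProduct.comm C (C ⊗[k] Ω) D
  have : (Algebra.TensorProduct.includeRight (R := C) (A := D) (B := C ⊗[k] Ω)).toRingHom =
      ec.toRingEquiv.toRingHom.comp (algebraMap (C ⊗[k] Ω) ((C ⊗[k] Ω) ⊗[C] D)) := by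
    apply RingHom.ext
    intro z
    simp [ec]
  rw [this]
  exact RingHom.Flat.comp (RingHom.flat_algebraMap_iff.2 inferInstance) (RingHom.Flat.of_bijective ec.bijective)

variable {k : Type u} [Field k] {A : Type u} [CommRing A] [Algebra k A] [IsLocalRing A] [Algebra.EssFiniteType k A]

/-- Extending the base field to a field `K` and localising over the closed point. -/
theorem isGeoNode_baseField {K : Type u} [Field K] [Algebra k K] (P : PrimeSpectrum (K ⊗[k] A))
    (hP : P.asIdeal.comap (Algebra.TensorProduct.includeRight (R := k) (A := K) (B := A)).toRingHom = maximalIdeal A)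
    (A' : Type u) [CommRing A'] [IsLocalRing A'] [Algebra (K ⊗[k] A) A'] [Algebra K A'] [Algebra k A']
    [IsScalarTower K (K ⊗[k] A) A'] [IsScalarTower k (K ⊗[k] A) A'] [IsScalarTower k K A']
    [IsLocalization.AtPrime A' P.asIdeal] : IsGeoNode k A ↔ IsGeoNode K A' := by
  haveI : Algebra.EssFiniteType (K ⊗[k] A) A' := Algebra.EssFiniteType.of_isLocalization _ P.asIdeal.primeCompl
  haveI : Algebra.EssFiniteType K A' := Algebra.EssFiniteType.comp K (K ⊗[k] A) A'
  let Ω := AlgebraicClosure (ResidueField A')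
  let φ' : A' →ₐ[K] Ω :=
    (IsScalarTower.toAlgHom K (ResidueField A') _).comp (IsScalarTower.toAlgHom K A' (ResidueField A'))
  have hφ' : ∀ a ∈ maximalIdeal A', φ' a = 0 := fun a ha => by
    show algebraMap (ResidueField A') _ (residue A' a) = 0
    rw [(residue_eq_zero_iff a).2 ha, map_zero]
  haveI : IsScalarTower k K Ω := IsScalarTower.of_algebraMap_eq fun c => by
    rw [IsScalarTower.algebraMap_apply k A' Ω, IsScalarTower.algebraMap_apply k K A',
      ← IsScalarTower.algebraMap_apply K A' Ω]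
  let φ : A →ₐ[k] Ω := (φ'.restrictScalars k).comp (toLoc (k := k) (A := A) K A')
  have hφ : ∀ a ∈ maximalIdeal A, φ a = 0 := fun a ha => by
    refine hφ' _ ?_
    rw [← IsLocalization.AtPrime.map_eq_maximalIdeal P.asIdeal A']
    exact Ideal.mem_map_of_mem _ (show a ∈ P.asIdeal.comap
      (Algebra.TensorProduct.includeRight (R := k) (A := K) (B := A)).toRingHom from hP.ge ha)
  rw [isGeoNode_iff φ hφ, isGeoNode_iff φ' hφ']
  haveI := isNoetherianRing_GLoc φ
  haveI := isNoetherianRing_GLoc φ'
  let f : K ⊗[k] A →ₐ[K] A' := IsScalarTower.toAlgHom K (K ⊗[k] A) A'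
  let c := Algebra.TensorProduct.cancelBaseChange k K Ω Ω A
  let ψ : Ω ⊗[k] A →+* Ω ⊗[K] A' :=
    (Algebra.TensorProduct.map (AlgHom.id Ω Ω) f).toRingHom.comp c.symm.toRingEquiv.toRingHom
  have hψ : ∀ (w : Ω) (a : A), ψ (w ⊗ₜ a) = w ⊗ₜ toLoc (k := k) (A := A) K A' a := fun w a => by
    simp [ψ, c, f, toLoc]
  refine geoODP_transfer φ φ' (RingHom.id Ω) ψ ?_ (fun z => ?_) (fun I hI a => ?_)
  · exact RingHom.Flat.comp (RingHom.Flat.of_bijective c.symm.bijective)
      (flat_map_id f (RingHom.flat_algebraMap_iff.2 (IsLocalization.flat A' P.asIdeal.primeCompl)))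
  · induction z using TensorProduct.induction_on with
    | zero => simp
    | tmul w a => rw [hψ, geoEv_tmul, geoEv_tmul]; rfl
    | add v w hv hw => simp only [map_add, hv, hw]
  · let ρ : A' →ₐ[K] GLoc φ' :=
      (IsScalarTower.toAlgHom K (Ω ⊗[K] A') _).comp Algebra.TensorProduct.includeRight
    let σ : Ω →ₐ[K] GLoc φ' := IsScalarTower.toAlgHom K Ω _
    have hd : ∀ b, ρ b - σ (φ' b) = algebraMap _ (GLoc φ') ((1 : Ω) ⊗ₜ[K] b - φ' b ⊗ₜ[K] (1 : A')) := fun b => by
      rw [map_sub]; rfl
    let S : Subalgebra K A' := AlgHom.equalizer ((Ideal.Quotient.mkₐ K I).comp ρ)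
      ((Ideal.Quotient.mkₐ K I).comp (σ.comp φ'))
    have hS : ∀ b, b ∈ S ↔ Ideal.Quotient.mk I (ρ b) = Ideal.Quotient.mk I (σ (φ' b)) := fun b => Iff.rfl
    have h := loc_induction K P A' S (fun b => by
      rw [hS, Ideal.Quotient.eq, hd]
      have := hI ((1 : Ω) ⊗ₜ[k] b - φ b ⊗ₜ[k] (1 : A)) (by simp)
      rw [map_sub, hψ, hψ] at this
      simpa [φ] using this) (fun b r hr hrS hbr => by
        rw [hS] at hrS hbr ⊢
        rw [map_mul ρ, map_mul φ', map_mul σ, map_mul, map_mul, ← hrS] at hbr
        exact ((hr.map ρ).map (Ideal.Quotient.mk I)).mul_left_inj.1 hbr) a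
    rw [hS, Ideal.Quotient.eq, hd] at h
    exact h

/-- Restricting a finite separable base field. -/
theorem isGeoNode_sep {k' : Type u} [Field k'] [Algebra k k'] [Algebra.IsSeparable k k'] [FiniteDimensional k k']
    [Algebra k' A] [IsScalarTower k k' A] [Algebra.EssFiniteType k' A] : IsGeoNode k A ↔ IsGeoNode k' A := by
  let Ω := AlgebraicClosure (ResidueField A)
  let φ' : A →ₐ[k'] Ω :=
    (IsScalarTower.toAlgHom k' (ResidueField A) _).comp (IsScalarTower.toAlgHom k' A (ResidueField A))
  have hφ' : ∀ a ∈ maximalIdeal A, φ' a = 0 := fun a ha => by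
    show algebraMap (ResidueField A) _ (residue A a) = 0
    rw [(residue_eq_zero_iff a).2 ha, map_zero]
  haveI : IsScalarTower k k' Ω := IsScalarTower.of_algebraMap_eq fun c => by
    rw [IsScalarTower.algebraMap_apply k A Ω, IsScalarTower.algebraMap_apply k k' A,
      ← IsScalarTower.algebraMap_apply k' A Ω]
  let φ : A →ₐ[k] Ω := φ'.restrictScalars k
  rw [isGeoNode_iff φ hφ', isGeoNode_iff φ' hφ']
  haveI := isNoetherianRing_GLoc φ
  haveI := isNoetherianRing_GLoc φ'
  haveI := Algebra.FormallyUnramified.of_isSeparable k k'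
  let ψ : Ω ⊗[k] A →ₐ[Ω] Ω ⊗[k'] A :=
    Algebra.TensorProduct.lift (Algebra.ofId Ω _)
      ((Algebra.TensorProduct.includeRight (R := k') (A := Ω) (B := A)).restrictScalars k)
      (fun _ _ => Commute.all _ _)
  have hψ : ∀ (w : Ω) (a : A), ψ (w ⊗ₜ[k] a) = w ⊗ₜ[k'] a := fun w a => by simp [ψ]
  have hψs : Function.Surjective ψ := fun z => by
    induction z using TensorProduct.induction_on with
    | zero => exact ⟨0, map_zero _⟩
    | tmul w a => exact ⟨w ⊗ₜ a, hψ w a⟩
    | add v w hv hw =>
      obtain ⟨v, rfl⟩ := hv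
      obtain ⟨w, rfl⟩ := hw
      exact ⟨v + w, map_add _ _ _⟩
  -- the idempotent cutting out `Ω ⊗[k'] A`
  let j : k' ⊗[k] k' →ₐ[k] Ω ⊗[k] A :=
    Algebra.TensorProduct.map (IsScalarTower.toAlgHom k k' Ω) (IsScalarTower.toAlgHom k k' A)
  let e : Ω ⊗[k] A := j (Algebra.FormallyUnramified.elem k k')
  have hψj : ∀ t, ψ (j t) = algebraMap k' _ (Algebra.TensorProduct.lmul' k t) := fun t => by
    induction t using TensorProduct.induction_on with
    | zero => simp
    | tmul c d =>
      rw [Algebra.TensorProduct.lmul'_apply_tmul, Algebra.TensorProduct.algebraMap_apply]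
      show ψ (algebraMap k' Ω c ⊗ₜ[k] algebraMap k' A d) = algebraMap k' Ω (c * d) ⊗ₜ[k'] (1 : A)
      rw [hψ, Algebra.algebraMap_eq_smul_one (A := A) d, ← TensorProduct.smul_tmul, Algebra.smul_def, ← map_mul,
        mul_comm d c]
    | add v w hv hw => simp only [map_add, hv, hw]
  have he1 : ψ e = 1 := by rw [hψj, Algebra.FormallyUnramified.lmul_elem, map_one]
  have hkill : ∀ c : k', ((1 : Ω) ⊗ₜ[k] algebraMap k' A c - algebraMap k' Ω c ⊗ₜ[k] (1 : A)) * e = 0 := fun c => by
    have := congrArg j (Algebra.FormallyUnramified.one_tmul_sub_tmul_one_mul_elem (R := k) c)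
    simpa [j, e] using this
  have hker : ∀ z, ψ z = 0 → z * e = 0 := fun z hz => by
    let Le := Localization.Away e
    let r₀ : Ω ⊗[k] A →+* Le := algebraMap _ _
    have hc : ∀ c : k', r₀ ((1 : Ω) ⊗ₜ algebraMap k' A c) = r₀ (algebraMap k' Ω c ⊗ₜ (1 : A)) := fun c => by
      have h1 := congrArg r₀ (hkill c)
      rw [map_mul, map_zero] at h1
      exact sub_eq_zero.1 (map_sub r₀ _ _ ▸ (IsLocalization.map_units Le ⟨e, Submonoid.mem_powers e⟩).mul_left_eq_zero.1 h1)
    have hk' : ∀ c : k', algebraMap k' Le c = r₀ (algebraMap k' Ω c ⊗ₜ (1 : A)) := fun c =>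
      IsScalarTower.algebraMap_apply k' (Ω ⊗[k] A) Le c
    let g₁ : Ω →ₐ[k'] Le := { r₀.comp (algebraMap Ω (Ω ⊗[k] A)) with commutes' := fun c => (hk' c).symm }
    let g₂ : A →ₐ[k'] Le :=
      { r₀.comp (Algebra.TensorProduct.includeRight (R := k) (A := Ω) (B := A)).toRingHom with
        commutes' := fun c => (hc c).trans (hk' c).symm }
    let g := Algebra.TensorProduct.lift g₁ g₂ (fun _ _ => Commute.all _ _)
    have hgl : ∀ (w : Ω) (a : A), g (w ⊗ₜ a) = g₁ w * g₂ a := fun w a => Algebra.TensorProduct.lift_tmul _ _ _ _ _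
    have hg : ∀ y, g (ψ y) = r₀ y := fun y => by
      induction y using TensorProduct.induction_on with
      | zero => simp
      | tmul w a =>
        rw [hψ, hgl]
        show r₀ (w ⊗ₜ[k] 1) * r₀ (1 ⊗ₜ[k] a) = _
        rw [← map_mul]; simp
      | add v w hv hw => simp only [map_add, hv, hw]
    have h1 : r₀ z = 0 := by rw [← hg, hz, map_zero]
    obtain ⟨⟨_, n, rfl⟩, hn⟩ := (IsLocalization.map_eq_zero_iff (Submonoid.powers e) Le z).1 h1
    have hee : IsIdempotentElem e := by
      refine IsIdempotentElem.map ?_ j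
      unfold IsIdempotentElem
      have key : ∀ t : k' ⊗[k] k', t * Algebra.FormallyUnramified.elem k k' =
          (Algebra.TensorProduct.lmul' k t ⊗ₜ[k] (1 : k')) * Algebra.FormallyUnramified.elem k k' := fun t => by
        induction t using TensorProduct.induction_on with
        | zero => simp
        | tmul a b =>
          rw [show a ⊗ₜ[k] b = (a ⊗ₜ[k] (1 : k')) * ((1 : k') ⊗ₜ[k] b) by simp, mul_assoc,
            Algebra.FormallyUnramified.one_tmul_mul_elem, ← mul_assoc]
          simp
        | add v w hv hw => rw [add_mul, hv, hw, map_add, TensorProduct.add_tmul, add_mul]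
      rw [key, Algebra.FormallyUnramified.lmul_elem, ← Algebra.TensorProduct.one_def, one_mul]
    rcases n with - | n
    · simp only [pow_zero, one_mul] at hn; simp [hn]
    · simp only [hee.pow_succ_eq] at hn; rw [mul_comm]; exact hn
  have hflat : ψ.toRingHom.Flat := by
    letI : Algebra (Ω ⊗[k] A) (Ω ⊗[k'] A) := ψ.toRingHom.toAlgebra
    haveI : IsLocalization.Away e (Ω ⊗[k'] A) :=
      { map_units := by
          rintro ⟨_, n, rfl⟩
          show IsUnit (ψ (e ^ n))
          rw [map_pow, he1, one_pow]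
          exact isUnit_one
        surj := fun z => by
          obtain ⟨y, rfl⟩ := hψs z
          exact ⟨⟨y, 1⟩, by simp; rfl⟩
        exists_of_eq := fun {y z} h => ⟨⟨e, Submonoid.mem_powers e⟩, by
          have h2 := hker (y - z) (by rw [map_sub]; exact sub_eq_zero.2 h)
          rw [sub_mul, sub_eq_zero] at h2
          simpa [mul_comm] using h2⟩ }
    exact RingHom.flat_algebraMap_iff.2 (IsLocalization.flat (Ω ⊗[k'] A) (Submonoid.powers e))
  refine geoODP_transfer φ φ' (RingHom.id Ω) ψ.toRingHom hflat (fun z => ?_) (fun I hI a => ?_)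
  · induction z using TensorProduct.induction_on with
    | zero => simp
    | tmul w a =>
      show geoEv φ' (ψ (w ⊗ₜ a)) = _
      rw [hψ, geoEv_tmul, geoEv_tmul]
      rfl
    | add v w hv hw => simp only [map_add, hv, hw]
  · have := hI ((1 : Ω) ⊗ₜ[k] a - φ a ⊗ₜ[k] (1 : A)) (by simp)
    rw [show ψ.toRingHom ((1 : Ω) ⊗ₜ[k] a - φ a ⊗ₜ[k] (1 : A)) = ψ _ from rfl, map_sub ψ, hψ, hψ] at this
    exact this

end NodalLib

end
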