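import Groth.Agent.NodalLib.Dualizing
import Groth.Agent.NefH1Lib.Adjunction.FieldGenus
import Groth.Agent.QFDualLib.BaseChange

/-!
# A subcurve meets its complement in a reduced scheme on a nodal curve
-/

set_option autoImplicit false
set_option linter.style.haveILetI false
set_option linter.unusedSectionVars false
set_option maxHeartbeats 1000000
set_option synthInstance.maxHeartbeats 200000
set_option backward.isDefEq.respectTransparency false
set_option backward.isDefEq.respectTransparency.types false

universe u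

open CategoryTheory CategoryTheory.Limits AlgebraicGeometry TopologicalSpace
open NefH1Lib.Subcurve
open IsLocalRing (maximalIdeal)

noncomputable section

namespace NodalLib

/-- Finite reduced algebras over algebraically closed fields have as many points as dimensions. -/
theorem finrank_eq_card_spec {k R : Type u} [Field k] [IsAlgClosed k] [CommRing R] [Algebra k R] [Module.Finite k R]
    [_root_.IsReduced R] : Module.finrank k R = Nat.card (PrimeSpectrum R) := by
  haveI : IsArtinianRing R := IsArtinianRing.of_finite k R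
  letI := Fintype.ofFinite (MaximalSpectrum R)
  let f : R →ₗ[k] (∀ m : MaximalSpectrum R, R ⧸ m.asIdeal) :=
    LinearMap.pi fun m => (Ideal.Quotient.mkₐ k m.asIdeal).toLinearMap
  have hf : Function.Bijective f := (IsArtinianRing.equivPi R).bijective
  have h1 : ∀ m : MaximalSpectrum R, Module.finrank k (R ⧸ m.asIdeal) = 1 := fun m => by
    haveI := m.isMaximal
    letI := Ideal.Quotient.field m.asIdeal
    haveI : Algebra.IsIntegral k (R ⧸ m.asIdeal) := Algebra.IsIntegral.of_finite k _
    have hb : Function.Bijective (algebraMap k (R ⧸ m.asIdeal)) :=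
      IsAlgClosed.algebraMap_bijective_of_isIntegral
    rw [← (LinearEquiv.ofBijective (Algebra.linearMap k (R ⧸ m.asIdeal)) hb).finrank_eq, Module.finrank_self]
  rw [(LinearEquiv.ofBijective f hf).finrank_eq, Module.finrank_pi_fintype,
    Nat.card_congr (IsArtinianRing.primeSpectrumEquivMaximalSpectrum (R := R)), Nat.card_eq_fintype_card]
  simp [h1]

variable (k : Type u) [Field k] {X : Scheme.{u}} [X.Over (Spec (CommRingCat.of k))]
  [IsProper (X ↘ Spec (CommRingCat.of k))]

/-- Complementary ideals at a node add up to the maximal ideal. -/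
theorem branches_node {x : X} (h : Curv2.IsNode k X x) (P Q : Ideal (X.presheaf.stalk x)) (hP : P ≠ ⊥) (hQ : Q ≠ ⊥)
    (hPQ : Submodule.annihilator Q = P) (hQP : Submodule.annihilator P = Q) :
    P ⊔ Q = maximalIdeal (X.presheaf.stalk x) := by
  obtain ⟨-, xb, rfl, e, -⟩ := h
  let K := AlgebraicClosure k
  let q := Curv2.bcFst k X K
  haveI : IsLocallyNoetherian X := LocallyOfFiniteType.isLocallyNoetherian (X ↘ Spec (CommRingCat.of k))
  haveI : LocallyOfFiniteType (Curv2.bcSnd k X K) :=
    MorphismProperty.pullback_snd (P := @LocallyOfFiniteType) _ _ inferInstance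
  haveI : IsLocallyNoetherian (Curv2.bc k X K) := LocallyOfFiniteType.isLocallyNoetherian (Curv2.bcSnd k X K)
  haveI : Flat (Spec.map (CommRingCat.ofHom (algebraMap k K))) := by
    rw [HasRingHomProperty.Spec_iff (P := @Flat)]
    exact RingHom.flat_algebraMap_iff.mpr inferInstance
  haveI : Flat q := MorphismProperty.pullback_fst (P := @Flat) _ _ ‹_›
  let A := X.presheaf.stalk (q xb)
  let B := (Curv2.bc k X K).presheaf.stalk xb
  letI : Algebra A B := (q.stalkMap xb).hom.toAlgebra
  haveI : IsLocalHom (algebraMap A B) := inferInstanceAs (IsLocalHom (q.stalkMap xb).hom)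
  haveI : Module.Flat A B := Flat.stalkMap q xb
  haveI : Module.FaithfullyFlat A B := Module.FaithfullyFlat.of_flat_of_isLocalHom
  have hinj := FaithfulSMul.algebraMap_injective A B
  have hne : ∀ L : Ideal A, L ≠ ⊥ → L.map (algebraMap A B) ≠ ⊥ := fun L hL h0 =>
    hL (eq_bot_iff.mpr fun a ha => hinj (by
      rw [map_zero]
      exact Ideal.mem_bot.mp (h0 ▸ Ideal.mem_map_of_mem (algebraMap A B) ha)))
  have h2 := branches_of_node (A := B) e (P.map (algebraMap A B)) (Q.map (algebraMap A B)) (hne P hP) (hne Q hQ)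
    (by rw [QFDualLib.annihilator_map_of_flat (P := A) (Q := B) (IsNoetherian.noetherian Q), hPQ])
    (by rw [QFDualLib.annihilator_map_of_flat (P := A) (Q := B) (IsNoetherian.noetherian P), hQP])
  have h3 := congrArg (Ideal.comap (algebraMap A B)) h2
  rw [← Ideal.map_sup, Ideal.comap_map_eq_self_of_faithfullyFlat, IsLocalRing.maximalIdeal_comap] at h3
  exact h3

variable [IsReduced X]

include k in
/-- Complementary unions of components of a nodal curve meet in a reduced scheme. -/
theorem isReduced_inter (hX : Curv2.AtWorstNodal k X) {T B : Set X} (hTB : ∀ η ∈ T, η ∉ closure B)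
    (hBT : ∀ η ∈ B, η ∉ closure T) (hcov : closure T ∪ closure B = Set.univ) :
    AlgebraicGeometry.IsReduced (sub T ⊔ sub B).subscheme := by
  haveI : IsLocallyNoetherian X := LocallyOfFiniteType.isLocallyNoetherian (X ↘ Spec (CommRingCat.of k))
  haveI : JacobsonSpace X := LocallyOfFiniteType.jacobsonSpace (X ↘ Spec (CommRingCat.of k))
  suffices hrad : Scheme.IdealSheafData.radical (sub T ⊔ sub B) = sub T ⊔ sub B by
    rw [← hrad, ← Scheme.IdealSheafData.vanishingIdeal_support]
    exact DevissLib.isReduced_vanishingIdeal' _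
  refine Scheme.IdealSheafData.ext (funext fun U => ?_)
  rw [Scheme.IdealSheafData.radical_ideal, Scheme.IdealSheafData.ideal_sup, Pi.sup_apply]
  have hmem : ∀ (S : Set X) (f : Γ(X, U.1)), f ∈ (sub S).ideal U ↔
      ∀ p : PrimeSpectrum Γ(X, U.1), U.2.fromSpec p ∈ closure S → f ∈ p.asIdeal := fun S f => by
    rw [sub, Scheme.IdealSheafData.vanishingIdeal_ideal]
    exact PrimeSpectrum.mem_vanishingIdeal _ _
  have hann : ∀ S S' : Set X, (∀ η ∈ S, η ∉ closure S') → closure S ∪ closure S' = Set.univ →
      Submodule.annihilator ((sub S').ideal U) = (sub S).ideal U := by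
    intro S S' hd hc
    ext f
    rw [Submodule.mem_annihilator]
    refine ⟨fun h => (hmem S f).mpr fun p hp => ?_, fun h g hg => ?_⟩
    · by_contra hf
      have hb : U.2.fromSpec p ∈ X.basicOpen f := by
        show p ∈ U.2.fromSpec ⁻¹ᵁ X.basicOpen f
        rw [IsAffineOpen.fromSpec_preimage_basicOpen]
        exact hf
      obtain ⟨η, hη, hηS⟩ := mem_closure_iff.mp hp _ (X.basicOpen f).2 hb
      have hηU : η ∈ U.1 := X.basicOpen_le f hη
      obtain ⟨q, rfl⟩ : η ∈ Set.range U.2.fromSpec := U.2.range_fromSpec.ge hηU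
      have hfq : f ∉ q.asIdeal := by
        change q ∈ U.2.fromSpec ⁻¹ᵁ X.basicOpen f at hη
        rw [IsAffineOpen.fromSpec_preimage_basicOpen] at hη
        exact hη
      refine hd _ hηS ?_
      by_contra hq
      have hqI : ¬ ((sub S').ideal U : Set Γ(X, U.1)) ⊆ q.asIdeal := fun hsub => hq (by
        have h1 : q ∈ U.2.fromSpec ⁻¹' ((sub S').support : Set X) := by
          have h2 := (sub S').coe_support_inter U
          have h3 : U.2.fromSpec q ∈ X.zeroLocus (U := U.1) ((sub S').ideal U) ∩ U.1 := by
            refine ⟨?_, hηU⟩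
            have h4 : q ∈ U.2.fromSpec ⁻¹' X.zeroLocus (U := U.1) ((sub S').ideal U) := by
              rw [IsAffineOpen.fromSpec_preimage_zeroLocus]
              exact hsub
            exact h4
          exact (h2.ge h3).1
        rwa [Set.mem_preimage, support_sub] at h1)
      obtain ⟨g, hg, hgq⟩ := Set.not_subset.mp hqI
      rcases q.isPrime.mem_or_mem (show f * g ∈ q.asIdeal by rw [show f * g = 0 from h g hg]; exact q.asIdeal.zero_mem) with h' | h'
      · exact hfq h'
      · exact hgq h'
    · rw [smul_eq_mul]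
      refine (isNilpotent_iff_eq_zero).mp (nilpotent_iff_mem_prime.mpr fun J hJ => ?_)
      rcases (Set.ext_iff.mp hc (U.2.fromSpec ⟨J, hJ⟩)).mpr trivial with h' | h'
      · exact J.mul_mem_right _ ((hmem S f).mp h ⟨J, hJ⟩ h')
      · exact J.mul_mem_left _ ((hmem S' g).mp hg ⟨J, hJ⟩ h')
  set I := (sub T).ideal U
  set I' := (sub B).ideal U
  have hI : Submodule.annihilator I' = I := hann T B hTB hcov
  have hI' : Submodule.annihilator I = I' := hann B T hBT (Set.union_comm _ _ ▸ hcov)
  haveI : IsNoetherianRing Γ(X, U.1) := IsLocallyNoetherian.component_noetherian U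
  haveI : _root_.IsReduced Γ(X, U.1) := inferInstance
  refine le_antisymm (Ideal.le_of_localization_maximal fun m hm => Ideal.map_le_iff_le_comap.mpr fun f hf => ?_)
    Ideal.le_radical
  show algebraMap Γ(X, U.1) (Localization.AtPrime m) f ∈ (I ⊔ I').map (algebraMap Γ(X, U.1) (Localization.AtPrime m))
  by_cases hle : I ⊔ I' ≤ m
  swap
  · obtain ⟨a, ha, ham⟩ := SetLike.not_le_iff_exists.mp hle
    rw [Ideal.eq_top_of_isUnit_mem _ (Ideal.mem_map_of_mem _ ha) (IsLocalization.map_units (M := m.primeCompl) _ ⟨a, ham⟩)]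
    trivial
  let p : PrimeSpectrum Γ(X, U.1) := ⟨m, hm.isPrime⟩
  have hpc : IsClosed ({U.2.fromSpec p} : Set X) := by
    have h1 : p ∈ closedPoints (Spec Γ(X, U.1)) := (PrimeSpectrum.isClosed_singleton_iff_isMaximal p).mpr hm
    rw [← U.2.fromSpec.isOpenEmbedding.preimage_closedPoints] at h1
    exact h1
  have hpU : U.2.fromSpec p ∈ U.1 := U.2.range_fromSpec.le ⟨p, rfl⟩
  letI : Algebra Γ(X, U.1) (X.presheaf.stalk (U.2.fromSpec p)) :=
    X.presheaf.algebra_section_stalk ⟨U.2.fromSpec p, hpU⟩
  haveI : IsLocalization.AtPrime (X.presheaf.stalk (U.2.fromSpec p)) m := U.2.isLocalization_stalk' p hpU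
  let A := X.presheaf.stalk (U.2.fromSpec p)
  let e := IsLocalization.algEquiv m.primeCompl (Localization.AtPrime m) A
  have hflat : Module.Flat Γ(X, U.1) A := IsLocalization.flat A m.primeCompl
  let P := I.map (algebraMap Γ(X, U.1) A)
  let Q := I'.map (algebraMap Γ(X, U.1) A)
  have hne : ∀ L L' : Ideal Γ(X, U.1), Submodule.annihilator L = L' → L' ≤ m →
      L.map (algebraMap Γ(X, U.1) A) ≠ ⊥ := by
    intro L L' hL hL' h0
    have h1 : Submodule.annihilator (L.map (algebraMap Γ(X, U.1) A)) = ⊤ := by
      rw [h0, Submodule.annihilator_bot]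
    rw [QFDualLib.annihilator_map_of_flat (P := Γ(X, U.1)) (Q := A) (IsNoetherian.noetherian L), hL] at h1
    have h2 : L'.map (algebraMap Γ(X, U.1) A) ≤ maximalIdeal A := by
      refine (Ideal.map_mono hL').trans ?_
      rw [IsLocalization.AtPrime.map_eq_maximalIdeal m A]
    exact (maximalIdeal.isMaximal A).ne_top (top_le_iff.mp (h1 ▸ h2))
  have hPQ : Submodule.annihilator Q = P := by
    rw [QFDualLib.annihilator_map_of_flat (P := Γ(X, U.1)) (Q := A) (IsNoetherian.noetherian I'), hI]
  have hQP : Submodule.annihilator P = Q := by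
    rw [QFDualLib.annihilator_map_of_flat (P := Γ(X, U.1)) (Q := A) (IsNoetherian.noetherian I), hI']
  have hP0 : P ≠ ⊥ := hne I I' hI' (le_sup_right.trans hle)
  have hQ0 : Q ≠ ⊥ := hne I' I hI (le_sup_left.trans hle)
  have hsum : P ⊔ Q = maximalIdeal A := by
    rcases hX _ hpc with ⟨V, hpV, hsm⟩ | hnode
    · exfalso
      letI : (V : Scheme.{u}).Over (Spec (CommRingCat.of k)) := ⟨V.ι ≫ X ↘ Spec (CommRingCat.of k)⟩
      haveI : Smooth ((V : Scheme.{u}) ↘ Spec (CommRingCat.of k)) := hsm
      haveI := Groth.Agent.S1535.result k (V : Scheme.{u}) ⟨_, hpV⟩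
      haveI : IsRegularLocalRing A :=
        IsRegularLocalRing.of_ringEquiv (asIso (V.ι.stalkMap ⟨_, hpV⟩)).commRingCatIsoToRingEquiv.symm
      haveI := CommAlgDim.isDomain_of_isRegularLocalRing A
      obtain ⟨a, ha, ha0⟩ := Submodule.exists_mem_ne_zero_of_ne_bot hP0
      refine hQ0 (eq_bot_iff.mpr fun b hb => ?_)
      have := Submodule.mem_annihilator.mp (hPQ.ge ha) b hb
      exact (mul_eq_zero.mp this).resolve_left ha0
    · exact branches_node k hnode P Q hP0 hQ0 hPQ hQP
  have hf' : algebraMap Γ(X, U.1) A f ∈ (I ⊔ I').map (algebraMap Γ(X, U.1) A) := by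
    rw [Ideal.map_sup]
    refine hsum.ge ?_
    rw [← IsLocalization.AtPrime.map_eq_maximalIdeal m A]
    exact Ideal.mem_map_of_mem _ (hm.isPrime.radical.le (Ideal.radical_mono hle hf))
  have h4 := Ideal.mem_map_of_mem (e.symm : A →+* Localization.AtPrime m) hf'
  rw [Ideal.map_map] at h4
  have hcomp : ((e.symm : A →+* Localization.AtPrime m)).comp (algebraMap Γ(X, U.1) A) =
      algebraMap Γ(X, U.1) (Localization.AtPrime m) := RingHom.ext e.symm.commutes
  rw [hcomp] at h4
  simpa using h4

/-- Over an algebraically closed field a reduced finite subscheme has as many functions as points. -/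
theorem finrank_h0_eq_card [IsAlgClosed k] (J : X.IdealSheafData) [IsReduced J.subscheme]
    (hd : topologicalKrullDim J.subscheme ≤ 0) :
    Module.finrank k (Coh.HH X (ClSub.quotMod J) 0) = Nat.card (J.support : Set X) := by
  haveI := CurvLib.isNoetherian k (X := X)
  let S := J.subscheme
  let f := J.subschemeι ≫ (X ↘ Spec (CommRingCat.of k))
  haveI : IsLocallyArtinian (Spec (CommRingCat.of k)) := Scheme.isLocallyArtinianScheme_Spec.mpr inferInstance
  haveI : IsLocallyNoetherian S := LocallyOfFiniteType.isLocallyNoetherian f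
  haveI : IsLocallyArtinian S := .of_topologicalKrullDim_le_zero hd
  haveI : CompactSpace S := QuasiCompact.compactSpace_of_compactSpace f
  haveI : DiscreteTopology S := inferInstance
  haveI : Finite S := finite_of_compact_of_discrete
  haveI : IsAffine S := inferInstance
  letI : Algebra k Γ(S, ⊤) := (NefH1Lib.Adj.fnHom k J).toAlgebra
  haveI : Module.Finite k Γ(S, ⊤) := NefH1Lib.Adj.finite_fn k J
  rw [NefH1Lib.Adj.finrank_fn k J]
  refine (finrank_eq_card_spec (k := k) (R := Γ(S, ⊤))).trans ?_
  refine (Nat.card_congr S.isoSpec.hom.homeomorph.toEquiv).symm.trans ?_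
  rw [← J.range_subschemeι]
  exact (Nat.card_range_of_injective J.subschemeι.isClosedEmbedding.injective).symm

include k in
/-- A subcurve of a nodal curve meets the rest in finitely many reduced points. -/
theorem inter_facts [ConnectedSpace X] (hdim : topologicalKrullDim X = 1) (hX : Curv2.AtWorstNodal k X)
    (J : X.IdealSheafData) (hr : AlgebraicGeometry.IsReduced J.subscheme) (hc : ConnectedSpace J.subscheme)
    (hd : topologicalKrullDim J.subscheme = 1) :
    let S := J ⊔ Scheme.IdealSheafData.vanishingIdeal ⟨closure ((J.support : Set X)ᶜ), isClosed_closure⟩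
    AlgebraicGeometry.IsReduced S.subscheme ∧ topologicalKrullDim S.subscheme ≤ 0 ∧
      (S.support : Set X) = (J.support : Set X) ∩ closure ((J.support : Set X)ᶜ) := by
  intro S
  haveI := CurvLib.isNoetherian k (X := X)
  obtain ⟨T, B, hTm, hBm, -, hdisj, hcov, rfl, hv⟩ := NefH1Lib.Adj.exists_sub k hdim J hr hc hd
  have hTf : T.Finite := finite_maxPts.subset hTm
  have hBf : B.Finite := finite_maxPts.subset hBm
  have hu : closure T ∪ closure B = Set.univ := Set.eq_univ_of_forall fun x => by
    obtain ⟨η, hη, hsp⟩ := exists_maxPt x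
    rcases hcov η hη with h | h
    · exact Or.inr (closure_mono (Set.singleton_subset_iff.mpr h) (specializes_iff_mem_closure.mp hsp))
    · exact Or.inl (closure_mono (Set.singleton_subset_iff.mpr h) (specializes_iff_mem_closure.mp hsp))
  have hT' : ∀ η ∈ T, η ∉ closure B := fun η h h' => hdisj η h (mem_of_mem_closure hBf (hTm η h) h')
  have hB' : ∀ η ∈ B, η ∉ closure T := fun η h h' => hdisj η (mem_of_mem_closure hTf (hBm η h) h') h
  have hsupp : (S.support : Set X) = ((sub T).support : Set X) ∩ closure (((sub T).support : Set X)ᶜ) := by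
    show ((sub T ⊔ _ : X.IdealSheafData).support : Set X) = _
    rw [Scheme.IdealSheafData.support_sup]
    exact congrArg (((sub T).support : Set X) ∩ ·) (Scheme.IdealSheafData.coe_support_vanishingIdeal _)
  refine ⟨?_, ?_, hsupp⟩
  · show AlgebraicGeometry.IsReduced (sub T ⊔ _ : X.IdealSheafData).subscheme
    rw [hv]
    exact isReduced_inter k hX hT' hB' hu
  · rw [S.subschemeι.isEmbedding.toHomeomorph.isHomeomorph.topologicalKrullDim_eq, S.range_subschemeι]
    refine CurvLib.dim_le_zero_of_no_maximal hdim.le S.support.isClosed fun a ha => ?_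
    obtain ⟨η, hη, hsp⟩ := exists_maxPt a
    refine ⟨η, hsp, fun he => ?_⟩
    subst he
    have h2 : η ∈ ((sub T ⊔ sub B : X.IdealSheafData).support : Set X) := hv ▸ ha
    rw [Scheme.IdealSheafData.support_sup] at h2
    exact hdisj η (mem_of_mem_closure hTf hη (support_sub T ▸ h2.1)) (mem_of_mem_closure hBf hη (support_sub B ▸ h2.2))

/-- Over an algebraically closed field the intersection number counts points. -/
theorem kJ_eq_card [IsAlgClosed k] [ConnectedSpace X] (hdim : topologicalKrullDim X = 1) (hX : Curv2.AtWorstNodal k X)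
    (J : X.IdealSheafData) (hr : AlgebraicGeometry.IsReduced J.subscheme) (hc : ConnectedSpace J.subscheme)
    (hd : topologicalKrullDim J.subscheme = 1) :
    NefH1Lib.Adj.kJ k J = Nat.card ((J.support : Set X) ∩ closure ((J.support : Set X)ᶜ) : Set X) := by
  obtain ⟨h1, h2, h3⟩ := inter_facts k hdim hX J hr hc hd
  haveI := h1
  rw [NefH1Lib.Adj.kJ, finrank_h0_eq_card k _ h2, h3]

end NodalLib

end
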