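import Groth.Agent.NodalLib.Inter
import Groth.Agent.NefH1Lib.Adjunction.Tails
import Groth.Agent.S2122

/-!
# Twisting a nodal curve by marked smooth points
-/

set_option autoImplicit false
set_option linter.style.haveILetI false
set_option linter.unusedSectionVars false
set_option maxHeartbeats 1000000
set_option backward.isDefEq.respectTransparency false
set_option backward.isDefEq.respectTransparency.types false

universe u

open CategoryTheory CategoryTheory.Limits AlgebraicGeometry TopologicalSpace Opposite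
open DevissLib (St gm)
open NefH1Lib.Subcurve
open NefH1Lib.Adj

noncomputable section

namespace NodalLib

variable (k : Type u) [Field k] {X : Scheme.{u}} [X.Over (Spec (CommRingCat.of k))]
  [IsProper (X ↘ Spec (CommRingCat.of k))]

include k in
/-- Points of a finite closed set are closed. -/
theorem isClosed_of_mem_finite {D : Set X} (hDf : D.Finite) (hD : IsClosed D) {x : X} (hx : x ∈ D) :
    IsClosed ({x} : Set X) := by
  haveI : JacobsonSpace X := LocallyOfFiniteType.jacobsonSpace (X ↘ Spec (CommRingCat.of k))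
  have h1 : closure (closure ({x} : Set X) ∩ closedPoints X) = closure {x} :=
    closure_inter_closedPoints isClosed_closure
  have hfin : (closure ({x} : Set X) ∩ closedPoints X).Finite :=
    hDf.subset fun y hy => hD.closure_subset_iff.mpr (Set.singleton_subset_iff.mpr hx) hy.1
  have h2 : IsClosed (closure ({x} : Set X) ∩ closedPoints X) := by
    rw [← Set.biUnion_of_singleton (closure ({x} : Set X) ∩ closedPoints X)]
    exact hfin.isClosed_biUnion fun y hy => hy.2
  rw [h2.closure_eq] at h1
  exact (h1.ge (subset_closure (Set.mem_singleton x))).2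

include k in
/-- A finite closed set of a curve contains no maximal point. -/
theorem notMem_of_isMaxPt [IsReduced X] [ConnectedSpace X] (hdim : topologicalKrullDim X = 1) {D : Set X} (hDf : D.Finite) (hD : IsClosed D)
    {η : X} (hη : IsMaxPt η) : η ∉ D := fun h => by
  have h1 := (isClosed_of_mem_finite k hDf hD h).closure_eq
  have h2 := equidim k hdim _ (closure_mem_components hη)
  rw [h1] at h2
  have h3 := topologicalKrullDim_zero_of_discreteTopology ({η} : Set X)
  rw [h2] at h3
  exact absurd h3 (not_le.mpr zero_lt_one)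

/-- Smooth points lie on one component. -/
theorem eq_of_specializes_smooth {x : X} (h : ∃ U : X.Opens, x ∈ U ∧ Smooth (U.ι ≫ (X ↘ Spec (CommRingCat.of k))))
    {a b : X} (ha : IsMaxPt a) (hb : IsMaxPt b) (hax : a ⤳ x) (hbx : b ⤳ x) : a = b := by
  obtain ⟨U, hxU, hsm⟩ := h
  letI : (U : Scheme.{u}).Over (Spec (CommRingCat.of k)) := ⟨U.ι ≫ X ↘ Spec (CommRingCat.of k)⟩
  haveI : Smooth ((U : Scheme.{u}) ↘ Spec (CommRingCat.of k)) := hsm
  haveI := Groth.Agent.S1535.result k (U : Scheme.{u}) ⟨x, hxU⟩
  haveI : IsRegularLocalRing (X.presheaf.stalk x) :=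
    IsRegularLocalRing.of_ringEquiv (asIso (U.ι.stalkMap ⟨x, hxU⟩)).commRingCatIsoToRingEquiv.symm
  haveI := CommAlgDim.isDomain_of_isRegularLocalRing (X.presheaf.stalk x)
  have key : ∀ c : X, IsMaxPt c → c ⤳ x →
      c = X.fromSpecStalk x (⟨⊥, Ideal.isPrime_bot⟩ : PrimeSpectrum (X.presheaf.stalk x)) := fun c hc hcx => by
    obtain ⟨q, rfl⟩ := ((Scheme.range_fromSpecStalk (X := X) (x := x)).ge hcx : c ∈ Set.range (X.fromSpecStalk x))
    refine (hc _ (Specializes.map ?_ (X.fromSpecStalk x).continuous)).symm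
    exact (PrimeSpectrum.le_iff_specializes (⟨⊥, Ideal.isPrime_bot⟩ : PrimeSpectrum _) q).mp bot_le
  exact (key a ha hax).trans (key b hb hbx).symm

variable [IsReduced X] [IsAlgClosed k]

/-- A finite closed set with its reduced structure has one function per point. -/
theorem h0_points {D : Set X} (hDf : D.Finite) (hD : IsClosed D) :
    Module.finrank k (Coh.HH X (ClSub.quotMod (Scheme.IdealSheafData.vanishingIdeal ⟨D, hD⟩)) 0) = D.ncard ∧
      topologicalKrullDim D ≤ 0 := by
  haveI : Finite D := hDf
  haveI : T1Space D := ⟨fun a => by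
    have h := (isClosed_of_mem_finite k hDf hD a.2).preimage (continuous_subtype_val (p := fun y : X => y ∈ D))
    have he : (Subtype.val ⁻¹' ({(a : X)} : Set X) : Set D) = {a} := Set.ext fun b => by simp [Subtype.ext_iff]
    rwa [he] at h⟩
  have hd0 : topologicalKrullDim D ≤ 0 := topologicalKrullDim_zero_of_discreteTopology D
  let J := Scheme.IdealSheafData.vanishingIdeal (⟨D, hD⟩ : Closeds X)
  haveI : IsReduced J.subscheme := DevissLib.isReduced_vanishingIdeal' _
  have hs : (J.support : Set X) = D := Scheme.IdealSheafData.coe_support_vanishingIdeal _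
  refine ⟨?_, hd0⟩
  rw [finrank_h0_eq_card k J, hs, Set.ncard_def, Nat.card]
  · rfl
  · exact ((J.subschemeι.isEmbedding.toHomeomorph.trans (Homeomorph.setCongr
      (J.range_subschemeι.trans hs))).isHomeomorph.topologicalKrullDim_eq).trans_le hd0

variable [ConnectedSpace X] (hdim : topologicalKrullDim X = 1) {D : Set X} (hDf : D.Finite) (hD : IsClosed D) {N : X.Modules}
  (hN : ClSub.IsInverseOf N (ClSub.idealMod (Scheme.IdealSheafData.vanishingIdeal ⟨D, hD⟩)))

/-- the change of degree caused by the twist -/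
abbrev excess (T : Set X) : ℤ :=
  Curv2.euler k X (cokernel (psi0 (Scheme.IdealSheafData.vanishingIdeal ⟨D, hD⟩) T))

include hdim hDf hN

theorem twist_facts {T : Set X} (hTm : ∀ η ∈ T, IsMaxPt η) :
    (∀ L : X.Modules, PicF.IsInvertible L → delta k (CohB1.tensorMod L N) (ClSub.quotMod (sub T)) =
        delta k L (ClSub.quotMod (sub T)) + excess k hD T) ∧
      delta k N (ClSub.quotMod (sub T)) = excess k hD T ∧
      ((D ∩ closure T).ncard : ℤ) ≤ excess k hD T := by
  haveI := CurvLib.isNoetherian k (X := X)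
  let Z := Scheme.IdealSheafData.vanishingIdeal (⟨D, hD⟩ : Closeds X)
  have hZs : (Z.support : Set X) = D := Scheme.IdealSheafData.coe_support_vanishingIdeal _
  have hTf : T.Finite := finite_maxPts.subset hTm
  have hNi : PicF.IsInvertible N := Groth.Agent.S2122.result N _ hN.some
  have hηZ : ∀ η : X, IsMaxPt η → η ∉ (Z.support : Set X) := fun η hη =>
    hZs ▸ notMem_of_isMaxPt k hdim hDf hD hη
  obtain ⟨φ⟩ := hN
  haveI := epi_tP hNi Z T
  haveI := mono_tI hNi Z T
  have hdet : Detected (tN Z T N) := detected_of_mono (tI Z T N) (detected_tB (k := k) hNi T hTf hTm)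
  let θ : Coh.structureModule X ⟶ tN Z T N := φ.inv ≫ tP Z T N
  haveI : Epi θ := epi_comp _ _
  have hkill : ClSub.idealModι (sub T) ≫ θ = 0 := eq_zero_of_detected _ hdet fun η hη => LinearMap.ext fun a => by
    by_cases hT : η ∈ T
    · haveI := subsingleton_ideal hη (mem_sub hT)
      rw [Subsingleton.elim a 0, map_zero, map_zero]
    · haveI := subsingleton_tN hNi Z T hTf hη hT
      exact Subsingleton.elim _ _
  have hseq := CurvLib.idealSeq_shortExact (sub T)
  haveI : Epi (CurvLib.idealSeq (sub T)).g := hseq.epi_g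
  let g : ClSub.quotMod (sub T) ⟶ tN Z T N := hseq.exact.desc θ hkill
  have hg : ClSub.toSubscheme (sub T) ≫ g = θ := hseq.exact.g_desc θ hkill
  haveI : Epi g := by
    haveI : Epi (ClSub.toSubscheme (sub T) ≫ g) := by rw [hg]; infer_instance
    exact epi_of_epi (ClSub.toSubscheme (sub T)) g
  haveI : Mono g := by
    refine mono_of_detected g (detected_quot k hTf hTm) fun η hη => ?_
    by_cases hT : η ∈ T
    · obtain ⟨v, hv⟩ := exists_gen_quot (sub T) η
      refine injective_of_cyclic (isField_stalk hη) v hv _ fun h0 => ?_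
      haveI := nontrivial_tN hNi Z T (hηZ η hη) hT
      obtain ⟨b, hb⟩ := exists_ne (0 : (St η).obj (tN Z T N))
      obtain ⟨c, rfl⟩ := (ModuleCat.epi_iff_surjective ((St η).map g)).mp inferInstance b
      exact hb (LinearMap.congr_fun h0 c)
    · haveI := subsingleton_quot (notMem_sub hTf hη hT)
      exact fun a b _ => Subsingleton.elim a b
  haveI : IsIso g := isIso_of_mono_of_epi g
  have hO := CurvLib.isCoh_quotMod (sub T)
  have hZ1 := CurvLib.isCoh_quotMod Z
  have hI : Coh.IsCoh (ClSub.idealMod Z) := QCohLib.isCoh_kernel _ (DevissLib.isCoh_structureModule X) hZ1.1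
  have hC : Coh.IsCoh (cokernel (psi0 Z T)) := QCohLib.isCoh_cokernel _ hI.1 hO
  have hCd : topologicalKrullDim (CohB1.support (cokernel (psi0 Z T))) ≤ 0 := by
    refine dim_support_le_zero hC.2 hdim.le fun η hη hs => ?_
    obtain ⟨z, hz⟩ := (DevissLib.mem_support_iff_nonzero _ η).mp hs
    obtain ⟨b, rfl⟩ := (ModuleCat.epi_iff_surjective ((St η).map (cokernel.π (psi0 Z T)))).mp inferInstance z
    obtain ⟨c, rfl⟩ := (ModuleCat.epi_iff_surjective ((St η).map (ClSub.toSubscheme (sub T)))).mp inferInstance b
    obtain ⟨d, rfl⟩ := surjective_idealModι Z (hηZ η hη) c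
    refine hz ?_
    rw [← LinearMap.comp_apply, ← ModuleCat.hom_comp, ← Functor.map_comp, ← LinearMap.comp_apply,
      ← ModuleCat.hom_comp, ← Functor.map_comp, ← Category.assoc, cokernel.condition, Functor.map_zero]
    rfl
  have hF : Coh.IsCoh (N0 Z T) := QCohLib.isCoh_kernel _ hO hC.1
  have hseq2 := DevissLib.imCokSeq_shortExact (psi0 Z T)
  have e1 := CurvLib.euler_add_of_isCoh (k := k) hseq2 hF hO hC
  change Curv2.euler k X (ClSub.quotMod (sub T)) = Curv2.euler k X (N0 Z T) + excess k hD T at e1
  have e2 : ∀ M : X.Modules, PicF.IsInvertible M →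
      delta k M (ClSub.quotMod (sub T)) = delta k M (N0 Z T) := fun M hM => by
    have h := delta_add k hM hseq2 hF hO hC
    rw [delta_eq_zero k hM hC hCd, add_zero] at h
    exact h
  have e3 : Curv2.euler k X (CohB1.tensorMod N (N0 Z T)) = Curv2.euler k X (ClSub.quotMod (sub T)) :=
    (CurvLib.euler_congr (k := k) (asIso g)).symm
  refine ⟨fun L hL => ?_, ?_, ?_⟩
  · rw [e2 _ (HilbPolyLib.isInvertible_tensor hL hNi), delta, delta,
      CurvLib.euler_congr (k := k) (SerreVanLib.tensorAssoc L N (N0 Z T)),
      ← CurvLib.euler_congr (k := k) (SerreVanLib.tensorCongr L (asIso g))]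
    omega
  · rw [e2 _ hNi, delta]
    omega
  · let D' : Closeds X := ⟨D ∩ closure T, hD.inter isClosed_closure⟩
    let W := Scheme.IdealSheafData.vanishingIdeal D'
    have hT' : sub T ≤ W := (Scheme.IdealSheafData.le_support_iff_le_vanishingIdeal).mp fun a ha =>
      (support_sub T).ge ha.2
    have hZ' : Z ≤ W := Scheme.IdealSheafData.vanishingIdeal_antimono fun a ha => ha.1
    obtain ⟨r, hr, hre⟩ := exists_quot_map hT'
    haveI := hre
    have hzero : psi0 Z T ≫ r = 0 := by
      rw [psi0, Category.assoc, hr, idealModι_comp_toSubscheme hZ']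
    let q : cokernel (psi0 Z T) ⟶ ClSub.quotMod W := cokernel.desc _ r hzero
    haveI : Epi q := by
      haveI : Epi (cokernel.π (psi0 Z T) ≫ q) := by rw [cokernel.π_desc]; infer_instance
      exact epi_of_epi (cokernel.π (psi0 Z T)) q
    have hW := CurvLib.isCoh_quotMod W
    have hK : Coh.IsCoh (kernel q) := QCohLib.isCoh_kernel q hC hW.1
    have hKd : topologicalKrullDim (CohB1.support (kernel q)) ≤ 0 := by
      refine (dim_mono fun x hx => ?_).trans hCd
      intro hsub
      haveI : Subsingleton ((St x).obj (cokernel (psi0 Z T))) := hsub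
      exact hx ((ModuleCat.mono_iff_injective ((St x).map (kernel.ι q))).mp inferInstance).subsingleton
    have e4 := CurvLib.euler_add_of_isCoh (k := k) (S := ShortComplex.mk (kernel.ι q) q (kernel.condition q))
      { exact := ShortComplex.exact_of_f_is_kernel _ (kernelIsKernel q)
        mono_f := inferInstanceAs (Mono (kernel.ι q))
        epi_g := inferInstanceAs (Epi q) } hK hC hW
    change excess k hD T = Curv2.euler k X (kernel q) + Curv2.euler k X (ClSub.quotMod W) at e4
    obtain ⟨hn, hd0⟩ := h0_points k (hDf.inter_of_left (closure T)) D'.isClosed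
    rw [CurvLib.euler_eq_h0 (k := k) hK hKd, CurvLib.euler_eq_h0 (k := k) hW
      ((dim_mono ((CurvLib.support_quotMod_subset W).trans (Scheme.IdealSheafData.coe_support_vanishingIdeal D').le)).trans hd0)] at e4
    change excess k hD T = _ + (Module.finrank k (Coh.HH X (ClSub.quotMod
      (Scheme.IdealSheafData.vanishingIdeal ⟨D ∩ closure T, D'.isClosed⟩)) 0) : ℤ) at e4
    rw [hn] at e4
    omega

/-- The total excess is the number of points. -/
theorem excess_all : excess k hD {η : X | IsMaxPt η} = D.ncard := by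
  haveI := CurvLib.isNoetherian k (X := X)
  let Z := Scheme.IdealSheafData.vanishingIdeal (⟨D, hD⟩ : Closeds X)
  have hNi : PicF.IsInvertible N := Groth.Agent.S2122.result N _ hN.some
  obtain ⟨e⟩ := nonempty_quot_all (X := X) (T := {η : X | IsMaxPt η}) fun η h => h
  rw [← (twist_facts k hdim hDf hD hN (T := {η : X | IsMaxPt η}) fun η h => h).2.1, ← delta_congr k N e]
  obtain ⟨φ⟩ := hN
  have hs := CurvLib.idealSeq_shortExact Z
  have hQ := CurvLib.isCoh_quotMod Z
  have hO := DevissLib.isCoh_structureModule X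
  have hI : Coh.IsCoh (ClSub.idealMod Z) := QCohLib.isCoh_kernel _ hO hQ.1
  obtain ⟨hn, hd0⟩ := h0_points k hDf hD
  have hQd : topologicalKrullDim (CohB1.support (ClSub.quotMod Z)) ≤ 0 :=
    (dim_mono ((CurvLib.support_quotMod_subset Z).trans (Scheme.IdealSheafData.coe_support_vanishingIdeal _).le)).trans hd0
  have e1 := CurvLib.euler_add_of_isCoh (k := k) hs hI hO hQ
  have e2 := delta_add k hNi hs hI hO hQ
  change Curv2.euler k X (Coh.structureModule X) = Curv2.euler k X (ClSub.idealMod Z) +
    Curv2.euler k X (ClSub.quotMod Z) at e1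
  change delta k N (Coh.structureModule X) = delta k N (ClSub.idealMod Z) + delta k N (ClSub.quotMod Z) at e2
  rw [delta_eq_zero k hNi hQ hQd, delta, delta, CurvLib.euler_congr (k := k) φ] at e2
  rw [CurvLib.euler_eq_h0 (k := k) hQ hQd, hn] at e1
  rw [delta]
  omega

variable (hsm : ∀ x ∈ D, ∃ U : X.Opens, x ∈ U ∧ Smooth (U.ι ≫ (X ↘ Spec (CommRingCat.of k))))

include hsm in
/-- The excess on a union of components is the number of marked points on it. -/
theorem excess_eq {T : Set X} (hTm : ∀ η ∈ T, IsMaxPt η) : excess k hD T = (D ∩ closure T).ncard := by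
  haveI := CurvLib.isNoetherian k (X := X)
  let M : Set X := {η | IsMaxPt η}
  have hNi : PicF.IsInvertible N := Groth.Agent.S2122.result N _ hN.some
  have hT := twist_facts k hdim hDf hD hN hTm
  have hB := twist_facts k hdim hDf hD hN (T := M \ T) fun η h => h.1
  have hu := delta_union k hdim.le hNi (A := T) (B := M \ T) hTm (fun η h => h.1) fun η h h' => h'.2 h
  rw [Set.union_sdiff_cancel (show T ⊆ M from hTm), hT.2.1, hB.2.1,
    (twist_facts k hdim hDf hD hN (T := M) fun η h => h).2.1, excess_all k hdim hDf hD hN] at hu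
  have hTf : T.Finite := finite_maxPts.subset hTm
  have hBf : (M \ T).Finite := finite_maxPts.subset fun η h => h.1
  have hcl : ∀ {S : Set X}, S.Finite → ∀ {x : X}, x ∈ closure S → ∃ a ∈ S, a ⤳ x := fun {S} hS {x} hx => by
    have h : closure S = ⋃ t ∈ S, closure ({t} : Set X) := by
      conv_lhs => rw [← Set.biUnion_of_singleton S]
      exact hS.closure_biUnion (fun a : X => ({a} : Set X))
    rw [h] at hx
    simp only [Set.mem_iUnion] at hx
    obtain ⟨a, ha, hax⟩ := hx
    exact ⟨a, ha, specializes_iff_mem_closure.mpr hax⟩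
  have hdisj : Disjoint (D ∩ closure T) (D ∩ closure (M \ T)) := Set.disjoint_left.mpr fun x h1 h2 => by
    obtain ⟨a, ha, hax⟩ := hcl hTf h1.2
    obtain ⟨b, hb, hbx⟩ := hcl hBf h2.2
    exact hb.2 (eq_of_specializes_smooth k (hsm x h1.1) (hTm a ha) hb.1 hax hbx ▸ ha)
  have hcov : D ∩ closure T ∪ D ∩ closure (M \ T) = D := by
    refine Set.Subset.antisymm (Set.union_subset Set.inter_subset_left Set.inter_subset_left) fun x hx => ?_
    obtain ⟨η, hη, hsp⟩ := exists_maxPt x
    by_cases h : η ∈ T
    · exact Or.inl ⟨hx, closure_mono (Set.singleton_subset_iff.mpr h) (specializes_iff_mem_closure.mp hsp)⟩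
    · exact Or.inr ⟨hx, closure_mono (Set.singleton_subset_iff.mpr (show η ∈ M \ T from ⟨hη, h⟩))
        (specializes_iff_mem_closure.mp hsp)⟩
  have hsum := Set.ncard_union_eq hdisj (hDf.inter_of_left _) (hDf.inter_of_left _)
  rw [hcov] at hsum
  have := hT.2.2
  have := hB.2.2
  omega

include hsm in
/-- Degrees of twists on connected subcurves. -/
theorem dJ_tensor {L : X.Modules} (hL : PicF.IsInvertible L) {M : X.Modules}
    (e : M ≅ CohB1.tensorMod L N) (m : ℕ) (J : X.IdealSheafData)
    (hr : IsReduced J.subscheme) (hc : ConnectedSpace J.subscheme) (hd : topologicalKrullDim J.subscheme = 1) :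
    dJ k (CohB1.tensorPow M m) J = (m : ℤ) * (dJ k L J + ((D ∩ (J.support : Set X)).ncard : ℤ)) := by
  have hNi : PicF.IsInvertible N := Groth.Agent.S2122.result N _ hN.some
  have hP := HilbPolyLib.isInvertible_tensor hL hNi
  have hM : PicF.IsInvertible M := HilbPolyLib.isInvertible_of_iso e.symm hP
  rw [deg_pow_sub k hdim hM m J hr hc hd]
  obtain ⟨T, B, hTm, -, -, -, -, rfl, -⟩ := exists_sub k hdim J hr hc hd
  rw [dJ, dJ, deg_subscheme k hM, deg_subscheme k hL, support_sub, ← excess_eq k hdim hDf hD hN hsm hTm,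
    ← (twist_facts k hdim hDf hD hN hTm).1 L hL]
  congr 1
  rw [delta, delta]
  congr 1
  exact CurvLib.euler_congr (k := k) (PicGrp.tensorModIso e (Iso.refl _))

end NodalLib

namespace NodalLib

section GG

variable (k : Type u) [Field k] {X : Scheme.{u}} [X.Over (Spec (CommRingCat.of k))]
  [IsProper (X ↘ Spec (CommRingCat.of k))] [IsReduced X] [ConnectedSpace X]

include k in
/-- Globally generated line bundles have nonnegative degree on components. -/
theorem nonneg_of_gg (hdim : topologicalKrullDim X = 1) {M : X.Modules} (hM : PicF.IsInvertible M)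
    (hgg : Curv2.IsGloballyGenerated M) {η : X} (hη : IsMaxPt η) : 0 ≤ dJ k M (sub ({η} : Set X)) := by
  haveI := CurvLib.isNoetherian k (X := X)
  let T : Set X := {η}
  have hTm : ∀ a ∈ T, IsMaxPt a := fun a ha => by rw [Set.mem_singleton_iff.mp ha]; exact hη
  have hTf : T.Finite := Set.finite_singleton η
  obtain ⟨ι, p, hp⟩ := hgg
  let eU : CohB1.tensorMod M (Coh.structureModule X) ≅ M :=
    KFlatLib.tensSwap (Coh.structureModule X) M ≪≫ KFlatLib.tensUnitIso M
  let π : M ⟶ tB T M := eU.inv ≫ SerreVanLib.tmap M (ClSub.toSubscheme (sub T))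
  haveI : Epi π := by
    haveI : Epi (SerreVanLib.tmap M (ClSub.toSubscheme (sub T))) :=
      (HilbPolyLib.shortExact_tensor hM (CurvLib.idealSeq_shortExact (sub T))).epi_g
    exact epi_comp _ _
  haveI := hp
  haveI : Nontrivial ((St η).obj (tB T M)) := by
    obtain ⟨e⟩ := stalkTens hM (ClSub.quotMod (sub T)) η
    haveI := nontrivial_quot (X := X) (mem_sub (show η ∈ T from rfl))
    exact e.toEquiv.nontrivial
  obtain ⟨i, hi⟩ : ∃ i, (SheafOfModules.ιFree i : (Coh.structureModule X) ⟶ _) ≫ p ≫ π ≠ 0 := by
    by_contra hall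
    push Not at hall
    have h0 : p ≫ π = 0 := Cofan.IsColimit.hom_ext (SheafOfModules.isColimitFreeCofan ι) _ _
      fun i => (hall i).trans (comp_zero (f := SheafOfModules.ιFree i)).symm
    have h1 : 𝟙 (tB T M) = 0 := by
      rw [← cancel_epi (p ≫ π), Category.comp_id, h0, zero_comp]
    obtain ⟨a, ha⟩ := exists_ne (0 : (St η).obj (tB T M))
    have h2 : ((St η).map (𝟙 (tB T M))).hom a = ((St η).map (0 : tB T M ⟶ tB T M)).hom a := by rw [h1]
    rw [CategoryTheory.Functor.map_id, Functor.map_zero] at h2
    exact ha h2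
  let σ : Coh.structureModule X ⟶ tB T M := SheafOfModules.ιFree i ≫ p ≫ π
  have hdet := detected_tB (k := k) hM T hTf hTm
  have hkill : ClSub.idealModι (sub T) ≫ σ = 0 := eq_zero_of_detected _ hdet fun a ha => LinearMap.ext fun b => by
    by_cases hT : a ∈ T
    · haveI := subsingleton_ideal ha (mem_sub hT)
      rw [Subsingleton.elim b 0, map_zero, map_zero]
    · haveI := subsingleton_tB hM T hTf ha hT
      exact Subsingleton.elim _ _
  have hseq := CurvLib.idealSeq_shortExact (sub T)
  haveI : Epi (CurvLib.idealSeq (sub T)).g := hseq.epi_g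
  let g : ClSub.quotMod (sub T) ⟶ tB T M := hseq.exact.desc σ hkill
  have hg : ClSub.toSubscheme (sub T) ≫ g = σ := hseq.exact.g_desc σ hkill
  have hgη : ((St η).map g).hom ≠ 0 := fun h => by
    have h0 : g = 0 := eq_zero_of_detected g hdet fun a ha => by
      by_cases hT : a ∈ T
      · rw [Set.mem_singleton_iff.mp hT]; exact h
      · haveI := subsingleton_tB hM T hTf ha hT
        exact LinearMap.ext fun b => Subsingleton.elim _ _
    rw [h0, comp_zero] at hg
    exact hi hg.symm
  haveI : Mono g := by
    refine mono_of_detected g (detected_quot k hTf hTm) fun a ha => ?_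
    by_cases hT : a ∈ T
    · obtain ⟨v, hv⟩ := exists_gen_quot (sub T) a
      refine injective_of_cyclic (isField_stalk ha) v hv _ ?_
      rw [Set.mem_singleton_iff.mp hT]; exact hgη
    · haveI := subsingleton_quot (notMem_sub hTf ha hT)
      exact fun b c _ => Subsingleton.elim b c
  have hQ := CurvLib.isCoh_quotMod (sub T)
  have hB : Coh.IsCoh (tB T M) := HilbPolyLib.isCoh_tensor hM hQ
  have hC : Coh.IsCoh (cokernel g) := QCohLib.isCoh_cokernel g hQ.1 hB
  have hCd : topologicalKrullDim (CohB1.support (cokernel g)) ≤ 0 := by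
    refine dim_support_le_zero hC.2 hdim.le fun a ha hs => ?_
    obtain ⟨z, hz⟩ := (DevissLib.mem_support_iff_nonzero _ a).mp hs
    obtain ⟨b, rfl⟩ := (ModuleCat.epi_iff_surjective ((St a).map (cokernel.π g))).mp inferInstance z
    by_cases hT : a ∈ T
    · obtain ⟨e⟩ := stalkTens hM (ClSub.quotMod (sub T)) a
      obtain ⟨v, hv⟩ := exists_gen_quot (sub T) a
      obtain ⟨c, hc⟩ := hv (e (((St a).map g).hom v))
      obtain ⟨r, hr⟩ := hv (e b)
      have hc0 : c ≠ 0 := fun h => hgη (by
        rw [← Set.mem_singleton_iff.mp hT]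
        rw [h, zero_smul] at hc
        refine LinearMap.ext fun w => ?_
        obtain ⟨d, rfl⟩ := hv w
        rw [map_smul, e.map_eq_zero_iff.mp hc.symm, smul_zero]
        rfl)
      obtain ⟨c', hc'⟩ := (isField_stalk ha).mul_inv_cancel hc0
      have hb : b = ((St a).map g).hom ((r * c') • v) := e.injective (by
        rw [map_smul, map_smul, ← hc, ← hr, smul_smul, mul_assoc, mul_comm c', hc', mul_one])
      refine hz ?_
      rw [hb, ← LinearMap.comp_apply, ← ModuleCat.hom_comp, ← Functor.map_comp, cokernel.condition, Functor.map_zero]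
      rfl
    · haveI := subsingleton_tB hM T hTf ha hT
      exact hz (by rw [Subsingleton.elim b 0, map_zero])
  have hadd := CurvLib.euler_add_of_isCoh (k := k) (S := ShortComplex.mk g (cokernel.π g) (cokernel.condition g))
    { exact := ShortComplex.exact_cokernel g
      mono_f := inferInstanceAs (Mono g)
      epi_g := inferInstanceAs (Epi (cokernel.π g)) } hQ hB hC
  change Curv2.euler k X (CohB1.tensorMod M (ClSub.quotMod (sub T))) = Curv2.euler k X (ClSub.quotMod (sub T)) +
    Curv2.euler k X (cokernel g) at hadd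
  rw [CurvLib.euler_eq_h0 (k := k) hC hCd] at hadd
  rw [dJ, deg_subscheme k hM, delta]
  simp only [T] at hadd
  omega

end GG

end NodalLib

end
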