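import Groth.Agent.NodalLib.Conj
import Groth.Agent.GeomRedFieldLib.Locus

/-!
# The algebraic model of a node: a localisation of `k̄ ⊗ O_{X,x}`
-/

set_option autoImplicit false
set_option backward.isDefEq.respectTransparency false
set_option backward.isDefEq.respectTransparency.types false
set_option linter.style.haveILetI false
set_option maxHeartbeats 1000000
set_option synthInstance.maxHeartbeats 100000

universe u

open CategoryTheory CategoryTheory.Limits AlgebraicGeometry IsLocalRing TensorProduct GeomRedFieldLib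

noncomputable section

namespace NodalLib

/-- Along a morphism bijective on local rings from an affine scheme the local ring is the localisation. -/
theorem nonempty_algEquiv_stalk' {k : Type u} [Field k] {X : Scheme.{u}} (f : X ⟶ Spec (CommRingCat.of k))
    {T : Type u} [CommRing T] [Algebra k T] (j : Spec (CommRingCat.of T) ⟶ X)
    (hj : j ≫ f = str k T) (q : PrimeSpectrum T) (hbij : Function.Bijective (j.stalkMap q).hom)
    [Algebra k (X.presheaf.stalk (j q))]
    (hR : X.fromSpecStalk (j q) ≫ f = str k (X.presheaf.stalk (j q))) :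
    Nonempty (X.presheaf.stalk (j q) ≃ₐ[k] Localization.AtPrime q.asIdeal) := by
  let e1 := RingEquiv.ofBijective (j.stalkMap q).hom hbij
  let e2 := (Spec.stalkIso (CommRingCat.of T) q).commRingCatIsoToRingEquiv
  let φ : CommRingCat.of k ⟶ X.presheaf.stalk (j q) := CommRingCat.ofHom (algebraMap k (X.presheaf.stalk (j q)))
  let ι : CommRingCat.of T ⟶ CommRingCat.of (Localization.AtPrime q.asIdeal) :=
    CommRingCat.ofHom (algebraMap T (Localization.AtPrime q.asIdeal))
  let g : CommRingCat.of k ⟶ CommRingCat.of (Localization.AtPrime q.asIdeal) :=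
    φ ≫ j.stalkMap q ≫ (Spec.stalkIso (CommRingCat.of T) q).hom
  have hg : g = CommRingCat.ofHom (algebraMap k T) ≫ ι := by
    apply Spec.map_injective
    refine ((Spec.map_comp _ _).trans (congrArg (fun t ↦ t ≫ Spec.map φ) (Spec.map_comp _ _))).trans ?_
    refine ((Category.assoc _ _ _).trans ?_).trans (Spec.map_comp _ _).symm
    refine (congrArg (fun t ↦ Spec.map (Spec.stalkIso (CommRingCat.of T) q).hom ≫ t)
      ((congrArg (fun t ↦ Spec.map (j.stalkMap q) ≫ t) hR.symm).trans
        ((Category.assoc _ _ _).symm.trans ((congrArg (fun t ↦ t ≫ f) (Scheme.SpecMap_stalkMap_fromSpecStalk j)).trans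
          ((Category.assoc _ _ _).trans (congrArg (fun t ↦ _ ≫ t) hj)))))).trans ?_
    exact (Category.assoc _ _ _).symm.trans
      (congrArg (fun t ↦ t ≫ str k T) (specMap_stalkIso_fromSpecStalk (CommRingCat.of T) q))
  exact ⟨AlgEquiv.ofRingEquiv (f := e1.trans e2) fun c ↦ congr_arg (fun t ↦ t.hom c) hg⟩

variable (k : Type u) [Field k] {X : Scheme.{u}} [X.Over (Spec (CommRingCat.of k))]

/-- Every point of `X_{k̄}` over `x` is a prime of `k̄ ⊗ O_{X,x}` over the maximal ideal, with the same local ring. -/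
theorem exists_model (x : X) (xb : Curv2.bc k X (AlgebraicClosure k))
    (hxb : Curv2.bcFst k X (AlgebraicClosure k) xb = x) :
    letI := Curv2.stalkAlgebra k X x
    letI : (Curv2.bc k X (AlgebraicClosure k)).Over (Spec (CommRingCat.of (AlgebraicClosure k))) :=
      ⟨Curv2.bcSnd k X (AlgebraicClosure k)⟩
    ∃ P : PrimeSpectrum (AlgebraicClosure k ⊗[k] X.presheaf.stalk x),
      P.asIdeal.comap (Algebra.TensorProduct.includeRight (R := k) (A := AlgebraicClosure k)
        (B := X.presheaf.stalk x)).toRingHom = maximalIdeal (X.presheaf.stalk x) ∧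
      ∃ E : (Curv2.bc k X (AlgebraicClosure k)).presheaf.stalk xb ≃+* Localization.AtPrime P.asIdeal,
        ∀ c, E (Curv2.stalkMap (AlgebraicClosure k) (Curv2.bc k X (AlgebraicClosure k)) xb c) = algebraMap (AlgebraicClosure k) _ c := by
  letI := Curv2.stalkAlgebra k X x
  letI : (Curv2.bc k X (AlgebraicClosure k)).Over (Spec (CommRingCat.of (AlgebraicClosure k))) :=
    ⟨Curv2.bcSnd k X (AlgebraicClosure k)⟩
  let Kb := AlgebraicClosure k
  let A := X.presheaf.stalk x
  have hR : X.fromSpecStalk x ≫ (X ↘ Spec (CommRingCat.of k)) = str k A := fromSpecStalk_comp_over X x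
  haveI := AlgSpLib.flat_fromSpecStalk x
  let m : pullback (str k A) (str k Kb) ⟶ Curv2.bc k X Kb :=
    pullback.map _ _ _ _ (X.fromSpecStalk x) (𝟙 _) (𝟙 _) (by simp [hR, A]) (by simp [Kb])
  have sq : IsPullback m (pullback.fst (str k A) (str k Kb)) (Curv2.bcFst k X Kb) (X.fromSpecStalk x) := by
    refine (IsPullback.of_bot (v₂₁ := Curv2.bcSnd k X Kb) (h₃₁ := str k Kb)
      (v₂₂ := X ↘ Spec (CommRingCat.of k)) ?_
      (pullback.lift_fst _ _ _).symm (IsPullback.of_hasPullback _ _)).flip
    rw [show m ≫ Curv2.bcSnd k X Kb = pullback.snd (str k A) (str k Kb) from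
      (pullback.lift_snd _ _ _).trans (Category.comp_id _), hR]
    exact IsPullback.of_hasPullback _ _
  haveI : Flat m := MorphismProperty.of_isPullback sq.flip ‹_›
  haveI : IsPreimmersion m := MorphismProperty.of_isPullback sq.flip inferInstance
  let e : Spec (CommRingCat.of (Kb ⊗[k] A)) ≅ pullback (str k A) (str k Kb) :=
    (pullbackSpecIso k Kb A).symm ≪≫ pullbackSymmetry _ _
  let j : Spec (CommRingCat.of (Kb ⊗[k] A)) ⟶ Curv2.bc k X Kb := e.hom ≫ m
  have hj1 : j ≫ Curv2.bcFst k X Kb =
      Spec.map (CommRingCat.ofHom (Algebra.TensorProduct.includeRight (R := k) (A := Kb) (B := A)).toRingHom) ≫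
        X.fromSpecStalk x := by
    simp only [j, Category.assoc, sq.w, e, Iso.trans_hom, Iso.symm_hom, pullbackSymmetry_hom_comp_fst_assoc,
      pullbackSpecIso_inv_snd_assoc]
    rfl
  have hj2 : j ≫ Curv2.bcSnd k X Kb = str Kb (Kb ⊗[k] A) := by
    simp only [j, Category.assoc, m, pullback.map, pullback.lift_snd, Category.comp_id, e, Iso.trans_hom,
      Iso.symm_hom, pullbackSymmetry_hom_comp_snd, pullbackSpecIso_inv_fst]
    rfl
  obtain ⟨v, hv, -⟩ := Scheme.exists_preimage_of_isPullback sq xb (closedPoint _)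
    (hxb.trans Scheme.fromSpecStalk_closedPoint.symm)
  obtain ⟨P, rfl⟩ : ∃ P, e.hom P = v := ⟨e.inv v, by rw [← Scheme.Hom.comp_apply, e.inv_hom_id]; rfl⟩
  obtain rfl : j P = xb := by rw [Scheme.Hom.comp_apply]; exact hv
  refine ⟨P, ?_, ?_⟩
  · have h1 : X.fromSpecStalk x (Spec.map (CommRingCat.ofHom
        (Algebra.TensorProduct.includeRight (R := k) (A := Kb) (B := A)).toRingHom) P) =
        X.fromSpecStalk x (closedPoint A) := by
      rw [Scheme.fromSpecStalk_closedPoint]
      exact (congrArg (fun t : Spec _ ⟶ X => t P) hj1).symm.trans hxb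
    exact congrArg PrimeSpectrum.asIdeal ((X.fromSpecStalk x).isEmbedding.injective h1)
  · letI := Curv2.stalkAlgebra Kb (Curv2.bc k X Kb) (j P)
    obtain ⟨E⟩ := nonempty_algEquiv_stalk' (k := Kb) (Curv2.bcSnd k X Kb) j hj2 P
      (SweepSix.FieldsRed.isIso_stalkMap j P) (fromSpecStalk_comp_over (k := Kb) (Curv2.bc k X Kb) (j P))
    exact ⟨E.toRingEquiv, fun c => E.commutes c⟩

/-- The algebraic model of a node. -/
theorem exists_node_model {x : X} (hx : Curv2.IsNode k X x) :
    letI := Curv2.stalkAlgebra k X x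
    ∃ P : PrimeSpectrum (AlgebraicClosure k ⊗[k] X.presheaf.stalk x),
      P.asIdeal.comap (Algebra.TensorProduct.includeRight (R := k) (A := AlgebraicClosure k)
        (B := X.presheaf.stalk x)).toRingHom = maximalIdeal (X.presheaf.stalk x) ∧
      Curv2.IsOrdDoublePt (AlgebraicClosure k) (Localization.AtPrime P.asIdeal) := by
  obtain ⟨-, xb, hxb, hodp⟩ := hx
  letI := Curv2.stalkAlgebra k X x
  letI : (Curv2.bc k X (AlgebraicClosure k)).Over (Spec (CommRingCat.of (AlgebraicClosure k))) :=
    ⟨Curv2.bcSnd k X (AlgebraicClosure k)⟩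
  letI := Curv2.stalkAlgebra (AlgebraicClosure k) (Curv2.bc k X (AlgebraicClosure k)) xb
  obtain ⟨P, hP, E, hE⟩ := exists_model k x xb hxb
  exact ⟨P, hP, isOrdDoublePt_semilinear E (RingEquiv.refl _) hE hodp⟩

end NodalLib

end
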