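import Groth.Agent.NodalLib.QuadNodeCpl
import Groth.Agent.SmoothCritLib.Point
import Groth.Agent.CIRingLib.MorApps
import Groth.Agent.GeomRedFieldLib.Locus

/-!
# Completed local rings of families of curves at nodes
-/

set_option autoImplicit false
set_option linter.style.haveILetI false
set_option linter.unusedSectionVars false
set_option maxHeartbeats 1000000
set_option synthInstance.maxHeartbeats 100000
set_option backward.isDefEq.respectTransparency false
set_option backward.isDefEq.respectTransparency.types false

universe u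

open CategoryTheory CategoryTheory.Limits AlgebraicGeometry IsLocalRing

noncomputable section

namespace NodalLib

variable {T S : Scheme.{u}} (f : T ⟶ S) (t : T)

/-- The fibre stalk is a quotient of the stalk, compatibly with the residue field of the base. -/
theorem exists_fibre_quotient :
    letI : (f.fiber (f t)).Over (Spec (CommRingCat.of (S.residueField (f t)))) := ⟨f.fiberToSpecResidueField (f t)⟩
    ∃ τ : T.presheaf.stalk t →+* (f.fiber (f t)).presheaf.stalk (f.asFiber t), Function.Surjective τ ∧
      RingHom.ker τ = (maximalIdeal (S.presheaf.stalk (f t))).map (f.stalkMap t).hom ∧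
      ∀ r, τ ((f.stalkMap t).hom r) =
        Curv2.stalkMap (S.residueField (f t)) (f.fiber (f t)) (f.asFiber t) (residue (S.presheaf.stalk (f t)) r) := by
  letI : (f.fiber (f t)).Over (Spec (CommRingCat.of (S.residueField (f t)))) := ⟨f.fiberToSpecResidueField (f t)⟩
  obtain ⟨τ, hs, hk, hspec⟩ := SmoothCritLib.exists_fibre_stalk_map f t
  refine ⟨τ.hom, hs, hk, fun r => ?_⟩
  have hcomm : f.stalkMap t ≫ τ =
      S.residue (f t) ≫ CommRingCat.ofHom (Curv2.stalkMap (S.residueField (f t)) (f.fiber (f t)) (f.asFiber t)) := by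
    apply Spec.map_injective
    rw [← cancel_mono (S.fromSpecStalk (f t)), Spec.map_comp, Spec.map_comp, Category.assoc, Category.assoc,
      Scheme.SpecMap_stalkMap_fromSpecStalk, reassoc_of% hspec, Scheme.Hom.fiber_fac, ← Category.assoc]
    exact congrArg (· ≫ S.fromSpecResidueField (f t))
      (GeomRedFieldLib.fromSpecStalk_comp_over (k := S.residueField (f t)) (f.fiber (f t)) (f.asFiber t))
  exact congrArg (fun φ : S.presheaf.stalk (f t) ⟶ (f.fiber (f t)).presheaf.stalk (f.asFiber t) => φ.hom r) hcomm

/-- The completion of a flat family at a node is a deformed node over the completed base. -/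
theorem exists_node_completion [LocallyOfFiniteType f] [IsNoetherianRing (S.presheaf.stalk (f t))]
    (hfl : (f.stalkMap t).hom.Flat)
    (a b c : AdicCompletion (maximalIdeal (S.presheaf.stalk (f t))) (S.presheaf.stalk (f t)))
    (hd : IsUnit (4 * a * c - b ^ 2))
    (e₀ : AdicCompletion (maximalIdeal ((f.fiber (f t)).presheaf.stalk (f.asFiber t)))
        ((f.fiber (f t)).presheaf.stalk (f.asFiber t)) ≃+*
      Q (cplRes (S.presheaf.stalk (f t)) a) (cplRes (S.presheaf.stalk (f t)) b) (cplRes (S.presheaf.stalk (f t)) c))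
    (he₀ : letI : (f.fiber (f t)).Over (Spec (CommRingCat.of (S.residueField (f t)))) :=
        ⟨f.fiberToSpecResidueField (f t)⟩
      ∀ r : ResidueField (S.presheaf.stalk (f t)),
        e₀ (algebraMap ((f.fiber (f t)).presheaf.stalk (f.asFiber t)) _
          (Curv2.stalkMap (S.residueField (f t)) (f.fiber (f t)) (f.asFiber t) r)) = Qc _ _ _ r) :
    ∃ h ∈ maximalIdeal (AdicCompletion (maximalIdeal (S.presheaf.stalk (f t))) (S.presheaf.stalk (f t))),
      ∃ e : AdicCompletion (maximalIdeal (T.presheaf.stalk t)) (T.presheaf.stalk t) ≃+*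
          (MvPowerSeries (Fin 2) (AdicCompletion (maximalIdeal (S.presheaf.stalk (f t))) (S.presheaf.stalk (f t))) ⧸
            Ideal.span {(MvPowerSeries.C a * MvPowerSeries.X 0 ^ 2 + MvPowerSeries.C b * MvPowerSeries.X 0 *
              MvPowerSeries.X 1 + MvPowerSeries.C c * MvPowerSeries.X 1 ^ 2 - MvPowerSeries.C h :
              MvPowerSeries (Fin 2) (AdicCompletion (maximalIdeal (S.presheaf.stalk (f t))) (S.presheaf.stalk (f t))))}),
        ∀ r : S.presheaf.stalk (f t),
          e (algebraMap (T.presheaf.stalk t) _ ((f.stalkMap t).hom r)) = Ideal.Quotient.mk _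
            (MvPowerSeries.C (algebraMap (S.presheaf.stalk (f t)) _ r)) := by
  letI : (f.fiber (f t)).Over (Spec (CommRingCat.of (S.residueField (f t)))) := ⟨f.fiberToSpecResidueField (f t)⟩
  let A := S.presheaf.stalk (f t)
  let B₀ := T.presheaf.stalk t
  let B := AdicCompletion (maximalIdeal B₀) B₀
  haveI : IsNoetherianRing B₀ := CIRingLib.isNoetherianRing_stalk_of_lft f t
  letI : Algebra A B₀ := (f.stalkMap t).hom.toAlgebra
  haveI : Module.Flat A B₀ := hfl
  haveI : Module.Flat B₀ B := AdicCompletion.flat_of_isNoetherian _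
  haveI : Module.Flat A B := Module.Flat.trans A B₀ B
  haveI : IsNoetherianRing B := AdicRingLib.isNoetherianRing_adicCompletion _
  obtain ⟨τ, hτs, hτk, hτ⟩ := exists_fibre_quotient f t
  haveI : IsNoetherianRing ((f.fiber (f t)).presheaf.stalk (f.asFiber t)) := isNoetherianRing_of_surjective _ _ τ hτs
  obtain ⟨σ, hσs, hσ, hσk⟩ := CIRingLib.exists_cplMap τ hτs
  obtain ⟨h, hh, e, he⟩ := exists_quad_node_equiv A B a b c hd (e₀.toRingHom.comp σ) (e₀.surjective.comp hσs)
    (by
      rw [← RingHom.comap_ker, show RingHom.ker e₀.toRingHom = ⊥ from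
        (RingHom.injective_iff_ker_eq_bot _).1 e₀.injective, ← RingHom.ker_eq_comap_bot, hσk, hτk, Ideal.map_map]
      rfl)
    (fun r => by
      show e₀ (σ (algebraMap A B r)) = _
      rw [IsScalarTower.algebraMap_apply A B₀ B r, hσ]
      show e₀ (algebraMap _ _ (τ ((f.stalkMap t).hom r))) = _
      rw [hτ]
      exact he₀ _)
  exact ⟨h, hh, e, fun r => by
    rw [← he r]
    rfl⟩

/-- Lifts to the completion. -/
theorem cplRes_surjective (A : Type u) [CommRing A] [IsLocalRing A] : Function.Surjective (cplRes A) :=
  AdicCompletion.evalOneₐ_surjective _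

/-- Units of the completion are detected by the residue. -/
theorem isUnit_of_cplRes (A : Type u) [CommRing A] [IsLocalRing A] [IsNoetherianRing A]
    (x : AdicCompletion (maximalIdeal A) A) (hx : cplRes A x ≠ 0) : IsUnit x := by
  by_contra hu
  refine hx ((cplRes_eq_zero_iff A x).2 ?_)
  rw [← AdicCompletion.maximalIdeal_eq_map]
  exact (mem_maximalIdeal x).2 hu

end NodalLib

end
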