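import Groth.Agent.NodalLib.NodeChar
import Groth.Agent.NodalLib.GeoBase
import Groth.Agent.S9566

/-!
# Geometric nodes along base change and étale morphisms
-/

set_option autoImplicit false
set_option linter.style.haveILetI false
set_option linter.unusedSectionVars false
set_option maxHeartbeats 1000000
set_option synthInstance.maxHeartbeats 100000
set_option backward.isDefEq.respectTransparency false
set_option backward.isDefEq.respectTransparency.types false

universe u

open CategoryTheory CategoryTheory.Limits AlgebraicGeometry IsLocalRing TensorProduct GeomRedFieldLib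

noncomputable section

namespace NodalLib

/-- Geometric nodes are preserved by isomorphisms. -/
theorem isGeoNode_congr {k A A' : Type u} [Field k] [CommRing A] [IsLocalRing A] [Algebra k A] [CommRing A']
    [IsLocalRing A'] [Algebra k A'] [Algebra.EssFiniteType k A] [Algebra.EssFiniteType k A'] (e : A ≃ₐ[k] A') :
    IsGeoNode k A ↔ IsGeoNode k A' := by
  haveI : IsLocalHom e.toAlgHom.toRingHom := IsLocalHom.of_surjective _ e.surjective
  refine isGeoNode_iff_of_etale e.toAlgHom (RingHom.Flat.of_bijective e.bijective)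
    (map_maximalIdeal_of_surjective e.toAlgHom.toRingHom e.surjective)
    fun a => ⟨Polynomial.X - Polynomial.C (e.symm a), ?_, ?_⟩
  · simp
  · simp

variable (k : Type u) [Field k] {X : Scheme.{u}} [X.Over (Spec (CommRingCat.of k))]

/-- The local ring at a point of `X_K` over `x` is a localisation of `K ⊗ O_{X,x}` over the closed point. -/
theorem exists_model_field (K : Type u) [Field K] [Algebra k K] (x : X) (y : Curv2.bc k X K)
    (hy : Curv2.bcFst k X K y = x) :
    letI := Curv2.stalkAlgebra k X x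
    letI : (Curv2.bc k X K).Over (Spec (CommRingCat.of K)) := ⟨Curv2.bcSnd k X K⟩
    letI := Curv2.stalkAlgebra K (Curv2.bc k X K) y
    ∃ P : PrimeSpectrum (K ⊗[k] X.presheaf.stalk x),
      P.asIdeal.comap (Algebra.TensorProduct.includeRight (R := k) (A := K) (B := X.presheaf.stalk x)).toRingHom =
        maximalIdeal (X.presheaf.stalk x) ∧
      Nonempty ((Curv2.bc k X K).presheaf.stalk y ≃ₐ[K] Localization.AtPrime P.asIdeal) := by
  letI := Curv2.stalkAlgebra k X x
  letI : (Curv2.bc k X K).Over (Spec (CommRingCat.of K)) := ⟨Curv2.bcSnd k X K⟩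
  let A := X.presheaf.stalk x
  have hR : X.fromSpecStalk x ≫ (X ↘ Spec (CommRingCat.of k)) = str k A := fromSpecStalk_comp_over X x
  haveI := AlgSpLib.flat_fromSpecStalk x
  let m : pullback (str k A) (str k K) ⟶ Curv2.bc k X K :=
    pullback.map _ _ _ _ (X.fromSpecStalk x) (𝟙 _) (𝟙 _) (by simp [hR, A]) (by simp)
  have sq : IsPullback m (pullback.fst (str k A) (str k K)) (Curv2.bcFst k X K) (X.fromSpecStalk x) := by
    refine (IsPullback.of_bot (v₂₁ := Curv2.bcSnd k X K) (h₃₁ := str k K)
      (v₂₂ := X ↘ Spec (CommRingCat.of k)) ?_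
      (pullback.lift_fst _ _ _).symm (IsPullback.of_hasPullback _ _)).flip
    rw [show m ≫ Curv2.bcSnd k X K = pullback.snd (str k A) (str k K) from
      (pullback.lift_snd _ _ _).trans (Category.comp_id _), hR]
    exact IsPullback.of_hasPullback _ _
  haveI : Flat m := MorphismProperty.of_isPullback sq.flip ‹_›
  haveI : IsPreimmersion m := MorphismProperty.of_isPullback sq.flip inferInstance
  let e : Spec (CommRingCat.of (K ⊗[k] A)) ≅ pullback (str k A) (str k K) :=
    (pullbackSpecIso k K A).symm ≪≫ pullbackSymmetry _ _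
  let j : Spec (CommRingCat.of (K ⊗[k] A)) ⟶ Curv2.bc k X K := e.hom ≫ m
  have hj1 : j ≫ Curv2.bcFst k X K =
      Spec.map (CommRingCat.ofHom (Algebra.TensorProduct.includeRight (R := k) (A := K) (B := A)).toRingHom) ≫
        X.fromSpecStalk x := by
    simp only [j, Category.assoc, sq.w, e, Iso.trans_hom, Iso.symm_hom, pullbackSymmetry_hom_comp_fst_assoc,
      pullbackSpecIso_inv_snd_assoc]
    rfl
  have hj2 : j ≫ Curv2.bcSnd k X K = str K (K ⊗[k] A) := by
    simp only [j, Category.assoc, m, pullback.map, pullback.lift_snd, Category.comp_id, e, Iso.trans_hom,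
      Iso.symm_hom, pullbackSymmetry_hom_comp_snd, pullbackSpecIso_inv_fst]
    rfl
  obtain ⟨v, hv, -⟩ := Scheme.exists_preimage_of_isPullback sq y (closedPoint _)
    (hy.trans Scheme.fromSpecStalk_closedPoint.symm)
  obtain ⟨P, rfl⟩ : ∃ P, e.hom P = v := ⟨e.inv v, by rw [← Scheme.Hom.comp_apply, e.inv_hom_id]; rfl⟩
  obtain rfl : j P = y := by rw [Scheme.Hom.comp_apply]; exact hv
  letI := Curv2.stalkAlgebra K (Curv2.bc k X K) (j P)
  refine ⟨P, ?_, nonempty_algEquiv_stalk' (k := K) (Curv2.bcSnd k X K) j hj2 P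
    (SweepSix.FieldsRed.isIso_stalkMap j P) (fromSpecStalk_comp_over (k := K) (Curv2.bc k X K) (j P))⟩
  have h1 : X.fromSpecStalk x (Spec.map (CommRingCat.ofHom
      (Algebra.TensorProduct.includeRight (R := k) (A := K) (B := A)).toRingHom) P) =
      X.fromSpecStalk x (closedPoint A) := by
    rw [Scheme.fromSpecStalk_closedPoint]
    exact (congrArg (fun t : Spec (CommRingCat.of (K ⊗[k] A)) ⟶ X => t P) hj1).symm.trans hy
  exact congrArg PrimeSpectrum.asIdeal ((X.fromSpecStalk x).isEmbedding.injective h1)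

variable [LocallyOfFiniteType (X ↘ Spec (CommRingCat.of k))]

/-- Geometric nodes of `X_K` are the points over geometric nodes of `X`. -/
theorem isGeoNode_bc (K : Type u) [Field K] [Algebra k K] (y : Curv2.bc k X K) :
    letI := Curv2.stalkAlgebra k X (Curv2.bcFst k X K y)
    letI : (Curv2.bc k X K).Over (Spec (CommRingCat.of K)) := ⟨Curv2.bcSnd k X K⟩
    letI := Curv2.stalkAlgebra K (Curv2.bc k X K) y
    IsGeoNode k (X.presheaf.stalk (Curv2.bcFst k X K y)) ↔ IsGeoNode K ((Curv2.bc k X K).presheaf.stalk y) := by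
  letI := Curv2.stalkAlgebra k X (Curv2.bcFst k X K y)
  letI : (Curv2.bc k X K).Over (Spec (CommRingCat.of K)) := ⟨Curv2.bcSnd k X K⟩
  haveI : LocallyOfFiniteType ((Curv2.bc k X K) ↘ Spec (CommRingCat.of K)) :=
    MorphismProperty.pullback_snd (P := @LocallyOfFiniteType) _ _ ‹_›
  letI := Curv2.stalkAlgebra K (Curv2.bc k X K) y
  haveI := essFiniteType_stalk k (Curv2.bcFst k X K y)
  haveI := essFiniteType_stalk K y
  obtain ⟨P, hP, ⟨E⟩⟩ := exists_model_field k K _ y rfl
  haveI : Algebra.EssFiniteType (K ⊗[k] X.presheaf.stalk (Curv2.bcFst k X K y)) (Localization.AtPrime P.asIdeal) :=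
    Algebra.EssFiniteType.of_isLocalization _ P.asIdeal.primeCompl
  haveI : Algebra.EssFiniteType K (Localization.AtPrime P.asIdeal) :=
    Algebra.EssFiniteType.comp K (K ⊗[k] X.presheaf.stalk (Curv2.bcFst k X K y)) _
  rw [isGeoNode_congr E]
  exact isGeoNode_baseField P hP _

/-- Geometric nodes along an étale morphism. -/
theorem isGeoNode_etale {Y : Scheme.{u}} (π : Y ⟶ X) [Etale π] (y : Y) :
    letI := Curv2.stalkAlgebra k X (π y)
    letI : Y.Over (Spec (CommRingCat.of k)) := ⟨π ≫ X ↘ Spec (CommRingCat.of k)⟩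
    letI := Curv2.stalkAlgebra k Y y
    IsGeoNode k (X.presheaf.stalk (π y)) ↔ IsGeoNode k (Y.presheaf.stalk y) := by
  letI := Curv2.stalkAlgebra k X (π y)
  letI : Y.Over (Spec (CommRingCat.of k)) := ⟨π ≫ X ↘ Spec (CommRingCat.of k)⟩
  haveI : LocallyOfFiniteType (Y ↘ Spec (CommRingCat.of k)) :=
    inferInstanceAs (LocallyOfFiniteType (π ≫ X ↘ Spec (CommRingCat.of k)))
  letI := Curv2.stalkAlgebra k Y y
  haveI := essFiniteType_stalk k (π y)
  haveI := essFiniteType_stalk k y
  haveI : IsLocallyNoetherian X := LocallyOfFiniteType.isLocallyNoetherian (X ↘ Spec (CommRingCat.of k))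
  obtain ⟨hfl, hm, -, hsep⟩ := (Groth.Agent.S9566.result π y).1 ⟨⊤, trivial, inferInstance⟩
  let α : X.presheaf.stalk (π y) →ₐ[k] Y.presheaf.stalk y :=
    { (π.stalkMap y).hom with
      commutes' := fun c => by
        show (π.stalkMap y).hom ((X.presheaf.germ ⊤ _ trivial).hom (Coh.toGlobal (X ↘ Spec (CommRingCat.of k)) c)) =
          (Y.presheaf.germ ⊤ y trivial).hom (Coh.toGlobal (π ≫ X ↘ Spec (CommRingCat.of k)) c)
        rw [toGlobal_comp_apply]
        exact Scheme.Hom.germ_stalkMap_apply _ _ _ _ _ }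
  haveI : IsLocalHom α.toRingHom := inferInstanceAs (IsLocalHom (π.stalkMap y).hom)
  refine isGeoNode_iff_of_etale α hfl hm fun a => ?_
  letI := (π.stalkMap y).hom.toAlgebra
  haveI : IsLocalHom (algebraMap (X.presheaf.stalk (π y)) (Y.presheaf.stalk y)) :=
    inferInstanceAs (IsLocalHom (π.stalkMap y).hom)
  haveI hsep' : Algebra.IsSeparable (ResidueField (X.presheaf.stalk (π y))) (ResidueField (Y.presheaf.stalk y)) :=
    (Groth.Agent.S9566.residue_iff π y).2.1 hsep
  let q := minpoly (ResidueField (X.presheaf.stalk (π y))) (residue _ a)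
  have hqs : q.Separable := Algebra.IsSeparable.isSeparable _ _
  obtain ⟨p, hp⟩ := Polynomial.map_surjective (residue (X.presheaf.stalk (π y))) residue_surjective q
  have hev : ∀ r : Polynomial (X.presheaf.stalk (π y)),
      residue (Y.presheaf.stalk y) (Polynomial.eval₂ α.toRingHom a r) =
        Polynomial.aeval (residue _ a) (r.map (residue _)) := fun r => by
    rw [Polynomial.hom_eval₂, Polynomial.aeval_def, Polynomial.eval₂_map]
    rfl
  refine ⟨p, ?_, ?_⟩
  · rw [← residue_eq_zero_iff, hev, hp]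
    exact minpoly.aeval _ _
  · rw [← residue_ne_zero_iff_isUnit, hev, ← Polynomial.derivative_map, hp]
    exact hqs.aeval_derivative_ne_zero (minpoly.aeval _ _)

/-- A geometric node is closed as soon as its image is closed and the whole fibre consists of geometric nodes. -/
theorem isClosed_of_fibre {Z : Scheme.{u}} {K : Type u} [Field K] [Z.Over (Spec (CommRingCat.of K))]
    [LocallyOfFiniteType (Z ↘ Spec (CommRingCat.of K))] {W : Scheme.{u}} (f : Z ⟶ W) (z : Z)
    (hc : IsClosed ({f z} : Set W))
    (h : ∀ z' : Z, f z' = f z → letI := Curv2.stalkAlgebra K Z z'; IsGeoNode K (Z.presheaf.stalk z')) :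
    IsClosed ({z} : Set Z) := by
  haveI : IsLocallyNoetherian Z := LocallyOfFiniteType.isLocallyNoetherian (Z ↘ Spec (CommRingCat.of K))
  obtain ⟨y, hy, hzy⟩ := MiscFlat6.exists_closed_specializes z
  by_cases hne : z = y
  · exact hne ▸ hy
  have hfy : f y = f z := (hzy.map f.continuous).mem_closed hc rfl
  have h1 := FibDimLib.ringKrullDim_stalk_lt hzy hne
  letI := Curv2.stalkAlgebra K Z z
  haveI := essFiniteType_stalk K z
  rw [IsGeoNode.ringKrullDim_eq (k := K) (h z rfl)] at h1
  letI := Curv2.stalkAlgebra K Z y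
  haveI := essFiniteType_stalk K y
  rw [IsGeoNode.ringKrullDim_eq (k := K) (h y hfy)] at h1
  exact absurd h1 (lt_irrefl _)

end NodalLib

end
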