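import Groth.Agent.NodalLib.SingFamily
import Groth.Agent.RichLib.UnramifiedLocus
import Groth.Agent.CIRingLib.Open
import Groth.Agent.S2156

/-!
# The nodal locus of a family of curves is open
-/

set_option autoImplicit false
set_option linter.style.haveILetI false
set_option linter.unusedSectionVars false
set_option maxHeartbeats 1000000
set_option synthInstance.maxHeartbeats 100000
set_option backward.isDefEq.respectTransparency false
set_option backward.isDefEq.respectTransparency.types false

universe u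

open CategoryTheory CategoryTheory.Limits AlgebraicGeometry IsLocalRing RichLib.UnrLocus

noncomputable section

namespace NodalLib

section Field

variable (k : Type u) [Field k] {X : Scheme.{u}} [X.Over (Spec (CommRingCat.of k))]
  [LocallyOfFiniteType (X ↘ Spec (CommRingCat.of k))]

/-- The unramified locus over a field, through local algebras. -/
theorem locus_iff_stalk (x : X) :
    x ∈ locus (X ↘ Spec (CommRingCat.of k)) ↔
      (letI := Curv2.stalkAlgebra k X x; Algebra.FormallyUnramified k (X.presheaf.stalk x)) := by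
  letI := Curv2.stalkAlgebra k X x
  obtain ⟨U, hU, hxU, -⟩ := exists_isAffineOpen_mem_and_subset (x := x) (U := ⊤) trivial
  obtain ⟨T, _, _, hft, j, hjo, hjs, q, rfl⟩ : ∃ (T : Type u) (_ : CommRing T) (_ : Algebra k T),
      Algebra.FiniteType k T ∧ ∃ j : Spec (CommRingCat.of T) ⟶ X, IsOpenImmersion j ∧
        j ≫ (X ↘ Spec (CommRingCat.of k)) = GeomRedFieldLib.str k T ∧ x ∈ Set.range j := by
    obtain ⟨φ, hφ⟩ := Spec.map_surjective (hU.fromSpec ≫ (X ↘ Spec (CommRingCat.of k)))
    letI := φ.hom.toAlgebra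
    refine ⟨_, inferInstance, φ.hom.toAlgebra, ?_, hU.fromSpec, inferInstance, hφ.symm,
      hU.range_fromSpec.symm.subset hxU⟩
    exact (HasRingHomProperty.Spec_iff (P := @LocallyOfFiniteType) (φ := φ)).1 (hφ ▸ inferInstance)
  haveI := hjo
  haveI := hft
  obtain ⟨e⟩ := GeomRedFieldLib.nonempty_algEquiv_stalk (X ↘ Spec (CommRingCat.of k)) j hjs q
    (GeomRedFieldLib.fromSpecStalk_comp_over X (j q))
  rw [← mem_locus_comp_left_iff, hjs]
  exact (mem_locus_spec_iff q).trans (Algebra.FormallyUnramified.iff_of_equiv e.symm)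

/-- A point with finite separable residue field, in the algebraic sense, is closed. -/
theorem isClosed_of_residue (x : X)
    (h : letI := Curv2.stalkAlgebra k X x; Algebra.FormallyUnramified k (ResidueField (X.presheaf.stalk x))) :
    IsClosed ({x} : Set X) := by
  letI := Curv2.stalkAlgebra k X x
  haveI := essFiniteType_stalk k x
  haveI : Algebra.EssFiniteType (X.presheaf.stalk x) (ResidueField (X.presheaf.stalk x)) := inferInstance
  haveI : Algebra.EssFiniteType k (ResidueField (X.presheaf.stalk x)) :=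
    Algebra.EssFiniteType.comp k (X.presheaf.stalk x) _
  haveI := h
  haveI : Module.Finite k (ResidueField (X.presheaf.stalk x)) := Algebra.FormallyUnramified.finite_of_free k _
  haveI : JacobsonSpace X := LocallyOfFiniteType.jacobsonSpace (X ↘ Spec (CommRingCat.of k))
  rw [isClosed_singleton_iff_locallyOfFiniteType]
  have hc : X.fromSpecResidueField x ≫ (X ↘ Spec (CommRingCat.of k)) =
      Spec.map (CommRingCat.ofHom (algebraMap k (ResidueField (X.presheaf.stalk x)))) := by
    rw [Scheme.fromSpecResidueField, Category.assoc, GeomRedFieldLib.fromSpecStalk_comp_over, ← Spec.map_comp]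
    rfl
  haveI : LocallyOfFiniteType (X.fromSpecResidueField x ≫ (X ↘ Spec (CommRingCat.of k))) := by
    rw [hc]
    exact (HasRingHomProperty.Spec_iff (P := @LocallyOfFiniteType)).2
      (RingHom.finiteType_algebraMap.2 inferInstance)
  exact locallyOfFiniteType_of_comp _ (X ↘ Spec (CommRingCat.of k))

/-- A geometric node on a curve is a closed point, at which the local ring has dimension one. -/
theorem closed_of_geoNode (hcd : CurveDims X) (x : X)
    (hn : letI := Curv2.stalkAlgebra k X x; IsGeoNode k (X.presheaf.stalk x)) :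
    IsClosed ({x} : Set X) ∧ ringKrullDim (X.presheaf.stalk x) = 1 := by
  haveI : IsLocallyNoetherian X := LocallyOfFiniteType.isLocallyNoetherian (X ↘ Spec (CommRingCat.of k))
  letI := Curv2.stalkAlgebra k X x
  haveI := essFiniteType_stalk k x
  obtain ⟨hsep, a, b, a', b', c', -, -, -, -, t, htm, ht⟩ := isGeoNode_iff_qnode.1 hn
  haveI := hsep
  refine ⟨isClosed_of_residue k x (Algebra.FormallyUnramified.of_isSeparable k _),
    le_antisymm ((curveDims_iff X).1 hcd x).1 ?_⟩
  have := ringKrullDim_succ_le_of_surjective (residue (X.presheaf.stalk x)) residue_surjective ht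
    ((residue_eq_zero_iff t).2 htm)
  rwa [ringKrullDim_eq_zero_of_field, zero_add] at this

/-- Pointwise criterion: smooth or node iff complete intersection, unramified on the singular scheme. -/
theorem smoothOrNode_iff (hcd : CurveDims X)
    {Ω' : X.Modules} {d : OmegaSh.Der (X ↘ Spec (CommRingCat.of k)) Ω'} (hd : OmegaSh.IsUniversal d) (x : X) :
    SmoothOrNode k X x ↔
      (letI := Curv2.stalkAlgebra k X x;
        Synt.IsCIOver k (X.presheaf.stalk x) ∧ (x ∈ (Fitt.sheafIdeal Ω' 1).support →
          Algebra.FormallyUnramified k (X.presheaf.stalk x ⧸ IntMult.stalkIdeal (Fitt.sheafIdeal Ω' 1) x))) := by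
  haveI := lfp_over k (X := X)
  haveI : IsLocallyNoetherian X := LocallyOfFiniteType.isLocallyNoetherian (X ↘ Spec (CommRingCat.of k))
  haveI : Subsingleton ↥(Spec (CommRingCat.of k)) := inferInstanceAs (Subsingleton (PrimeSpectrum k))
  haveI : Flat (X ↘ Spec (CommRingCat.of k)) := inferInstance
  letI := Curv2.stalkAlgebra k X x
  haveI := essFiniteType_stalk k x
  have hsupp : x ∈ (Fitt.sheafIdeal Ω' 1).support ↔ ¬ Algebra.FormallySmooth k (X.presheaf.stalk x) := by
    rw [SmoothDimLib.support_fitting_omega hd 1 (fun s T hT => fiber_components_field k hcd s T hT) x,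
      smooth_nhd_iff, mem_smoothLocus_iff_stalk k x]
  have hsm : (∃ U : X.Opens, x ∈ U ∧ Smooth (U.ι ≫ (X ↘ Spec (CommRingCat.of k)))) ↔
      Algebra.FormallySmooth k (X.presheaf.stalk x) := by
    rw [smooth_nhd_iff, mem_smoothLocus_iff_stalk k x]
  by_cases hfs : Algebra.FormallySmooth k (X.presheaf.stalk x)
  · refine iff_of_true (Or.inl (hsm.2 hfs)) ⟨?_, fun h => absurd hfs (hsupp.1 h)⟩
    haveI := hfs
    haveI : IsRegularLocalRing (X.presheaf.stalk x) := CohenLib.isRegularLocalRing_of_formallySmooth (k := k)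
    exact TransLib.isCIOver_of_isRegularLocalRing _
  have hx := hsupp.2 hfs
  have hne := (SDivLib.mem_support_iff_stalk _ x).1 hx
  have hdim1 : IsClosed ({x} : Set X) → ringKrullDim (X.presheaf.stalk x) = 1 := fun hclosed => by
    obtain ⟨hle, h0⟩ := (curveDims_iff X).1 hcd x
    refine le_antisymm hle ?_
    have h := ringKrullDim_nonneg_of_nontrivial (R := X.presheaf.stalk x)
    have hne : ringKrullDim (X.presheaf.stalk x) ≠ 0 := fun e => h0 e hclosed
    revert h hne
    cases ringKrullDim (X.presheaf.stalk x) with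
    | bot => simp
    | coe v =>
      intro h hne
      exact_mod_cast Order.one_le_iff_pos.2 (pos_of_ne_zero (fun e => hne (by rw [e]; rfl)))
  constructor
  · intro h
    have hn := h.resolve_left fun hs => hfs (hsm.1 hs)
    have h1 := (closed_of_geoNode k hcd x hn).2
    rw [stalkIdeal_fit k hd 1 x] at hne ⊢
    obtain ⟨hci, hfu⟩ := (isGeoNode_iff_ci_fit h1 hfs hne).1 hn
    exact ⟨hci, fun _ => hfu⟩
  · rintro ⟨hci, hfu⟩
    have hfu' := hfu hx
    obtain ⟨-, hsep⟩ := (formallyUnramified_quotient_iff _ hne).1 hfu'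
    haveI := hsep
    have h1 := hdim1 (isClosed_of_residue k x (Algebra.FormallyUnramified.of_isSeparable k _))
    rw [stalkIdeal_fit k hd 1 x] at hne hfu'
    exact Or.inr ((isGeoNode_iff_ci_fit h1 hfs hne).2 ⟨hci, hfu'⟩)

/-- Complete intersection stalks over a field, in the two senses. -/
theorem ci_iff_isCIOver_stalk (x : X) :
    Pi1.IsCompleteIntersection (X.presheaf.stalk x) ↔
      (letI := Curv2.stalkAlgebra k X x; Synt.IsCIOver k (X.presheaf.stalk x)) := by
  have hA : (TransLib.structMap (X ↘ Spec (CommRingCat.of k)) ⊤ ≫ X.presheaf.germ ⊤ x trivial).hom.toAlgebra =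
      Curv2.stalkAlgebra k X x := Algebra.algebra_ext _ _ fun c => by
    show (X.presheaf.germ ⊤ x trivial).hom (((X ↘ Spec (CommRingCat.of k)).appLE ⊤ ⊤ le_top).hom
        ((Scheme.ΓSpecIso (CommRingCat.of k)).inv.hom c)) =
      (X.presheaf.germ ⊤ x trivial).hom (((X ↘ Spec (CommRingCat.of k)).appTop).hom
        ((Scheme.ΓSpecIso (CommRingCat.of k)).inv.hom c))
    rw [Scheme.Hom.appLE, CommRingCat.comp_apply, X.presheaf.germ_res_apply]
    rfl
  have h := CIRingLib.ci_iff_isCIOver (X ↘ Spec (CommRingCat.of k)) x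
  rwa [hA] at h

end Field

/-- The unramified locus of a morphism locally of finite type is fibrewise. -/
theorem locus_iff_fiber {Z S : Scheme.{u}} (g : Z ⟶ S) [LocallyOfFiniteType g] (s : S) (v : g.fiber s) :
    g.fiberι s v ∈ locus g ↔ v ∈ locus (g.fiberToSpecResidueField s) := by
  constructor
  · rintro ⟨V, hvV, hV⟩
    refine ⟨g.fiberι s ⁻¹ᵁ V, hvV, ?_⟩
    exact MorphismProperty.of_isPullback (P := @FormallyUnramified)
      ((isPullback_morphismRestrict (g.fiberι s) V).flip.paste_horiz
        (IsPullback.of_hasPullback g (S.fromSpecResidueField s)).flip).flip hV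
  · rintro ⟨W, hvW, hW⟩
    obtain ⟨W', hW'o, hW'⟩ := (g.fiberι s).isEmbedding.isInducing.isOpen_iff.1 W.2
    let V : Z.Opens := ⟨W', hW'o⟩
    have he : g.fiberι s ⁻¹ᵁ V = W := TopologicalSpace.Opens.ext hW'
    subst he
    haveI : FormallyUnramified ((g.fiberι s ⁻¹ᵁ V).ι ≫ pullback.snd g (S.fromSpecResidueField s)) := hW
    have hsq := ((isPullback_morphismRestrict (g.fiberι s) V).flip.paste_horiz
        (IsPullback.of_hasPullback g (S.fromSpecResidueField s)).flip).flip
    have := mem_locus_of_isPullback hsq ⟨v, hvW⟩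
    have h2 := (mem_locus_comp_left_iff V.ι g _).1 this
    erw [← Scheme.Hom.comp_apply, morphismRestrict_ι] at h2
    exact h2

variable {X S : Scheme.{u}} (f : X ⟶ S)

/-- The pointwise nodal condition for a family, through the singular scheme. -/
theorem smoothOrNode_fiber_iff [Flat f] [LocallyOfFinitePresentation f] [QuasiSeparated f]
    (hd : ∀ s : S, CurveDims (f.fiber s)) (p : X) :
    @SmoothOrNode (S.residueField (f p)) _ (f.fiber (f p)) ⟨f.fiberToSpecResidueField (f p)⟩ (f.asFiber p) ↔
      Synt.IsSyntomicAt f p ∧ ∀ w, (Fitt.sheafIdeal (Omega.sheaf f) 1).subschemeι w = p →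
        w ∈ locus ((Fitt.sheafIdeal (Omega.sheaf f) 1).subschemeι ≫ f) := by
  let s := f p
  let I := Fitt.sheafIdeal (Omega.sheaf f) 1
  letI : (f.fiber s).Over (Spec (CommRingCat.of (S.residueField s))) := ⟨f.fiberToSpecResidueField s⟩
  haveI : LocallyOfFiniteType (f.fiber s ↘ Spec (CommRingCat.of (S.residueField s))) :=
    locallyOfFiniteType_fiberTo f s
  haveI : QuasiSeparated (f.fiberToSpecResidueField s) := MorphismProperty.pullback_snd _ _ inferInstance
  haveI : QuasiSeparated (pullback.snd f (S.fromSpecResidueField s)) := MorphismProperty.pullback_snd _ _ inferInstance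
  have hI : I.comap (f.fiberι s) = Fitt.sheafIdeal (Omega.sheaf (f.fiberToSpecResidueField s)) 1 :=
    FittLib.omega_comap f (S.fromSpecResidueField s) 1
  rw [smoothOrNode_iff (S.residueField s) (hd s)
    (OmegaAffLib.isUniversal_dOmega (f := f.fiberToSpecResidueField s)) (f.asFiber p), ← hI]
  refine and_congr ?_ ?_
  · rw [← ci_iff_isCIOver_stalk (S.residueField s) (f.asFiber p),
      CIRingLib.ci_fibre_stalk_iff f s (f.asFiber p) p (f.fiberι_asFiber p)]
    exact ⟨CIRingLib.isSyntomicAt_of_ciFib f p, CIRingLib.ciFib_of_isSyntomicAt f p⟩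
  · let J := I.comap (f.fiberι s)
    letI O : J.subscheme.Over (Spec (CommRingCat.of (S.residueField s))) :=
      ⟨J.subschemeι ≫ f.fiberToSpecResidueField s⟩
    haveI : LocallyOfFiniteType (J.subscheme ↘ Spec (CommRingCat.of (S.residueField s))) :=
      show LocallyOfFiniteType (J.subschemeι ≫ (f.fiber s ↘ Spec (CommRingCat.of (S.residueField s)))) from inferInstance
    let e : J.subscheme ≅ (I.subschemeι ≫ f).fiber s :=
      I.comapIso (f.fiberι s) ≪≫ pullbackSymmetry _ _ ≪≫
        pullbackRightPullbackFstIso f (S.fromSpecResidueField s) I.subschemeι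
    have he : e.hom ≫ (I.subschemeι ≫ f).fiberToSpecResidueField s =
        J.subschemeι ≫ f.fiberToSpecResidueField s := by
      show (_ ≫ _ ≫ _) ≫ pullback.snd _ _ = _ ≫ pullback.snd _ _
      rw [← Scheme.IdealSheafData.comapIso_hom_fst]
      simp [Scheme.Hom.fiberι]
    have he2 : e.hom ≫ (I.subschemeι ≫ f).fiberι s ≫ I.subschemeι = J.subschemeι ≫ f.fiberι s := by
      show (_ ≫ _ ≫ _) ≫ pullback.fst _ _ ≫ I.subschemeι = _ ≫ pullback.fst _ _
      rw [← Scheme.IdealSheafData.comapIso_hom_fst]
      simp [Scheme.Hom.fiberι, pullback.condition]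
    have hkey : ∀ v : J.subscheme,
        (I.subschemeι ≫ f).fiberι s (e.hom v) ∈ locus (I.subschemeι ≫ f) ↔
          (letI := Curv2.stalkAlgebra (S.residueField s) (f.fiber s) (J.subschemeι v);
            Algebra.FormallyUnramified (S.residueField s)
              ((f.fiber s).presheaf.stalk (J.subschemeι v) ⧸ IntMult.stalkIdeal J (J.subschemeι v))) := by
      intro v
      rw [locus_iff_fiber (I.subschemeι ≫ f) s (e.hom v), ← mem_locus_comp_left_iff, he]
      exact (locus_iff_stalk (S.residueField s) v).trans (formallyUnramified_stalk_subscheme _ J v)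
    have hpt : ∀ v : J.subscheme,
        I.subschemeι ((I.subschemeι ≫ f).fiberι s (e.hom v)) = f.fiberι s (J.subschemeι v) := fun v => by
      have := congrArg (fun φ : J.subscheme ⟶ X => φ v) he2
      simpa [Scheme.Hom.comp_apply] using this
    constructor
    · intro h w hw
      obtain ⟨u, rfl⟩ : w ∈ Set.range ((I.subschemeι ≫ f).fiberι s) := by
        rw [Scheme.Hom.range_fiberι]
        show f (I.subschemeι w) = s
        rw [hw]
      obtain ⟨v, rfl⟩ : ∃ v, e.hom v = u :=
        ⟨e.inv u, by rw [← Scheme.Hom.comp_apply, e.inv_hom_id]; rfl⟩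
      rw [hpt] at hw
      have hv : J.subschemeι v = f.asFiber p :=
        (f.fiberι s).isEmbedding.injective (hw.trans (f.fiberι_asFiber p).symm)
      rw [hkey, hv]
      exact h (hv ▸ J.range_subschemeι.subset ⟨v, rfl⟩)
    · intro h hmem
      obtain ⟨v, hv⟩ : f.asFiber p ∈ Set.range J.subschemeι := J.range_subschemeι.symm.subset hmem
      have := (hkey v).1 (h _ (by rw [hpt, hv]; exact f.fiberι_asFiber p))
      rwa [hv] at this

/-- The nodal locus of a quasi-separated family of curves is open. -/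
theorem isOpen_smoothOrNode_qs [Flat f] [LocallyOfFinitePresentation f] [QuasiSeparated f]
    (hd : ∀ s : S, CurveDims (f.fiber s)) :
    IsOpen {p : X |
      @SmoothOrNode (S.residueField (f p)) _ (f.fiber (f p)) ⟨f.fiberToSpecResidueField (f p)⟩ (f.asFiber p)} := by
  let I := Fitt.sheafIdeal (Omega.sheaf f) 1
  suffices h : IsOpen ({p : X | Synt.IsSyntomicAt f p} ∩
      {p : X | ∀ w, I.subschemeι w = p → w ∈ locus (I.subschemeι ≫ f)}) by
    convert h using 1
    ext p
    exact smoothOrNode_fiber_iff f hd p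
  refine IsOpen.inter ?_ ?_
  · refine isOpen_iff_forall_mem_open.2 fun p hp => ?_
    obtain ⟨U, V, e, hpU, hs⟩ := hp
    exact ⟨U.1, fun q hq => ⟨U, V, e, hq, hs⟩, U.1.2, hpU⟩
  · have : {p : X | ∀ w, I.subschemeι w = p → w ∈ locus (I.subschemeι ≫ f)} =
        (I.subschemeι '' (locus (I.subschemeι ≫ f))ᶜ)ᶜ := by
      ext p
      simp only [Set.mem_setOf_eq, Set.mem_compl_iff, Set.mem_image, not_exists, not_and]
      exact ⟨fun h w hw e => hw (h w e), fun h w e => by_contra fun hw => h w hw e⟩
    rw [this]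
    exact (I.subschemeι.isClosedEmbedding.isClosedMap _ (isOpen_locus _).isClosed_compl).isOpen_compl

/-- The nodal locus of a family of curves is open. -/
theorem isOpen_smoothOrNode [Flat f] [LocallyOfFinitePresentation f] (hd : ∀ s : S, CurveDims (f.fiber s)) :
    IsOpen {p : X |
      @SmoothOrNode (S.residueField (f p)) _ (f.fiber (f p)) ⟨f.fiberToSpecResidueField (f p)⟩ (f.asFiber p)} := by
  refine isOpen_iff_forall_mem_open.2 fun p hp => ?_
  obtain ⟨U, hU, hpU, -⟩ := exists_isAffineOpen_mem_and_subset (X := S) (x := f p) (U := ⊤) trivial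
  obtain ⟨V, hV, hpV, hVU⟩ := exists_isAffineOpen_mem_and_subset (x := p) (U := f ⁻¹ᵁ U) hpU
  haveI : IsAffine (V : Scheme.{u}) := hV
  haveI : IsAffine (U : Scheme.{u}) := hU
  haveI : QuasiSeparated (V.ι ≫ f) := by
    rw [← Scheme.Hom.resLE_comp_ι f (show V ≤ f ⁻¹ᵁ U from hVU)]
    infer_instance
  have hcmp : ∀ v : V, @SmoothOrNode (S.residueField (f (V.ι v))) _ (f.fiber (f (V.ι v)))
      ⟨f.fiberToSpecResidueField (f (V.ι v))⟩ (f.asFiber (V.ι v)) ↔
      @SmoothOrNode (S.residueField ((V.ι ≫ f) v)) _ ((V.ι ≫ f).fiber ((V.ι ≫ f) v))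
      ⟨(V.ι ≫ f).fiberToSpecResidueField ((V.ι ≫ f) v)⟩ ((V.ι ≫ f).asFiber v) := by
    intro v
    let s := (V.ι ≫ f) v
    letI : (f.fiber s).Over (Spec (CommRingCat.of (S.residueField s))) := ⟨f.fiberToSpecResidueField s⟩
    haveI : LocallyOfFiniteType (f.fiber s ↘ Spec (CommRingCat.of (S.residueField s))) :=
      locallyOfFiniteType_fiberTo f s
    haveI := etale_fiberMap V.ι f s
    have hpt : MoreMor.fiberMap V.ι f s ((V.ι ≫ f).asFiber v) = f.asFiber (V.ι v) := by
      refine (f.fiberι s).isEmbedding.injective ?_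
      have h1 := congrArg (fun φ : (V.ι ≫ f).fiber s ⟶ X => φ ((V.ι ≫ f).asFiber v)) (FlatLib.fiberMap_ι V.ι f s)
      simp only [Scheme.Hom.comp_apply] at h1
      rw [h1, Scheme.Hom.fiberι_asFiber]
      exact (f.fiberι_asFiber (V.ι v)).symm
    have h := smoothOrNode_etale (S.residueField s) (MoreMor.fiberMap V.ι f s) ((V.ι ≫ f).asFiber v)
    rw [hpt] at h
    have hover : MoreMor.fiberMap V.ι f s ≫ (f.fiber s ↘ Spec (CommRingCat.of (S.residueField s))) =
        (V.ι ≫ f).fiberToSpecResidueField s := FlatLib.fiberMap_to V.ι f s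
    rw [hover] at h
    exact h
  have hdV : ∀ s : S, CurveDims ((V.ι ≫ f).fiber s) := fun s => by
    letI : (f.fiber s).Over (Spec (CommRingCat.of (S.residueField s))) := ⟨f.fiberToSpecResidueField s⟩
    haveI : LocallyOfFiniteType (f.fiber s ↘ Spec (CommRingCat.of (S.residueField s))) :=
      locallyOfFiniteType_fiberTo f s
    haveI := etale_fiberMap V.ι f s
    exact curveDims_of_etale (S.residueField s) (MoreMor.fiberMap V.ι f s) (hd s)
  have hW := isOpen_smoothOrNode_qs (V.ι ≫ f) hdV
  refine ⟨V.ι '' _, ?_, V.ι.isOpenEmbedding.isOpenMap _ hW, ⟨⟨p, hpV⟩, ?_, rfl⟩⟩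
  · rintro _ ⟨v, hv, rfl⟩
    exact (hcmp v).2 hv
  · exact (hcmp ⟨p, hpV⟩).1 hp

/-- Smooth near a point, or a node of its fibre: the pointwise nodal condition. -/
theorem smooth_or_isNode_iff [Flat f] [LocallyOfFinitePresentation f] (hd : ∀ s : S, CurveDims (f.fiber s))
    (p : X) :
    ((∃ U : X.Opens, p ∈ U ∧ Smooth (U.ι ≫ f)) ∨
      @Curv2.IsNode (S.residueField (f p)) _ (f.fiber (f p)) ⟨f.fiberToSpecResidueField (f p)⟩ (f.asFiber p)) ↔
    @SmoothOrNode (S.residueField (f p)) _ (f.fiber (f p)) ⟨f.fiberToSpecResidueField (f p)⟩ (f.asFiber p) := by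
  let k := S.residueField (f p)
  letI : (f.fiber (f p)).Over (Spec (CommRingCat.of k)) := ⟨f.fiberToSpecResidueField (f p)⟩
  haveI : LocallyOfFiniteType (f.fiber (f p) ↘ Spec (CommRingCat.of k)) := locallyOfFiniteType_fiberTo f (f p)
  haveI : LocallyOfFinitePresentation (f.fiberToSpecResidueField (f.base p)) :=
    MorphismProperty.pullback_snd (P := @LocallyOfFinitePresentation) _ _ inferInstance
  haveI := lfp_over k (X := f.fiber (f p))
  refine or_congr ?_ ⟨fun h => ((isNode_iff k _).1 h).2,
    fun h => (isNode_iff k _).2 ⟨(closed_of_geoNode k (hd _) _ h).1, h⟩⟩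
  rw [smooth_nhd_iff, smooth_nhd_iff, Groth.Agent.S2156.result f p, and_iff_right (Flat.stalkMap f p)]
  rfl

end NodalLib

end
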