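import Groth.Agent.NodalLib.Marked

/-!
# Pointed nodal curves: degree bounds
-/

set_option autoImplicit false
set_option linter.style.haveILetI false
set_option linter.unusedSectionVars false
set_option maxHeartbeats 1000000
set_option backward.isDefEq.respectTransparency false
set_option backward.isDefEq.respectTransparency.types false

universe u

open CategoryTheory CategoryTheory.Limits AlgebraicGeometry TopologicalSpace Opposite
open DevissLib (St gm)
open NefH1Lib.Subcurve
open NefH1Lib.Adj

noncomputable section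

namespace NodalLib

variable (k : Type u) [Field k] [IsAlgClosed k] {X : Scheme.{u}} [X.Over (Spec (CommRingCat.of k))]
  [IsProper (X ↘ Spec (CommRingCat.of k))] [IsReduced X] [ConnectedSpace X]
  (hdim : topologicalKrullDim X = 1) {ω : X.Modules} (hω : PicF.IsInvertible ω)
  (hdual : ∀ G : X.Modules, Coh.IsQCoh G → Nonempty ((G ⟶ ω) ≃ₗ[k] Module.Dual k (Coh.HH X G 1)))
  (hχ : Curv2.euler k X ω = - Curv2.euler k X (Coh.structureModule X))
  {D : Set X} (hDf : D.Finite) (hD : IsClosed D)
  (hsm : ∀ x ∈ D, ∃ U : X.Opens, x ∈ U ∧ Smooth (U.ι ≫ (X ↘ Spec (CommRingCat.of k))))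
  {N : X.Modules} (hN : ClSub.IsInverseOf N (ClSub.idealMod (Scheme.IdealSheafData.vanishingIdeal ⟨D, hD⟩)))
  {M : X.Modules} (e : M ≅ CohB1.tensorMod ω N)

include hω hN e in
omit [IsAlgClosed k] [IsReduced X] [ConnectedSpace X] in
theorem isInvertible_twist : PicF.IsInvertible M :=
  HilbPolyLib.isInvertible_of_iso e.symm
    (HilbPolyLib.isInvertible_tensor hω (Groth.Agent.S2122.result N _ hN.some))

include hdim hω hdual hχ hDf hsm hN e

/-- The degree of the twisted dualizing module on a connected subcurve. -/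
theorem dJ_twist (J : X.IdealSheafData) (hr : IsReduced J.subscheme) (hc : ConnectedSpace J.subscheme)
    (hd : topologicalKrullDim J.subscheme = 1) :
    dJ k M J = 2 * (gJ k J : ℤ) - 2 + kJ k J + ((D ∩ (J.support : Set X)).ncard : ℤ) := by
  obtain ⟨T, B, hTm, -, -, -, -, hJ, -⟩ := exists_sub k hdim J hr hc hd
  rw [← deg_dualizing_sub k hdim hω hdual hχ J hr hc hd]
  subst hJ
  rw [dJ, dJ, deg_subscheme k (isInvertible_twist hω hD hN e), deg_subscheme k hω, support_sub,
    ← excess_eq k hdim hDf hD hN hsm hTm, ← (twist_facts k hdim hDf hD hN hTm).1 ω hω, delta, delta]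
  congr 1
  exact CurvLib.euler_congr (k := k) (PicGrp.tensorModIso e (Iso.refl _))

/-- The total degree of the twisted dualizing module. -/
theorem deg_twist : Curv2.deg k X M 1 = 2 * (Curv2.genus k X : ℤ) - 2 + D.ncard := by
  obtain ⟨e'⟩ := nonempty_quot_all (X := X) (T := {η : X | IsMaxPt η}) fun η h => h
  rw [deg_eq_delta, delta_congr k M e', ← excess_all k hdim hDf hD hN,
    ← deg_dualizing k hdim hω hdual hχ, deg_eq_delta k ω, delta_congr k ω e',
    ← (twist_facts k hdim hDf hD hN (T := {η : X | IsMaxPt η}) fun η h => h).1 ω hω, delta, delta]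
  congr 1
  exact CurvLib.euler_congr (k := k) (PicGrp.tensorModIso e (Iso.refl _))

/-- Degrees on powers. -/
theorem dJ_twist_pow (m : ℕ) (J : X.IdealSheafData) (hr : IsReduced J.subscheme) (hc : ConnectedSpace J.subscheme)
    (hd : topologicalKrullDim J.subscheme = 1) : dJ k (CohB1.tensorPow M m) J = (m : ℤ) * dJ k M J :=
  deg_pow_sub k hdim (isInvertible_twist hω hD hN e) m J hr hc hd

/-- Degree bounds for powers of a semistable twisted dualizing module. -/
theorem pow_bounds (hpos : ∀ J : X.IdealSheafData, IsReduced J.subscheme → ConnectedSpace J.subscheme →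
      topologicalKrullDim J.subscheme = 1 → 0 ≤ dJ k M J ∧ (kJ k J = 0 → 0 < dJ k M J))
    (m : ℕ) (hm : 2 ≤ m) (J : X.IdealSheafData) (hr : IsReduced J.subscheme) (hc : ConnectedSpace J.subscheme)
    (hd : topologicalKrullDim J.subscheme = 1) :
    2 * (gJ k J : ℤ) ≤ dJ k (CohB1.tensorPow M m) J ∧ 2 * (gJ k J : ℤ) - 2 < dJ k (CohB1.tensorPow M m) J := by
  have h1 := dJ_twist k hdim hω hdual hχ hDf hD hsm hN e J hr hc hd
  obtain ⟨h2, h3⟩ := hpos J hr hc hd
  have hm' : (2 : ℤ) ≤ m := by exact_mod_cast hm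
  have h4 : 2 * dJ k M J ≤ (m : ℤ) * dJ k M J := mul_le_mul_of_nonneg_right hm' h2
  rw [dJ_twist_pow k hdim hω hdual hχ hDf hD hsm hN e m J hr hc hd]
  by_cases h0 : kJ k J = 0
  · have := h3 h0
    omega
  · omega

theorem subsingleton_h1_pow (hpos : ∀ J : X.IdealSheafData, IsReduced J.subscheme → ConnectedSpace J.subscheme →
      topologicalKrullDim J.subscheme = 1 → 0 ≤ dJ k M J ∧ (kJ k J = 0 → 0 < dJ k M J))
    (m : ℕ) (hm : 2 ≤ m) : Subsingleton (Coh.HH X (CohB1.tensorPow M m) 1) :=
  subsingleton_h1 k hdim (AmpleThLib.tensorPow_isInvertible (isInvertible_twist hω hD hN e) m) fun J hr hc hd =>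
    (pow_bounds k hdim hω hdual hχ hDf hD hsm hN e hpos m hm J hr hc hd).2

theorem gg_twist_pow (hpos : ∀ J : X.IdealSheafData, IsReduced J.subscheme → ConnectedSpace J.subscheme →
      topologicalKrullDim J.subscheme = 1 → 0 ≤ dJ k M J ∧ (kJ k J = 0 → 0 < dJ k M J))
    (m : ℕ) (hm : 2 ≤ m) : Curv2.IsGloballyGenerated (CohB1.tensorPow M m) :=
  globallyGenerated k hdim (AmpleThLib.tensorPow_isInvertible (isInvertible_twist hω hD hN e) m) fun J hr hc hd =>
    (pow_bounds k hdim hω hdual hχ hDf hD hsm hN e hpos m hm J hr hc hd).1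

/-- Positivity from stability. -/
theorem pos_of_ample (hA : CohB1.IsAmple M) (J : X.IdealSheafData) (hr : IsReduced J.subscheme)
    (hc : ConnectedSpace J.subscheme) (hd : topologicalKrullDim J.subscheme = 1) :
    0 ≤ dJ k M J ∧ (kJ k J = 0 → 0 < dJ k M J) := by
  have h := (deg_pos_of_ample k hdim hA J hr hc hd).1
  exact ⟨by omega, fun _ => by omega⟩

variable (hX : Curv2.AtWorstNodal k X)

include hX

/-- Nonnegativity from semistability on the components. -/
theorem nonneg_of_semistable (hss : ∀ (E : Set X) (hE : E ∈ irreducibleComponents (X : Type u)),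
      Subsingleton (Coh.HH (Scheme.IdealSheafData.vanishingIdeal ⟨E, isClosed_of_mem_irreducibleComponents E hE⟩).subscheme
        (Coh.structureModule (Scheme.IdealSheafData.vanishingIdeal ⟨E, isClosed_of_mem_irreducibleComponents E hE⟩).subscheme) 1) →
      2 ≤ (E ∩ closure Eᶜ).ncard + (D ∩ E).ncard)
    (J : X.IdealSheafData) (hr : IsReduced J.subscheme) (hc : ConnectedSpace J.subscheme)
    (hd : topologicalKrullDim J.subscheme = 1) : 0 ≤ dJ k M J := by
  have hM := isInvertible_twist hω hD hN e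
  have hcomp : ∀ η, IsMaxPt η → 0 ≤ dJ k M (sub ({η} : Set X)) := fun η hη => by
    obtain ⟨-, hr', hc', hd'⟩ := facts_single k hdim hη
    have h1 := dJ_twist k hdim hω hdual hχ hDf hD hsm hN e _ hr' hc' hd'
    by_cases hg : gJ k (sub ({η} : Set X)) = 0
    swap
    · omega
    have hE := closure_mem_components hη
    have h2 := hss _ hE (by
      rw [show (⟨closure ({η} : Set X), isClosed_of_mem_irreducibleComponents _ hE⟩ : Closeds X) =
        ⟨closure ({η} : Set X), isClosed_closure⟩ from rfl]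
      refine (subsingleton_h1_subscheme_iff k hdim _).mpr ?_
      have hd1 : topologicalKrullDim X ≤ ((1 : ℕ) : WithBot ℕ∞) := by simpa using hdim.le
      show Module.finrank k (Coh.HH X (ClSub.quotMod (sub ({η} : Set X))) 1) = 0
      rw [← (euler_subscheme k hd1 (sub ({η} : Set X))).2]
      exact hg)
    rw [kJ_eq_card k hdim hX _ hr' hc' hd', support_sub] at h1
    rw [Nat.card_coe_set_eq] at h1
    omega
  obtain ⟨T, B, hTm, -, -, -, -, rfl, -⟩ := exists_sub k hdim J hr hc hd
  rw [dJ, deg_subscheme k hM]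
  exact (delta_nonneg k hdim hM hTm fun η hη => hcomp η (hTm η hη)).1

/-- Positivity from semistability. -/
theorem pos_of_semistable (hss : ∀ (E : Set X) (hE : E ∈ irreducibleComponents (X : Type u)),
      Subsingleton (Coh.HH (Scheme.IdealSheafData.vanishingIdeal ⟨E, isClosed_of_mem_irreducibleComponents E hE⟩).subscheme
        (Coh.structureModule (Scheme.IdealSheafData.vanishingIdeal ⟨E, isClosed_of_mem_irreducibleComponents E hE⟩).subscheme) 1) →
      2 ≤ (E ∩ closure Eᶜ).ncard + (D ∩ E).ncard)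
    (hgn : 0 < 2 * (Curv2.genus k X : ℤ) - 2 + D.ncard)
    (J : X.IdealSheafData) (hr : IsReduced J.subscheme) (hc : ConnectedSpace J.subscheme)
    (hd : topologicalKrullDim J.subscheme = 1) : 0 ≤ dJ k M J ∧ (kJ k J = 0 → 0 < dJ k M J) := by
  refine ⟨nonneg_of_semistable k hdim hω hdual hχ hDf hD hsm hN e hX hss J hr hc hd, fun h0 => ?_⟩
  rcases whole_or_meets k hdim J hr hc hd with ⟨-, -, e3⟩ | hk
  · rw [e3 M (isInvertible_twist hω hD hN e), deg_twist k hdim hω hdual hχ hDf hD hsm hN e]
    exact hgn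
  · omega

end NodalLib

end

namespace NodalLib

open NefH1Lib.Subcurve NefH1Lib.Adj

variable (k : Type u) [Field k] [IsAlgClosed k] {X : Scheme.{u}} [X.Over (Spec (CommRingCat.of k))]
  [IsProper (X ↘ Spec (CommRingCat.of k))] [IsReduced X] [ConnectedSpace X]

/-- Subcurves of a curve without `H¹(O)` have none. -/
theorem gJ_eq_zero (hdim : topologicalKrullDim X = 1) {ω : X.Modules}
    (hdual : ∀ G : X.Modules, Coh.IsQCoh G → Nonempty ((G ⟶ ω) ≃ₗ[k] Module.Dual k (Coh.HH X G 1)))
    (hg : Subsingleton (Coh.HH X (Coh.structureModule X) 1)) (J : X.IdealSheafData) : gJ k J = 0 := by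
  haveI := CurvLib.isNoetherian k (X := X)
  have hd1 : topologicalKrullDim X ≤ ((1 : ℕ) : WithBot ℕ∞) := by simpa using hdim.le
  rw [gJ, (euler_subscheme k hd1 J).2]
  obtain ⟨EO⟩ := hdual _ (DevissLib.isCoh_structureModule X).1
  haveI := hg
  haveI : Subsingleton (Module.Dual k (Coh.HH X (Coh.structureModule X) 1)) :=
    ⟨fun a b => LinearMap.ext fun v => by rw [Subsingleton.elim v 0, map_zero, map_zero]⟩
  haveI : Subsingleton (Coh.structureModule X ⟶ ω) := EO.toEquiv.subsingleton
  have hQ := CurvLib.isCoh_quotMod J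
  obtain ⟨E⟩ := hdual _ hQ.1
  haveI : Subsingleton (ClSub.quotMod J ⟶ ω) := ⟨fun a b => by
    haveI := CurvLib.epi_toSubscheme J
    exact (cancel_epi (ClSub.toSubscheme J)).mp (Subsingleton.elim _ _)⟩
  haveI := CurvLib.finite_HH (k := k) hQ 1
  rw [← Subspace.dual_finrank_eq, ← E.finrank_eq]
  exact Module.finrank_zero_of_subsingleton

theorem finite_range_closed {n : ℕ} (p : Fin n → X) (hpcl : ∀ i, IsClosed ({p i} : Set X)) :
    (⋃ i, ({p i} : Set X)).Finite :=
  Set.finite_iUnion fun i => Set.finite_singleton _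

theorem ncard_marked {n : ℕ} (p : Fin n → X) (hp : Function.Injective p) (E : Set X) :
    ((⋃ i, ({p i} : Set X)) ∩ E).ncard = (p ⁻¹' E).ncard := by
  rw [show (⋃ i, ({p i} : Set X)) ∩ E = p '' (p ⁻¹' E) by
    rw [Set.image_preimage_eq_range_inter, Set.iUnion_singleton_eq_range],
    Set.ncard_image_of_injective _ hp]

theorem ncard_marked_all {n : ℕ} (p : Fin n → X) (hp : Function.Injective p) :
    (⋃ i, ({p i} : Set X)).ncard = n := by
  rw [Set.iUnion_singleton_eq_range, ← Set.image_univ, Set.ncard_image_of_injective _ hp, Set.ncard_univ,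
    Nat.card_fin]

end NodalLib
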