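import Groth.Agent.NodeCplLib.Main
import Groth.Agent.NodalLib.QuadCpl

/-!
# Flat deformations of plane nodes over a complete base
-/

set_option autoImplicit false
set_option linter.style.haveILetI false
set_option linter.unusedSectionVars false
set_option maxHeartbeats 1000000
set_option synthInstance.maxHeartbeats 100000
set_option backward.isDefEq.respectTransparency false
set_option backward.isDefEq.respectTransparency.types false

universe u

open IsLocalRing

noncomputable section

namespace NodalLib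

/-- Successive approximation: the equation of a node can be made constant. -/
theorem exists_quad_node_seq {A B : Type u} [CommRing A] [IsLocalRing A] [CommRing B] [IsLocalRing B] [Algebra A B]
    [IsLocalHom (algebraMap A B)]
    (hres : Function.Bijective (ResidueField.map (algebraMap A B)))
    (a b c : A) (hd : IsUnit (4 * a * c - b ^ 2)) {u v : B}
    (huv : qf (algebraMap A B a) (algebraMap A B b) (algebraMap A B c) u v ∈ (maximalIdeal A).map (algebraMap A B))
    (hgen : maximalIdeal B = Ideal.span {u, v} ⊔ (maximalIdeal A).map (algebraMap A B)) :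
    ∃ (us vs : ℕ → B) (ε : ℕ → A), us 0 = u ∧ vs 0 = v ∧
      ∀ n : ℕ, ε n ∈ maximalIdeal A ∧
        us (n + 1) - us n ∈ (maximalIdeal A ^ (n + 1)).map (algebraMap A B) ∧
        vs (n + 1) - vs n ∈ (maximalIdeal A ^ (n + 1)).map (algebraMap A B) ∧
        ε (n + 1) - ε n ∈ maximalIdeal A ^ (n + 1) ∧
        qf (algebraMap A B a) (algebraMap A B b) (algebraMap A B c) (us n) (vs n) - algebraMap A B (ε n) ∈
          (maximalIdeal A ^ (n + 1)).map (algebraMap A B) := by
  let φ := algebraMap A B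
  let M : Ideal B := (maximalIdeal A).map φ
  obtain ⟨d, hd'⟩ := hd.exists_left_inv
  let P : ℕ → B × B × A → Prop := fun n s => s.1 - u ∈ M ∧ s.2.1 - v ∈ M ∧ s.2.2 ∈ maximalIdeal A ∧
    qf (φ a) (φ b) (φ c) s.1 s.2.1 - φ s.2.2 ∈ (maximalIdeal A ^ (n + 1)).map φ
  have hpow : ∀ n : ℕ, (maximalIdeal A ^ (n + 1)).map φ ≤ M := fun n =>
    Ideal.map_mono (Ideal.pow_le_self n.succ_ne_zero)
  have step : ∀ n s, P n s → ∃ t, P (n + 1) t ∧
      t.1 - s.1 ∈ (maximalIdeal A ^ (n + 1)).map φ ∧
      t.2.1 - s.2.1 ∈ (maximalIdeal A ^ (n + 1)).map φ ∧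
      t.2.2 - s.2.2 ∈ maximalIdeal A ^ (n + 1) := by
    rintro n ⟨x, y, e⟩ ⟨hx, hy, he, hr⟩
    obtain ⟨k, hk, p, hp, q, hq, hw⟩ := NodeCplLib.exists_split hres hgen _ hr
    let ξ := φ d * (2 * φ c * p - φ b * q)
    let η := φ d * (2 * φ a * q - φ b * p)
    have hξ : ξ ∈ (maximalIdeal A ^ (n + 1)).map φ :=
      Ideal.mul_mem_left _ _ (sub_mem (Ideal.mul_mem_left _ _ hp) (Ideal.mul_mem_left _ _ hq))
    have hη : η ∈ (maximalIdeal A ^ (n + 1)).map φ :=
      Ideal.mul_mem_left _ _ (sub_mem (Ideal.mul_mem_left _ _ hq) (Ideal.mul_mem_left _ _ hp))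
    have hone : φ d * (4 * φ a * φ c - φ b ^ 2) = 1 := by
      rw [← map_one φ, ← hd']
      simp only [map_mul, map_sub, map_pow, map_ofNat]
    have hlin : (2 * φ a * u + φ b * v) * ξ + (φ b * u + 2 * φ c * v) * η = p * u + q * v := by
      simp only [ξ, η]
      linear_combination (p * u + q * v) * hone
    refine ⟨⟨x - ξ, y - η, e + k⟩, ⟨?_, ?_, add_mem he (Ideal.pow_le_self n.succ_ne_zero hk), ?_⟩, ?_, ?_, ?_⟩
    · show x - ξ - u ∈ M
      rw [sub_right_comm]
      exact sub_mem hx (hpow n hξ)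
    · show y - η - v ∈ M
      rw [sub_right_comm]
      exact sub_mem hy (hpow n hη)
    · show qf (φ a) (φ b) (φ c) (x - ξ) (y - η) - φ (e + k) ∈ _
      rw [pow_succ, map_add, show qf (φ a) (φ b) (φ c) (x - ξ) (y - η) - (φ e + φ k) =
        (qf (φ a) (φ b) (φ c) x y - φ e - (φ k + p * u + q * v))
          + ξ * (2 * φ a * (u - x) + φ b * (v - y) + φ a * ξ + φ b * η)
          + η * (φ b * (u - x) + 2 * φ c * (v - y) + φ c * η) by
        simp only [qf]; linear_combination (-1 : B) * hlin]
      rw [Ideal.map_mul] at hw ⊢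
      have hux : u - x ∈ M := by rw [← neg_sub]; exact neg_mem hx
      have hvy : v - y ∈ M := by rw [← neg_sub]; exact neg_mem hy
      refine add_mem (add_mem hw (Ideal.mul_mem_mul hξ ?_)) (Ideal.mul_mem_mul hη ?_)
      · exact add_mem (add_mem (add_mem (Ideal.mul_mem_left _ _ hux) (Ideal.mul_mem_left _ _ hvy))
          (Ideal.mul_mem_left _ _ (hpow n hξ))) (Ideal.mul_mem_left _ _ (hpow n hη))
      · exact add_mem (add_mem (Ideal.mul_mem_left _ _ hux) (Ideal.mul_mem_left _ _ hvy))
          (Ideal.mul_mem_left _ _ (hpow n hη))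
    · show x - ξ - x ∈ _
      simpa using neg_mem hξ
    · show y - η - y ∈ _
      simpa using neg_mem hη
    · show e + k - e ∈ _
      simpa using hk
  choose next hnext using step
  let seq : ∀ n, { s : B × B × A // P n s } := fun n => Nat.rec
    ⟨(u, v, 0), by simp, by simp, zero_mem _, by simpa using huv⟩
    (fun m s => ⟨next m s.1 s.2, (hnext m s.1 s.2).1⟩) n
  refine ⟨fun n => (seq n).1.1, fun n => (seq n).1.2.1, fun n => (seq n).1.2.2, rfl, rfl, fun n => ?_⟩
  obtain ⟨-, -, h3, h4⟩ := (seq n).2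
  obtain ⟨-, d1, d2, d3⟩ := hnext n (seq n).1 (seq n).2
  exact ⟨h3, d1, d2, d3, h4⟩

/-- The residue map of a completion. -/
def cplRes (A : Type u) [CommRing A] [IsLocalRing A] :
    AdicCompletion (maximalIdeal A) A →+* ResidueField A :=
  (AdicCompletion.evalOneₐ (maximalIdeal A)).toRingHom

theorem cplRes_eq_zero_iff (A : Type u) [CommRing A] [IsLocalRing A] [IsNoetherianRing A]
    (x : AdicCompletion (maximalIdeal A) A) :
    cplRes A x = 0 ↔ x ∈ (maximalIdeal A).map (algebraMap A (AdicCompletion (maximalIdeal A) A)) := by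
  rw [← AdicCompletion.ker_evalOneₐ_eq_map _ (maximalIdeal A).fg_of_isNoetherianRing]
  exact Iff.rfl

theorem cplRes_algebraMap (A : Type u) [CommRing A] [IsLocalRing A] (r : A) :
    cplRes A (algebraMap A (AdicCompletion (maximalIdeal A) A) r) = residue A r :=
  (AdicCompletion.evalOneₐ (maximalIdeal A)).commutes r

/-- A flat complete algebra with nodal closed fibre is a deformed node. -/
theorem exists_quad_node_equiv (A B : Type u) [CommRing A] [IsLocalRing A] [IsNoetherianRing A]
    [CommRing B] [IsLocalRing B] [IsNoetherianRing B] [IsAdicComplete (maximalIdeal B) B]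
    [Algebra A B] [Module.Flat A B]
    (a b c : AdicCompletion (maximalIdeal A) A) (hd : IsUnit (4 * a * c - b ^ 2))
    (θ : B →+* Q (cplRes A a) (cplRes A b) (cplRes A c)) (hθ : Function.Surjective θ)
    (hker : RingHom.ker θ = (maximalIdeal A).map (algebraMap A B))
    (hθc : ∀ r : A, θ (algebraMap A B r) = Qc _ _ _ (residue A r)) :
    ∃ h ∈ maximalIdeal (AdicCompletion (maximalIdeal A) A),
      ∃ e : B ≃+* (MvPowerSeries (Fin 2) (AdicCompletion (maximalIdeal A) A) ⧸ Ideal.span
          {(MvPowerSeries.C a * MvPowerSeries.X 0 ^ 2 + MvPowerSeries.C b * MvPowerSeries.X 0 * MvPowerSeries.X 1 +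
            MvPowerSeries.C c * MvPowerSeries.X 1 ^ 2 - MvPowerSeries.C h :
              MvPowerSeries (Fin 2) (AdicCompletion (maximalIdeal A) A))}),
        ∀ r : A, e (algebraMap A B r) =
          Ideal.Quotient.mk _ (MvPowerSeries.C (algebraMap A (AdicCompletion (maximalIdeal A) A) r)) := by
  let N := Q (cplRes A a) (cplRes A b) (cplRes A c)
  haveI : IsLocalRing N := isLocalRing_Q _ _ _
  haveI : IsNoetherianRing N := isNoetherianRing_Q _ _ _
  let φ := algebraMap A B
  let M : Ideal B := (maximalIdeal A).map φ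
  have hMle : M ≤ maximalIdeal B := by
    rw [show M = RingHom.ker θ from hker.symm]; exact le_maximalIdeal (RingHom.ker_ne_top θ)
  let Ah := AdicCompletion (maximalIdeal A) A
  haveI : IsNoetherianRing Ah := AdicRingLib.isNoetherianRing_adicCompletion _
  have hmA : maximalIdeal Ah = (maximalIdeal A).map (algebraMap A Ah) := AdicCompletion.maximalIdeal_eq_map
  let g : Ah →+* B := CompleteLib.completionLift (maximalIdeal A) (maximalIdeal B) φ hMle
  have hg : ∀ r, g (algebraMap A Ah r) = φ r := CompleteLib.completionLift_algebraMap _ _ _ _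
  have hgM : (maximalIdeal Ah).map g = M := by
    rw [hmA, Ideal.map_map, show g.comp (algebraMap A Ah) = φ from RingHom.ext hg]
  letI : Algebra Ah B := g.toAlgebra
  haveI : IsLocalHom (algebraMap Ah B) := ⟨fun x hx => by
    by_contra hn
    exact (mem_maximalIdeal _).1 (hMle (hgM ▸ Ideal.mem_map_of_mem g ((mem_maximalIdeal x).2 hn))) hx⟩
  have hθg : ∀ x, θ (g x) = Qc _ _ _ (cplRes A x) := by
    intro x
    obtain ⟨r, hr⟩ := residue_surjective (cplRes A x)
    have h1 : x - algebraMap A Ah r ∈ maximalIdeal Ah := by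
      rw [hmA, ← cplRes_eq_zero_iff, map_sub, cplRes_algebraMap, hr, sub_self]
    have h2 : θ (g (x - algebraMap A Ah r)) = 0 := by
      rw [← RingHom.mem_ker, hker]
      exact hgM.le (Ideal.mem_map_of_mem g h1)
    rw [map_sub, map_sub, sub_eq_zero, hg, hθc, hr] at h2
    exact h2
  have hmB : maximalIdeal B = (maximalIdeal N).comap θ := by
    refine (IsLocalRing.eq_maximalIdeal ?_).symm
    exact Ideal.comap_isMaximal_of_surjective θ hθ
  have hres : Function.Bijective (ResidueField.map (algebraMap Ah B)) := by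
    refine ⟨(ResidueField.map (algebraMap Ah B)).injective, fun z => ?_⟩
    obtain ⟨y, rfl⟩ := residue_surjective z
    obtain ⟨F, hF⟩ := Ideal.Quotient.mk_surjective (θ y)
    obtain ⟨r, hr⟩ := residue_surjective (MvPowerSeries.constantCoeff F)
    refine ⟨residue Ah (algebraMap A Ah r), ?_⟩
    rw [ResidueField.map_residue, ← sub_eq_zero, ← map_sub, residue_eq_zero_iff, hmB, Ideal.mem_comap, map_sub]
    show θ (g (algebraMap A Ah r)) - θ y ∈ _
    rw [hg, hθc, hr, ← hF]
    show Ideal.Quotient.mk _ (MvPowerSeries.C _) - Ideal.Quotient.mk _ F ∈ _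
    rw [← map_sub, ← map_maximalIdeal_of_surjective (Ideal.Quotient.mk _) Ideal.Quotient.mk_surjective]
    refine Ideal.mem_map_of_mem _ ((mem_maximalIdeal _).2 ?_)
    rw [mem_nonunits_iff, MvPowerSeries.isUnit_iff_constantCoeff]
    simp
  obtain ⟨u, hu⟩ := hθ (Qx _ _ _ 0)
  obtain ⟨v, hv⟩ := hθ (Qx _ _ _ 1)
  have hkerM : RingHom.ker θ = (maximalIdeal Ah).map (algebraMap Ah B) := hker.trans hgM.symm
  have huv : qf (algebraMap Ah B a) (algebraMap Ah B b) (algebraMap Ah B c) u v ∈
      (maximalIdeal Ah).map (algebraMap Ah B) := by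
    rw [← hkerM, RingHom.mem_ker, map_qf, hu, hv]
    show qf (θ (g a)) (θ (g b)) (θ (g c)) _ _ = 0
    rw [hθg, hθg, hθg, qf_Q]
  have hgen : maximalIdeal B = Ideal.span {u, v} ⊔ (maximalIdeal Ah).map (algebraMap Ah B) := by
    rw [← hkerM, hmB, maximalIdeal_Q, RingHom.ker_eq_comap_bot, ← Ideal.comap_map_of_surjective θ hθ,
      Ideal.map_span, Set.image_pair, hu, hv]
  obtain ⟨us, vs, ε, hus0, hvs0, hseq⟩ := exists_quad_node_seq hres a b c hd huv hgen
  have hAle : (maximalIdeal Ah).map (algebraMap Ah B) ≤ maximalIdeal B := hgM.trans_le hMle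
  obtain ⟨U, hU, hU0⟩ := NodeCplLib.exists_limit ((maximalIdeal Ah).map (algebraMap Ah B)) hAle us fun n => by
    rw [← Ideal.map_pow]; exact (hseq n).2.1
  obtain ⟨V, hV, hV0⟩ := NodeCplLib.exists_limit ((maximalIdeal Ah).map (algebraMap Ah B)) hAle vs fun n => by
    rw [← Ideal.map_pow]; exact (hseq n).2.2.1
  obtain ⟨h, hh, hh0⟩ := NodeCplLib.exists_limit (maximalIdeal Ah) le_rfl ε fun n => (hseq n).2.2.2.1
  rw [hus0] at hU0
  rw [hvs0] at hV0
  have hhm : h ∈ maximalIdeal Ah := (Submodule.sub_mem_iff_left _ (hseq 0).1).1 hh0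
  have hrel : qf (g a) (g b) (g c) U V = g h := by
    refine sub_eq_zero.1 (IsHausdorff.haus (I := maximalIdeal B) inferInstance _ fun n => ?_)
    rw [SModEq.zero, smul_eq_mul, Ideal.mul_top,
      show qf (g a) (g b) (g c) U V - g h = (U - us n) * (g a * (U + us n) + g b * V) +
        (V - vs n) * (g b * us n + g c * (V + vs n)) +
        (qf (g a) (g b) (g c) (us n) (vs n) - g (ε n)) - g (h - ε n) by
      rw [map_sub g]; simp only [qf]; ring]
    refine sub_mem (add_mem (add_mem (Ideal.mul_mem_right _ _ (hU n)) (Ideal.mul_mem_right _ _ (hV n))) ?_) ?_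
    · refine Ideal.pow_le_pow_right n.le_succ (Ideal.pow_right_mono hAle _ ?_)
      rw [← Ideal.map_pow]
      exact (hseq n).2.2.2.2
    · have h1 := Ideal.mem_map_of_mem (algebraMap Ah B) (hh n)
      rw [Ideal.map_pow] at h1
      exact Ideal.pow_right_mono hAle n h1
  have hθU : θ U = Qx _ _ _ 0 := by
    rw [← hu, ← sub_eq_zero, ← map_sub, ← RingHom.mem_ker, hkerM]; exact hU0
  have hθV : θ V = Qx _ _ _ 1 := by
    rw [← hv, ← sub_eq_zero, ← map_sub, ← RingHom.mem_ker, hkerM]; exact hV0
  have hxy : ∀ i, ![U, V] i ∈ maximalIdeal B := by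
    intro i
    rw [hmB, Ideal.mem_comap, maximalIdeal_Q]
    fin_cases i
    · exact hθU.symm ▸ Ideal.subset_span (by simp)
    · exact hθV.symm ▸ Ideal.subset_span (by simp)
  let Φ := CohenLib.psHom (maximalIdeal B) g ![U, V] hxy
  have hX : ∀ i, Φ (MvPowerSeries.X i) = ![U, V] i := CohenLib.psHom_X _ _ _ _
  have hC : ∀ x, Φ (MvPowerSeries.C x) = g x := CohenLib.psHom_C _ _ _ _
  let P := MvPowerSeries (Fin 2) Ah
  let E : P := MvPowerSeries.C a * MvPowerSeries.X 0 ^ 2 + MvPowerSeries.C b * MvPowerSeries.X 0 * MvPowerSeries.X 1 +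
    MvPowerSeries.C c * MvPowerSeries.X 1 ^ 2 - MvPowerSeries.C h
  have hΦE : Φ E = 0 := by
    have : Φ E = qf (g a) (g b) (g c) U V - g h := by
      simp only [E, qf, map_sub, map_add, map_mul, map_pow]
      erw [hX 0, hX 1, hC a, hC b, hC c, hC h]
      rfl
    rw [this, hrel, sub_self]
  let S := P ⧸ Ideal.span {E}
  let ψ : S →ₐ[A] B :=
    { Ideal.Quotient.lift _ Φ (fun x hx => by
        obtain ⟨t, rfl⟩ := Ideal.mem_span_singleton.1 hx
        rw [map_mul, hΦE, zero_mul]) with
      commutes' := fun r => by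
        show Φ (algebraMap A (MvPowerSeries (Fin 2) Ah) r) = φ r
        rw [MvPowerSeries.algebraMap_apply]
        exact (hC _).trans (hg r) }
  have hψs : Function.Surjective ψ := by
    haveI := CohenLib.isAdicComplete_sup_varsIdeal (n := 2) Ah (maximalIdeal Ah)
    have hI : ((maximalIdeal Ah).map MvPowerSeries.C ⊔ CohenLib.varsIdeal Ah 2).map Φ = maximalIdeal B := by
      refine le_antisymm ?_ ?_
      · rw [Ideal.map_sup, sup_le_iff, Ideal.map_map, show Φ.comp MvPowerSeries.C = g from RingHom.ext hC]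
        refine ⟨hAle, ?_⟩
        rw [CohenLib.varsIdeal, Ideal.map_span, Ideal.span_le]
        rintro _ ⟨_, ⟨i, rfl⟩, rfl⟩
        rw [hX]; exact hxy i
      · set T := Ideal.map Φ ((maximalIdeal Ah).map MvPowerSeries.C ⊔ CohenLib.varsIdeal Ah 2)
        have hMT : (maximalIdeal Ah).map (algebraMap Ah B) ≤ T := by
          rw [show algebraMap Ah B = g from rfl, ← show Φ.comp MvPowerSeries.C = g from RingHom.ext hC,
            ← Ideal.map_map]
          exact Ideal.map_mono le_sup_left
        have hXT : ∀ i, ![U, V] i ∈ T := fun i => hX i ▸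
          Ideal.mem_map_of_mem _ (Ideal.mem_sup_right (Ideal.subset_span ⟨i, rfl⟩))
        rw [hgen, sup_le_iff]
        refine ⟨?_, hMT⟩
        rw [Ideal.span_le]
        rintro x (rfl | rfl)
        · rw [← sub_sub_cancel U x]; exact sub_mem (hXT 0) (hMT hU0)
        · rw [← sub_sub_cancel V x]; exact sub_mem (hXT 1) (hMT hV0)
    have hs : Function.Surjective Φ := CohenLib.surjective_of_complete (maximalIdeal B)
      ((maximalIdeal Ah).map MvPowerSeries.C ⊔ CohenLib.varsIdeal Ah 2) Φ hI fun r => by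
      obtain ⟨z, hz⟩ := hres.2 (residue B r)
      obtain ⟨w, rfl⟩ := residue_surjective z
      refine ⟨MvPowerSeries.C w, ?_⟩
      rw [hC, ← residue_eq_zero_iff, map_sub, sub_eq_zero, ← hz, ResidueField.map_residue]
      rfl
    intro r
    obtain ⟨p, hp⟩ := hs r
    exact ⟨Ideal.Quotient.mk _ p, hp⟩
  haveI : IsNoetherianRing P := CohenLib.isNoetherianRing_mvPowerSeries _
  haveI : Nontrivial S := ψ.toRingHom.domain_nontrivial
  haveI : IsLocalRing S := IsLocalRing.of_surjective' (Ideal.Quotient.mk _) Ideal.Quotient.mk_surjective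
  let MS : Ideal S := (maximalIdeal A).map (algebraMap A S)
  have hress : Function.Surjective (cplRes A) := AdicCompletion.evalOneₐ_surjective _
  have hmaps : Function.Surjective (MvPowerSeries.map (σ := Fin 2) (cplRes A)) := fun F => by
    choose G hG using fun d => hress (MvPowerSeries.coeff d F)
    exact ⟨(fun d => G d : P), MvPowerSeries.ext fun d => by rw [MvPowerSeries.coeff_map]; exact hG d⟩
  have hh0' : cplRes A h = 0 := (cplRes_eq_zero_iff A h).2 (hmA ▸ hhm)
  let s₀ : P →+* N := (Ideal.Quotient.mk _).comp (MvPowerSeries.map (cplRes A))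
  have hs₀E : s₀ E = 0 := by
    refine Ideal.Quotient.eq_zero_iff_mem.2 ?_
    have : MvPowerSeries.map (cplRes A) E = MvPowerSeries.C (cplRes A a) * MvPowerSeries.X 0 ^ 2 +
        MvPowerSeries.C (cplRes A b) * MvPowerSeries.X 0 * MvPowerSeries.X 1 +
        MvPowerSeries.C (cplRes A c) * MvPowerSeries.X 1 ^ 2 := by
      simp only [E, map_sub, map_add, map_mul, map_pow, MvPowerSeries.map_X]
      erw [MvPowerSeries.map_C, MvPowerSeries.map_C, MvPowerSeries.map_C, MvPowerSeries.map_C, hh0', map_zero, sub_zero]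
    rw [this]
    exact Ideal.mem_span_singleton_self _
  let s : S →+* N := Ideal.Quotient.lift _ s₀ fun x hx => by
    obtain ⟨t, rfl⟩ := Ideal.mem_span_singleton.1 hx
    rw [map_mul, hs₀E, zero_mul]
  have hs : Function.Surjective s := fun y => by
    obtain ⟨F, rfl⟩ := Ideal.Quotient.mk_surjective y
    obtain ⟨G, rfl⟩ := hmaps F
    exact ⟨Ideal.Quotient.mk _ G, rfl⟩
  have hsker : RingHom.ker s ≤ MS := by
    intro x hx
    obtain ⟨f, rfl⟩ := Ideal.Quotient.mk_surjective x
    have hx' : Ideal.Quotient.mk _ (MvPowerSeries.map (cplRes A) f) = (0 : N) := hx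
    obtain ⟨t, ht⟩ := Ideal.mem_span_singleton.1 (Ideal.Quotient.eq_zero_iff_mem.1 hx')
    obtain ⟨G, rfl⟩ := hmaps t
    have h1 : f - E * G ∈ ((maximalIdeal A).map (algebraMap A Ah)).map (MvPowerSeries.C (σ := Fin 2)) := by
      refine NodeCplLib.mem_map_C_of_coeff_mem (IsNoetherian.noetherian _) _ fun d => ?_
      rw [← cplRes_eq_zero_iff, ← MvPowerSeries.coeff_map]
      have hzero : MvPowerSeries.map (cplRes A) (f - E * G) = 0 := by
        simp only [map_sub, map_mul, ht, E, map_add, map_pow, MvPowerSeries.map_X]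
        erw [MvPowerSeries.map_C, MvPowerSeries.map_C, MvPowerSeries.map_C, MvPowerSeries.map_C, hh0', map_zero,
          sub_zero, sub_self]
      rw [hzero, map_zero]
    rw [Ideal.map_map] at h1
    have h2 := Ideal.mem_map_of_mem (Ideal.Quotient.mk (Ideal.span {E})) h1
    rw [Ideal.map_map, map_sub, map_mul, Ideal.Quotient.eq_zero_iff_mem.2 (Ideal.mem_span_singleton_self E),
      zero_mul, sub_zero] at h2
    have hA : (Ideal.Quotient.mk (Ideal.span {E})).comp ((MvPowerSeries.C (σ := Fin 2)).comp (algebraMap A Ah))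
        = algebraMap A S := RingHom.ext fun r => by
      show _ = Ideal.Quotient.mk _ (algebraMap A P r)
      rw [MvPowerSeries.algebraMap_apply]; rfl
    show _ ∈ Ideal.map (algebraMap A S) _
    rw [← hA]
    exact h2
  let r₀ : S →+* N := θ.comp ψ.toRingHom
  have hrs : Function.Surjective r₀ := hθ.comp hψs
  have hrM : MS ≤ RingHom.ker r₀ := Ideal.map_le_iff_le_comap.2 fun x hx => by
    show θ (ψ (algebraMap A S x)) = 0
    rw [AlgHom.commutes, ← RingHom.mem_ker, hker]
    exact Ideal.mem_map_of_mem _ hx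
  let F : N →+* N := RingHom.liftOfSurjective s hs ⟨r₀, hsker.trans hrM⟩
  have hF : ∀ x, F (s x) = r₀ x := fun x => RingHom.liftOfRightInverse_comp_apply _ _ _ _ x
  have hFi : Function.Injective F := CohenLib.injective_of_surjective_ringEndo F fun y => by
    obtain ⟨x, rfl⟩ := hrs y; exact ⟨s x, hF x⟩
  have hK : RingHom.ker ψ ≤ MS := fun x hx => hsker <| hFi <| by
    rw [hF, map_zero]
    show θ (ψ x) = 0
    rw [show ψ x = 0 from hx, map_zero]
  have hMS : MS ≤ maximalIdeal S := Ideal.map_le_iff_le_comap.2 fun x hx hu' => by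
    have h1 := ψ.toRingHom.isUnit_map hu'
    have h2 : ψ.toRingHom (algebraMap A S x) ∈ maximalIdeal B := by
      show ψ (algebraMap A S x) ∈ _
      rw [AlgHom.commutes]
      exact hMle (Ideal.mem_map_of_mem _ hx)
    exact (mem_maximalIdeal _).1 h2 h1
  have hψi : Function.Injective ψ := by
    rw [show Function.Injective ψ ↔ RingHom.ker ψ = ⊥ from RingHom.injective_iff_ker_eq_bot _]
    exact Submodule.eq_bot_of_le_smul_of_le_jacobson_bot MS _ (IsNoetherian.noetherian _)
      (NodeCplLib.ker_le_map_mul_ker ψ hψs _ hK) (hMS.trans (maximalIdeal_le_jacobson _))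
  refine ⟨h, hhm, (AlgEquiv.ofBijective ψ ⟨hψi, hψs⟩).symm.toRingEquiv, fun r => ?_⟩
  show (AlgEquiv.ofBijective ψ ⟨hψi, hψs⟩).symm (algebraMap A B r) = _
  rw [AlgEquiv.commutes]
  show Ideal.Quotient.mk _ (algebraMap A P r) = _
  rw [MvPowerSeries.algebraMap_apply]

end NodalLib

end
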