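import Groth.Agent.NodalLib.FitNode
import Groth.Agent.NodalLib.GeoQuad
import Groth.Agent.CIRingLib.Open
import Groth.Agent.TransLib.SmoothCI
import Groth.Agent.TransLib.FieldCI
import Groth.Agent.CohenLib.FSRegular
import Mathlib.RingTheory.Unramified.Field

/-!
# Nodes among curve singularities: complete intersection with unramified singular scheme
-/

set_option autoImplicit false
set_option linter.style.haveILetI false
set_option linter.unusedSectionVars false
set_option maxHeartbeats 1000000
set_option synthInstance.maxHeartbeats 100000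
set_option backward.isDefEq.respectTransparency false
set_option backward.isDefEq.respectTransparency.types false

universe u

open IsLocalRing

noncomputable section

namespace NodalLib

variable {k : Type u} [Field k] {A : Type u} [CommRing A] [IsLocalRing A] [Algebra k A]

/-- A proper quotient of a local algebra over a field is unramified iff it is the residue field and this is separable. -/
theorem formallyUnramified_quotient_iff [Algebra.EssFiniteType k A] (I : Ideal A) (hI : I ≠ ⊤) :
    Algebra.FormallyUnramified k (A ⧸ I) ↔ I = maximalIdeal A ∧ Algebra.IsSeparable k (ResidueField A) := by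
  haveI : Algebra.EssFiniteType A (ResidueField A) := inferInstance
  haveI : Algebra.EssFiniteType k (ResidueField A) := Algebra.EssFiniteType.comp k A _
  constructor
  · intro h
    haveI := Ideal.Quotient.nontrivial_iff.2 hI
    haveI : IsLocalRing (A ⧸ I) := IsLocalRing.of_surjective' (Ideal.Quotient.mk I) Ideal.Quotient.mk_surjective
    haveI : Algebra.EssFiniteType k (A ⧸ I) :=
      Algebra.EssFiniteType.of_surjective (Ideal.Quotient.mkₐ k I) Ideal.Quotient.mk_surjective
    haveI := Algebra.FormallyUnramified.finite_of_free k (A ⧸ I)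
    haveI := IsArtinianRing.of_finite k (A ⧸ I)
    haveI := Algebra.FormallyUnramified.isReduced_of_field k (A ⧸ I)
    have hIm : I = maximalIdeal A :=
      IsLocalRing.eq_maximalIdeal (Ideal.Quotient.maximal_of_isField _
        (IsArtinianRing.isField_of_isReduced_of_isLocalRing _))
    refine ⟨hIm, ?_⟩
    subst hIm
    haveI : Algebra.FormallyUnramified k (ResidueField A) := h
    exact Algebra.FormallyUnramified.isSeparable k _
  · rintro ⟨rfl, hsep⟩
    exact Algebra.FormallyUnramified.of_isSeparable k (ResidueField A)

/-- A quadratic node is a complete intersection. -/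
theorem isCompleteIntersection_of_qnode [IsNoetherianRing A] [Algebra.FormallySmooth k (ResidueField A)]
    (h : QNode A) : Pi1.IsCompleteIntersection A := by
  obtain ⟨a, b, c, hd, e, -⟩ := exists_cpl_equiv k h
  let P := MvPowerSeries (Fin 2) (ResidueField A)
  haveI : IsRegularLocalRing P := CohenLib.isRegularLocalRing_mvPowerSeries (L := ResidueField A) 2
  let q : P := MvPowerSeries.C a * MvPowerSeries.X 0 ^ 2 + MvPowerSeries.C b * MvPowerSeries.X 0 * MvPowerSeries.X 1 +
    MvPowerSeries.C c * MvPowerSeries.X 1 ^ 2
  have hq0 : q ≠ 0 := fun h0 => by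
    have hb : b = 0 := by
      have := congrArg (MvPowerSeries.coeff (Finsupp.single (0 : Fin 2) 1 + Finsupp.single 1 1)) h0
      simpa [q, MvPowerSeries.coeff_C_mul, MvPowerSeries.X, MvPowerSeries.coeff_monomial,
        MvPowerSeries.monomial_mul_monomial, pow_two, mul_assoc, Finsupp.ext_iff, Fin.forall_fin_two] using this
    have ha : a = 0 := by
      have := congrArg (MvPowerSeries.coeff (Finsupp.single (0 : Fin 2) 2)) h0
      simpa [q, MvPowerSeries.coeff_C_mul, MvPowerSeries.X, MvPowerSeries.coeff_monomial,
        MvPowerSeries.monomial_mul_monomial, pow_two, mul_assoc, Finsupp.ext_iff, Fin.forall_fin_two] using this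
    exact hd (by rw [ha, hb]; ring)
  have hqm : q ∈ maximalIdeal P := by
    rw [IsLocalRing.mem_maximalIdeal, mem_nonunits_iff, MvPowerSeries.isUnit_iff_constantCoeff]
    simp [q]
  refine (CIRingLib.isCompleteIntersection_iff_cpl (e.symm.toRingHom.comp (Ideal.Quotient.mk _))
    (e.symm.surjective.comp Ideal.Quotient.mk_surjective)).2 ⟨[q], ?_, ?_⟩
  · haveI : IsDomain P := CommAlgDim.isDomain_of_isRegularLocalRing P
    refine CommAlgDim.isRegular_cons_ring.2 ⟨fun u v huv => mul_left_cancel₀ hq0 huv, ?_⟩
    haveI := CommAlgDim.nontrivial_quotient (CommAlgDim.singleton_ne_top hqm)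
    exact RingTheory.Sequence.IsRegular.nil _ _
  · rw [← RingHom.comap_ker, show RingHom.ker e.symm.toRingHom = ⊥ from
      (RingHom.injective_iff_ker_eq_bot _).1 e.symm.injective, ← RingHom.ker_eq_comap_bot, Ideal.mk_ker,
      Ideal.ofList_singleton]

/-- For a singular one-dimensional local algebra: node iff complete intersection with unramified singular scheme. -/
theorem isGeoNode_iff_ci_fit [IsNoetherianRing A] [Algebra.EssFiniteType k A]
    (hdim : ringKrullDim A = 1) (hns : ¬ Algebra.FormallySmooth k A) (hJ : Fitt.ideal A Ω[A⁄k] 1 ≠ ⊤) :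
    IsGeoNode k A ↔ Synt.IsCIOver k A ∧ Algebra.FormallyUnramified k (A ⧸ Fitt.ideal A Ω[A⁄k] 1) := by
  rw [formallyUnramified_quotient_iff _ hJ, isGeoNode_iff_qnode]
  constructor
  · rintro ⟨hsep, hq⟩
    haveI := hsep
    haveI : Algebra.FormallyEtale k (ResidueField A) := Algebra.FormallyEtale.of_isSeparable k _
    exact ⟨CIRingLib.isCIOver_of_ci (isCompleteIntersection_of_qnode (k := k) hq), fit_qnode hq, hsep⟩
  · rintro ⟨hci, hfit, hsep⟩
    haveI := hsep
    obtain ⟨rs, hrs, hlen⟩ := TransLib.isCM_of_isCIOver hci
    rw [hdim] at hlen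
    have hl : rs.length = 1 := by exact_mod_cast hlen.symm
    obtain ⟨t, rfl⟩ := List.length_eq_one_iff.1 hl
    refine ⟨hsep, qnode_of_fit hdim ⟨t, CommAlgDim.mem_maximalIdeal_of_isRegular hrs t (by simp), ?_⟩ hns hfit⟩
    have ht := (CommAlgDim.isRegular_cons_ring.1 hrs).1
    exact mem_nonZeroDivisors_iff_right.2 fun z hz => ht (show t * z = t * 0 by rw [mul_zero, mul_comm]; exact hz)

end NodalLib

end
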