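import Groth.Agent.NodalLib.SingLocal
import Groth.Agent.NodalLib.FitStalk
import Groth.Agent.SmoothDimLib.Omega
import Groth.Agent.CIRingLib.MorApps
import Groth.Agent.TransLib.SyntField
import Groth.Agent.S9287

/-!
# At-worst-nodal curves: local complete intersections with unramified singular scheme
-/

set_option autoImplicit false
set_option linter.style.haveILetI false
set_option linter.unusedSectionVars false
set_option maxHeartbeats 1000000
set_option synthInstance.maxHeartbeats 100000
set_option backward.isDefEq.respectTransparency false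
set_option backward.isDefEq.respectTransparency.types false

universe u

open CategoryTheory CategoryTheory.Limits AlgebraicGeometry IsLocalRing

noncomputable section

namespace NodalLib

/-- A flat morphism is a local complete intersection iff it is syntomic. -/
theorem isLCIMor_iff_syntomic {X S : Scheme.{u}} (f : X ⟶ S) [Flat f] :
    Dual3.IsLCIMor f ↔ Synt.IsSyntomicMor f := by
  refine forall_congr' fun x => exists_congr fun U => exists_congr fun V => exists_congr fun e =>
    and_congr_right fun _ => ?_
  letI := (f.appLE V.1 U.1 e).hom.toAlgebra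
  refine Iff.trans ?_ (Groth.Agent.S9287.result Γ(S, V.1) Γ(X, U.1)).symm
  exact (and_iff_right (HasRingHomProperty.appLE (P := @Flat) f inferInstance V U e)).symm

variable (k : Type u) [Field k] {X : Scheme.{u}} [X.Over (Spec (CommRingCat.of k))]
  [LocallyOfFiniteType (X ↘ Spec (CommRingCat.of k))]

/-- Syntomic over a field means complete intersection local rings. -/
theorem syntomic_iff_stalk :
    Synt.IsSyntomicMor (X ↘ Spec (CommRingCat.of k)) ↔
      ∀ x : X, letI := Curv2.stalkAlgebra k X x; Synt.IsCIOver k (X.presheaf.stalk x) := by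
  have hA : ∀ x : X,
      (TransLib.structMap (X ↘ Spec (CommRingCat.of k)) ⊤ ≫ X.presheaf.germ ⊤ x trivial).hom.toAlgebra =
        Curv2.stalkAlgebra k X x := fun x => Algebra.algebra_ext _ _ fun c => by
    show (X.presheaf.germ ⊤ x trivial).hom (((X ↘ Spec (CommRingCat.of k)).appLE ⊤ ⊤ le_top).hom
        ((Scheme.ΓSpecIso (CommRingCat.of k)).inv.hom c)) =
      (X.presheaf.germ ⊤ x trivial).hom (((X ↘ Spec (CommRingCat.of k)).appTop).hom
        ((Scheme.ΓSpecIso (CommRingCat.of k)).inv.hom c))
    rw [Scheme.Hom.appLE, CommRingCat.comp_apply, X.presheaf.germ_res_apply]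
    rfl
  have h := (TransLib.tfae_syntomic_field (X ↘ Spec (CommRingCat.of k))).out 0 2
  exact h.trans (forall_congr' fun x => by rw [hA x])

/-- The local algebras of a closed subscheme are the quotients of those of the ambient scheme. -/
theorem formallyUnramified_stalk_subscheme (I : X.IdealSheafData) :
    letI : I.subscheme.Over (Spec (CommRingCat.of k)) := ⟨I.subschemeι ≫ (X ↘ Spec (CommRingCat.of k))⟩
    ∀ z : I.subscheme,
      (letI := Curv2.stalkAlgebra k I.subscheme z; Algebra.FormallyUnramified k (I.subscheme.presheaf.stalk z)) ↔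
        (letI := Curv2.stalkAlgebra k X (I.subschemeι z);
          Algebra.FormallyUnramified k (X.presheaf.stalk (I.subschemeι z) ⧸ IntMult.stalkIdeal I (I.subschemeι z))) := by
    intro z
    letI : I.subscheme.Over (Spec (CommRingCat.of k)) := ⟨I.subschemeι ≫ (X ↘ Spec (CommRingCat.of k))⟩
    letI := Curv2.stalkAlgebra k I.subscheme z
    letI := Curv2.stalkAlgebra k X (I.subschemeι z)
    let φ : X.presheaf.stalk (I.subschemeι z) →ₐ[k] I.subscheme.presheaf.stalk z :=
      { (I.subschemeι.stalkMap z).hom with
        commutes' := fun c => by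
          show (I.subschemeι.stalkMap z).hom ((X.presheaf.germ ⊤ _ trivial).hom
              (((X ↘ Spec (CommRingCat.of k)).appTop).hom ((Scheme.ΓSpecIso (CommRingCat.of k)).inv.hom c))) =
            (I.subscheme.presheaf.germ ⊤ z trivial).hom
              (((I.subschemeι ≫ (X ↘ Spec (CommRingCat.of k))).appTop).hom
                ((Scheme.ΓSpecIso (CommRingCat.of k)).inv.hom c))
          rw [Scheme.Hom.germ_stalkMap_apply]
          rfl }
    have hs : Function.Surjective φ := I.subschemeι.stalkMap_surjective z
    obtain ⟨U, hU, hxU, -⟩ := exists_isAffineOpen_mem_and_subset (x := I.subschemeι z) (U := ⊤) trivial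
    have hk : RingHom.ker φ.toRingHom = IntMult.stalkIdeal I (I.subschemeι z) := by
      show RingHom.ker (I.subschemeι.stalkMap z).hom = _
      rw [FComplLib.ker_stalkMap I.subschemeι z ⟨U, hU⟩ hxU, I.ker_subschemeι, SDivLib.stalkIdeal_eq I ⟨U, hU⟩ hxU]
    let e := (Ideal.quotientEquivAlgOfEq k hk.symm).trans (Ideal.quotientKerAlgEquivOfSurjective hs)
    exact ⟨fun _ => Algebra.FormallyUnramified.of_equiv e.symm, fun _ => Algebra.FormallyUnramified.of_equiv e⟩

/-- A closed subscheme is formally unramified over the field iff its local rings are. -/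
theorem formallyUnramified_subscheme_iff (I : X.IdealSheafData) :
    FormallyUnramified (I.subschemeι ≫ (X ↘ Spec (CommRingCat.of k))) ↔
      ∀ x ∈ I.support, letI := Curv2.stalkAlgebra k X x;
        Algebra.FormallyUnramified k (X.presheaf.stalk x ⧸ IntMult.stalkIdeal I x) := by
  letI O : I.subscheme.Over (Spec (CommRingCat.of k)) := ⟨I.subschemeι ≫ (X ↘ Spec (CommRingCat.of k))⟩
  haveI : LocallyOfFiniteType (I.subscheme ↘ Spec (CommRingCat.of k)) :=
    show LocallyOfFiniteType (I.subschemeι ≫ (X ↘ Spec (CommRingCat.of k))) from inferInstance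
  show FormallyUnramified (I.subscheme ↘ Spec (CommRingCat.of k)) ↔ _
  rw [formallyUnramified_iff_stalk k]
  have key := formallyUnramified_stalk_subscheme k I
  constructor
  · intro h x hx
    obtain ⟨z, rfl⟩ : x ∈ Set.range I.subschemeι := I.range_subschemeι.symm.subset hx
    exact (key z).1 (h z)
  · exact fun h z => (key z).2 (h _ (I.range_subschemeι.subset ⟨z, rfl⟩))

/-- On a curve over a field the fibres of the structure map have one-dimensional components. -/
theorem fiber_components_field (h : ∀ Z ∈ irreducibleComponents (X : Type u), topologicalKrullDim Z = 1)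
    (s : ↥(Spec (CommRingCat.of k))) (T : Set ↥((X ↘ Spec (CommRingCat.of k)).fiber s))
    (hT : T ∈ irreducibleComponents ↥((X ↘ Spec (CommRingCat.of k)).fiber s)) : topologicalKrullDim ↥T = 1 := by
  let p := X ↘ Spec (CommRingCat.of k)
  have huniv : p ⁻¹' {s} = Set.univ := by
    ext x
    simp only [Set.mem_preimage, Set.mem_singleton_iff, Set.mem_univ, iff_true]
    exact Subsingleton.elim (α := PrimeSpectrum k) _ _
  let e : ↥(p.fiber s) ≃ₜ X := ((p.fiberHomeo s).trans (Homeomorph.setCongr huniv)).trans (Homeomorph.Set.univ X)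
  obtain ⟨t, ht⟩ := hT.1.nonempty
  have h2 : e.symm ⁻¹' T ∈ irreducibleComponents (X : Type u) :=
    preimage_mem_irreducibleComponents hT e.symm.isOpenEmbedding ⟨t, ht, e t, e.symm_apply_apply t⟩
  rw [← h _ h2, show e.symm ⁻¹' T = e '' T from (Homeomorph.image_eq_preimage_symm e T).symm]
  exact (e.image T).isHomeomorph.topologicalKrullDim_eq

/-- Criterion for a curve to have at worst nodal singularities. -/
theorem atWorstNodal_iff_ci_sing (hequi : ∀ Z ∈ irreducibleComponents (X : Type u), topologicalKrullDim Z = 1)
    {Ω' : X.Modules} {d : OmegaSh.Der (X ↘ Spec (CommRingCat.of k)) Ω'} (hd : OmegaSh.IsUniversal d) :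
    Curv2.AtWorstNodal k X ↔
      Synt.IsSyntomicMor (X ↘ Spec (CommRingCat.of k)) ∧
        FormallyUnramified ((Fitt.sheafIdeal Ω' 1).subschemeι ≫ (X ↘ Spec (CommRingCat.of k))) := by
  haveI := lfp_over k (X := X)
  haveI : IsLocallyNoetherian X := LocallyOfFiniteType.isLocallyNoetherian (X ↘ Spec (CommRingCat.of k))
  haveI : Subsingleton ↥(Spec (CommRingCat.of k)) := inferInstanceAs (Subsingleton (PrimeSpectrum k))
  haveI : Flat (X ↘ Spec (CommRingCat.of k)) := inferInstance
  rw [syntomic_iff_stalk k, formallyUnramified_subscheme_iff k]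
  have hcd : CurveDims X := hequi
  have hdims := (curveDims_iff X).1 hcd
  have hsupp : ∀ x : X, x ∈ (Fitt.sheafIdeal Ω' 1).support ↔
      ¬ (letI := Curv2.stalkAlgebra k X x; Algebra.FormallySmooth k (X.presheaf.stalk x)) := fun x => by
    rw [SmoothDimLib.support_fitting_omega hd 1 (fun s T hT => fiber_components_field k hequi s T hT) x,
      smooth_nhd_iff, mem_smoothLocus_iff_stalk k x]
  have hcase : ∀ x : X, x ∈ (Fitt.sheafIdeal Ω' 1).support → ringKrullDim (X.presheaf.stalk x) = 1 →
      ((letI := Curv2.stalkAlgebra k X x; IsGeoNode k (X.presheaf.stalk x)) ↔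
        (letI := Curv2.stalkAlgebra k X x; Synt.IsCIOver k (X.presheaf.stalk x) ∧
          Algebra.FormallyUnramified k (X.presheaf.stalk x ⧸ IntMult.stalkIdeal (Fitt.sheafIdeal Ω' 1) x))) := by
    intro x hx h1
    letI := Curv2.stalkAlgebra k X x
    haveI := essFiniteType_stalk k x
    have hne := (SDivLib.mem_support_iff_stalk _ x).1 hx
    rw [stalkIdeal_fit k hd 1 x] at hne ⊢
    exact isGeoNode_iff_ci_fit h1 ((hsupp x).1 hx) hne
  constructor
  · intro hX
    have hall := forall_of_atWorstNodal k (topologicalKrullDim_le_one_of_curveDims hcd) hX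
    have hnode : ∀ x : X, x ∈ (Fitt.sheafIdeal Ω' 1).support →
        (letI := Curv2.stalkAlgebra k X x; IsGeoNode k (X.presheaf.stalk x)) ∧
          ringKrullDim (X.presheaf.stalk x) = 1 := by
      intro x hx
      letI := Curv2.stalkAlgebra k X x
      haveI := essFiniteType_stalk k x
      have hn := (hall x).resolve_left fun hs => (hsupp x).1 hx
        ((mem_smoothLocus_iff_stalk k x).1 ((smooth_nhd_iff _ x).1 hs))
      refine ⟨hn, le_antisymm (hdims x).1 ?_⟩
      obtain ⟨-, a, b, a', b', c', -, -, -, -, t, htm, ht⟩ := isGeoNode_iff_qnode.1 hn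
      have := ringKrullDim_succ_le_of_surjective (residue (X.presheaf.stalk x)) residue_surjective ht
        ((residue_eq_zero_iff t).2 htm)
      rwa [ringKrullDim_eq_zero_of_field, zero_add] at this
    refine ⟨fun x => ?_, fun x hx => ((hcase x hx (hnode x hx).2).1 (hnode x hx).1).2⟩
    by_cases hx : x ∈ (Fitt.sheafIdeal Ω' 1).support
    · exact ((hcase x hx (hnode x hx).2).1 (hnode x hx).1).1
    · letI := Curv2.stalkAlgebra k X x
      haveI := essFiniteType_stalk k x
      haveI : Algebra.FormallySmooth k (X.presheaf.stalk x) := not_not.1 fun h => hx ((hsupp x).2 h)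
      haveI : IsRegularLocalRing (X.presheaf.stalk x) := CohenLib.isRegularLocalRing_of_formallySmooth (k := k)
      exact TransLib.isCIOver_of_isRegularLocalRing _
  · rintro ⟨hci, hfu⟩ x hclosed
    by_cases hx : x ∈ (Fitt.sheafIdeal Ω' 1).support
    · refine Or.inr ((isNode_iff k x).2 ⟨hclosed, ?_⟩)
      have h1 : ringKrullDim (X.presheaf.stalk x) = 1 := by
        obtain ⟨hle, h0⟩ := hdims x
        refine le_antisymm hle ?_
        have h := ringKrullDim_nonneg_of_nontrivial (R := X.presheaf.stalk x)
        have hne : ringKrullDim (X.presheaf.stalk x) ≠ 0 := fun e => h0 e hclosed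
        revert h hne
        cases ringKrullDim (X.presheaf.stalk x) with
        | bot => simp
        | coe v =>
          intro h hne
          exact_mod_cast Order.one_le_iff_pos.2 (pos_of_ne_zero (fun e => hne (by rw [e]; rfl)))
      exact (hcase x hx h1).2 ⟨hci x, hfu x hx⟩
    · refine Or.inl ((smooth_nhd_iff _ x).2 ((mem_smoothLocus_iff_stalk k x).2 ?_))
      exact not_not.1 fun h => hx ((hsupp x).2 h)

end NodalLib

end
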