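import Groth.Agent.NefH1Lib.Adjunction.FieldGenus
import Groth.Agent.GenusZeroLib.Mult

/-!
# Endomorphisms of the structure sheaf of a connected reduced proper scheme
-/

set_option autoImplicit false
set_option linter.style.haveILetI false
set_option linter.unusedSectionVars false
set_option maxHeartbeats 1000000
set_option backward.isDefEq.respectTransparency false
set_option backward.isDefEq.respectTransparency.types false

universe u

open CategoryTheory CategoryTheory.Limits AlgebraicGeometry TopologicalSpace Opposite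

noncomputable section

namespace NodalLib

variable (k : Type u) [Field k] {X : Scheme.{u}} [X.Over (Spec (CommRingCat.of k))]
  [IsProper (X ↘ Spec (CommRingCat.of k))] [IsReduced X] [ConnectedSpace X]

include k in
/-- A nonzero endomorphism of `O` is an automorphism. -/
theorem isIso_of_ne_zero (c : Coh.structureModule X ⟶ Coh.structureModule X) (hc : c ≠ 0) : IsIso c := by
  haveI := CurvLib.isNoetherian k (X := X)
  let ρ : k →+* Γ(X, ⊤) := Coh.toGlobal (X ↘ Spec (CommRingCat.of k))
  letI : Algebra k Γ(X, ⊤) := ρ.toAlgebra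
  haveI : Module.Finite k Γ(X, ⊤) := by
    haveI := CurvLib.finite_HH (k := k) (DevissLib.isCoh_structureModule X) 0
    letI := GenusZeroLib.kmod k (X := X) (Coh.structureModule X)
    let e : Γ(Coh.structureModule X, ⊤) ≃ₗ[k] Γ(X, ⊤) :=
      { AddEquiv.refl (Γ(Coh.structureModule X, ⊤)) with map_smul' := fun r x => (Algebra.smul_def r (show Γ(X, ⊤) from x)).symm }
    exact Module.Finite.equiv ((GenusZeroLib.e0k k (Coh.structureModule X)).trans e)
  haveI : Algebra.IsIntegral k Γ(X, ⊤) := Algebra.IsIntegral.of_finite k _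
  let a : Γ(X, ⊤) := c.app ⊤ (1 : Γ(X, ⊤))
  have hc' : ∀ (V : X.Opens) (r : Γ(X, V)), (show Γ(X, V) from c.app V r) = r * X.presheaf.map (homOfLE (le_top : V ≤ ⊤)).op a := by
    intro V r
    have h1 := QCohLib.app_smul c V r (show Γ(Coh.structureModule X, V) from (1 : Γ(X, V)))
    have h2 : c.app V (1 : Γ(X, V)) = X.presheaf.map (homOfLE (le_top : V ≤ ⊤)).op a := by
      refine Eq.trans ?_ (QCohLib.app_map c (homOfLE (le_top : V ≤ ⊤)) (1 : Γ(X, ⊤)))
      exact congrArg _ (map_one (X.presheaf.map (homOfLE (le_top : V ≤ ⊤)).op).hom).symm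
    refine Eq.trans ?_ (congrArg (r * ·) h2)
    refine Eq.trans ?_ h1
    exact congrArg _ (mul_one r).symm
  have hne : a ≠ 0 := fun h => hc (Scheme.Modules.hom_ext _ _ fun V => ConcreteCategory.hom_ext _ _ fun r => by
    refine (hc' V r).trans ?_
    rw [h, map_zero]
    exact mul_zero (show Γ(X, V) from r))
  obtain ⟨u, hu⟩ := H0Lib.isUnit_of_isIntegral H0Lib.eq_zero_or_one_of_idempotent
    (Algebra.IsIntegral.isIntegral (R := k) a) hne
  let d : Coh.structureModule X ⟶ Coh.structureModule X :=
    QCohLib.unitHom (Coh.structureModule X) (show Γ(Coh.structureModule X, ⊤) from (↑u⁻¹ : Γ(X, ⊤)))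
  have hd : ∀ (V : X.Opens) (r : Γ(X, V)),
      (show Γ(X, V) from d.app V r) = r * X.presheaf.map (homOfLE (le_top : V ≤ ⊤)).op (↑u⁻¹ : Γ(X, ⊤)) := fun V r =>
    QCohLib.unitHom_app (Coh.structureModule X) _ V r
  refine ⟨d, Scheme.Modules.hom_ext _ _ fun V => ConcreteCategory.hom_ext _ _ fun r => ?_,
    Scheme.Modules.hom_ext _ _ fun V => ConcreteCategory.hom_ext _ _ fun r => ?_⟩
  · show d.app V (c.app V r) = r
    refine (hd V _).trans ?_
    refine (congrArg (· * _) (hc' V r)).trans ?_
    rw [mul_assoc, ← map_mul, ← hu, Units.mul_inv, map_one]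
    exact mul_one _
  · show c.app V (d.app V r) = r
    refine (hc' V _).trans ?_
    refine (congrArg (· * _) (hd V r)).trans ?_
    rw [mul_assoc, ← map_mul, ← hu, Units.inv_mul, map_one]
    exact mul_one _

end NodalLib

end
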